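import Cfsg.Agent.Lib.Char.RelMcKay.Triple
import Cfsg.Agent.Lib.CharDegree.Twist

/-!
# The number of characters over an invariant character, by commuting pairs
-/

set_option autoImplicit false
set_option linter.all false
set_option maxHeartbeats 400000

namespace CfsgLib.Char.RelMcKay

open CfsgLib.CharExt CfsgLib.CharDegree CfsgLib.CharAction
open scoped ComplexConjugate Classical commutatorElement
open Module

universe u v

variable {G : Type u} [Group G] [Fintype G] {N : Subgroup G} [hN : N.Normal] [Fintype N]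
  {V : Type v} [AddCommGroup V] [Module ℂ V] [FiniteDimensional ℂ V]

/-- The pair formula. -/
theorem card_over_eq_sum_om (σ : Representation ℂ N V) [σ.IsIrreducible]
    (hinv : ∀ g n, σ.character (cn g n) = σ.character n) (H : Subgroup G) (hH : H ⊔ N = ⊤) :
    (Nat.card H : ℂ) * (Nat.card (H ⊓ N : Subgroup G) : ℂ) *
        (Nat.card {χ : Cfsg.IrrCharacter G // IsOver N.subtype σ.character (χ : G → ℂ)} : ℂ) =
      ∑ x : H, ∑ y : H, om σ (x : G) (y : G) := by
  obtain ⟨T⟩ := exists_triple σ hinv (Nat.card N) Nat.card_pos.ne' 1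
    (fun n => by rw [← map_pow, pow_card_eq_one', map_one]; rfl)
  obtain ⟨Γ, f, hsurj, hcentral, -, l, homega, hcount⟩ := T
  have := Fintype.ofFinite Γ
  have := Fintype.ofFinite f.ker
  have := Fintype.ofFinite (G ⧸ N)
  -- the count in the covering group
  have hΓ : Nat.card {χ : Cfsg.IrrCharacter G // IsOver N.subtype σ.character (χ : G → ℂ)} =
      Nat.card {β : Cfsg.IrrCharacter Γ //
        IsOver f.ker.subtype (fun z => (l z : ℂ)) (β : Γ → ℂ)} := by
    have htop : (⊤ : Subgroup Γ) = ((⊤ : Subgroup G).map (QuotientGroup.mk' N)).comap f := by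
      rw [Subgroup.map_top_of_surjective _ (QuotientGroup.mk'_surjective N), Subgroup.comap_top]
    have h := hcount ⊤ le_top ⊤ htop le_top (fun _ => True)
    have h1 := card_over_congr (fun _ => True) (Subgroup.topEquiv (G := G)) (MulEquiv.refl N)
      (Subgroup.inclusion (le_top : N ≤ ⊤)) N.subtype (fun n => rfl) σ.character σ.character
      (fun n => rfl)
    have h2 := card_over_congr (fun _ => True) (Subgroup.topEquiv (G := Γ)) (MulEquiv.refl f.ker)
      (Subgroup.inclusion (le_top : f.ker ≤ ⊤)) f.ker.subtype (fun n => rfl)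
      (fun z => (l z : ℂ)) (fun z => (l z : ℂ)) (fun n => rfl)
    simp only [true_and] at h h1 h2
    rw [← h1, ← h2, h]
  rw [hΓ]
  have hformula := card_over_central hcentral l
  obtain ⟨s, hs⟩ := hsurj.hasRightInverse
  let F : Γ → Γ → ℂ := fun g y => if h : ⁅y, g⁆ ∈ f.ker then conj (l ⟨_, h⟩ : ℂ) else 0
  have hwd : ∀ g y g' y' : Γ, f g = f g' → f y = f y' → F g y = F g' y' := by
    intro g y g' y' eg ey
    have hz : ∀ a a' : Γ, f a = f a' → a' * a⁻¹ ∈ Subgroup.center Γ := fun a a' e =>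
      hcentral (by show f (a' * a⁻¹) = 1; rw [map_mul, map_inv, e, mul_inv_cancel])
    have hcomm : ⁅y', g'⁆ = ⁅y, g⁆ := by
      obtain ⟨z₁, hz₁, rfl⟩ : ∃ z ∈ Subgroup.center Γ, y' = z * y :=
        ⟨_, hz y y' ey, (inv_mul_cancel_right y' y).symm⟩
      obtain ⟨z₂, hz₂, rfl⟩ : ∃ z ∈ Subgroup.center Γ, g' = z * g :=
        ⟨_, hz g g' eg, (inv_mul_cancel_right g' g).symm⟩
      simp only [commutatorElement_def, mul_inv_rev]
      have c1 : ∀ a, a * z₁ = z₁ * a := Subgroup.mem_center_iff.mp hz₁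
      have c2 : ∀ a, a * z₂ = z₂ * a := Subgroup.mem_center_iff.mp hz₂
      calc z₁ * y * (z₂ * g) * (y⁻¹ * z₁⁻¹) * (g⁻¹ * z₂⁻¹)
          = z₁ * (y * z₂) * g * y⁻¹ * z₁⁻¹ * g⁻¹ * z₂⁻¹ := by group
        _ = z₁ * z₂ * (y * g * y⁻¹) * z₁⁻¹ * g⁻¹ * z₂⁻¹ := by rw [c2 y]; group
        _ = (z₂ * (y * g * y⁻¹)) * z₁ * z₁⁻¹ * g⁻¹ * z₂⁻¹ := by
            rw [c1 (z₂ * (y * g * y⁻¹))]; group
        _ = z₂ * (y * g * y⁻¹ * g⁻¹) * z₂⁻¹ := by group
        _ = y * g * y⁻¹ * g⁻¹ := by rw [← c2, mul_inv_cancel_right]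
    show F g y = F g' y'
    simp only [F]
    by_cases h : ⁅y, g⁆ ∈ f.ker
    · rw [dif_pos h, dif_pos (hcomm.symm ▸ h)]
      exact congrArg (fun u : f.ker => conj (l u : ℂ)) (Subtype.ext hcomm.symm)
    · rw [dif_neg h, dif_neg fun h' => h (hcomm ▸ h')]
  let Q : G ⧸ N → G ⧸ N → ℂ := fun q r => F (s q) (s r)
  have hQ : ∀ g y, F g y = Q (f g) (f y) := fun g y => hwd _ _ _ _ (hs _).symm (hs _).symm
  have hsum : ∑ g : Γ, ∑ y : Γ, F g y =
      (Nat.card f.ker : ℂ) * (Nat.card f.ker : ℂ) * ∑ q, ∑ r, Q q r := by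
    rw [Finset.sum_congr rfl fun g _ => (Finset.sum_congr rfl fun y _ => hQ g y).trans
      (sum_comp_surjective f hsurj fun r => Q (f g) r),
      sum_comp_surjective f hsurj fun q => (Nat.card f.ker : ℂ) * ∑ r, Q q r,
      ← Finset.mul_sum, mul_assoc]
  let h : H →* G ⧸ N := (QuotientGroup.mk' N).comp H.subtype
  have hhs : Function.Surjective h := fun q => by
    obtain ⟨g, rfl⟩ := QuotientGroup.mk'_surjective N q
    obtain ⟨a, ha, n, hn, rfl⟩ := Subgroup.mem_sup_of_normal_right.mp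
      (show g ∈ H ⊔ N by rw [hH]; trivial)
    refine ⟨⟨a, ha⟩, ?_⟩
    show QuotientGroup.mk' N a = _
    rw [map_mul, show QuotientGroup.mk' N n = 1 from (QuotientGroup.eq_one_iff n).mpr hn, mul_one]
  have hhk : Nat.card h.ker = Nat.card (H ⊓ N : Subgroup G) :=
    Nat.card_congr
      { toFun := fun a => ⟨(a : H), (a : H).2, (QuotientGroup.eq_one_iff _).mp a.2⟩
        invFun := fun a => ⟨⟨a, a.2.1⟩, (QuotientGroup.eq_one_iff (a : G)).mpr a.2.2⟩
        left_inv := fun a => rfl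
        right_inv := fun a => rfl }
  have hom : ∀ x y : H, om σ (x : G) (y : G) = Q (h y) (h x) := by
    intro x y
    obtain ⟨a, ha⟩ := hsurj (h x)
    obtain ⟨b, hb⟩ := hsurj (h y)
    rw [← ha, ← hb, ← hQ]
    simp only [F]
    by_cases hab : ⁅a, b⁆ ∈ f.ker
    · rw [dif_pos hab, IsOmega.om_eq (homega (x : G) (y : G) a b ha hb hab)]
      have h1 : (l ⟨_, hab⟩ : ℂ) * conj (l ⟨_, hab⟩ : ℂ) = 1 := by
        rw [Complex.mul_conj', norm_hom_units]; norm_num
      rw [Units.val_inv_eq_inv_val]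
      exact inv_eq_of_mul_eq_one_right h1
    · rw [dif_neg hab]
      unfold om
      rw [dif_neg]
      rintro ⟨c, A, B, -, -, hk, -⟩
      refine hab ?_
      show f ⁅a, b⁆ = 1
      rw [map_commutatorElement, ha, hb, ← map_commutatorElement]
      exact (QuotientGroup.eq_one_iff _).mpr hk
  have hsumH : ∑ x : H, ∑ y : H, om σ (x : G) (y : G) =
      (Nat.card h.ker : ℂ) * (Nat.card h.ker : ℂ) * ∑ q, ∑ r, Q q r := by
    rw [Finset.sum_congr rfl fun x _ => (Finset.sum_congr rfl fun y _ => hom x y).trans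
      (sum_comp_surjective h hhs fun r => Q r (h x)),
      sum_comp_surjective h hhs fun q => (Nat.card h.ker : ℂ) * ∑ r, Q r q,
      ← Finset.mul_sum, ← mul_assoc, Finset.sum_comm]
  have hcΓ : Nat.card Γ = Nat.card f.ker * Nat.card (G ⧸ N) := by
    rw [Subgroup.card_eq_card_quotient_mul_card_subgroup f.ker, mul_comm,
      Nat.card_congr (QuotientGroup.quotientKerEquivOfSurjective f hsurj).toEquiv]
  have hcH : Nat.card H = Nat.card h.ker * Nat.card (G ⧸ N) := by
    rw [Subgroup.card_eq_card_quotient_mul_card_subgroup h.ker, mul_comm,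
      Nat.card_congr (QuotientGroup.quotientKerEquivOfSurjective h hhs).toEquiv]
  have hF : (∑ g : Γ, ∑ y : Γ, if h : ⁅y, g⁆ ∈ f.ker then conj (l ⟨_, h⟩ : ℂ) else 0) =
      ∑ g : Γ, ∑ y : Γ, F g y := rfl
  replace hformula := Eq.trans (by convert hformula using 4) (hF.trans hsum) (a := (Nat.card Γ : ℂ) *
    (Nat.card f.ker : ℂ) * (Nat.card {β : Cfsg.IrrCharacter Γ //
      IsOver f.ker.subtype (fun z => (l z : ℂ)) (β : Γ → ℂ)} : ℂ))
  rw [hcΓ, Nat.cast_mul] at hformula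
  rw [hsumH, ← hhk, hcH, Nat.cast_mul]
  have hk0 : (Nat.card f.ker : ℂ) * (Nat.card f.ker : ℂ) ≠ 0 :=
    mul_ne_zero (Nat.cast_ne_zero.mpr Nat.card_pos.ne') (Nat.cast_ne_zero.mpr Nat.card_pos.ne')
  have h2 : (Nat.card (G ⧸ N) : ℂ) * (Nat.card {β : Cfsg.IrrCharacter Γ //
      IsOver f.ker.subtype (fun z => (l z : ℂ)) (β : Γ → ℂ)} : ℂ) = ∑ q, ∑ r, Q q r :=
    mul_left_cancel₀ hk0 (by linear_combination hformula)
  rw [← h2]
  ring

end CfsgLib.Char.RelMcKay
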