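import Cfsg.Agent.Lib.Char.RelMcKay.GlaubermanChain
import Cfsg.Agent.Lib.Char.RelMcKay.PairCount
import Cfsg.Agent.Lib.Char.CyclicTI.Basic

/-!
# Characters of degree prime to `p` over a character of a normal `p'`-subgroup
-/

set_option autoImplicit false
set_option linter.all false
set_option maxHeartbeats 1000000

namespace CfsgLib.Char.RelMcKay

open CfsgLib.CharAction CfsgLib.Clifford CfsgLib.CharExt CfsgLib.CharDegree CfsgLib.Gallagher
open scoped ComplexConjugate Classical commutatorElement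
open Module

universe u v

variable {G : Type u} [Group G] [Fintype G]

/-- The scalars computed in a subgroup agree with those computed in the group. -/
theorem om_map {G' : Type*} [Group G'] [Finite G'] {N : Subgroup G} {N' : Subgroup G'}
    {V : Type v} [AddCommGroup V] [Module ℂ V] [FiniteDimensional ℂ V]
    (σ : Representation ℂ N V) [σ.IsIrreducible] (σ' : Representation ℂ N' V) [σ'.IsIrreducible]
    (f : G' →* G) (hf : Function.Injective f)
    (hN : ∀ n : N, ∃ n' : N', f n' = n ∧ σ' n' = σ n) {x y : G'}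
    (hiff : ⁅f x, f y⁆ ∈ N ↔ ⁅x, y⁆ ∈ N')
    (hx : ∃ A, (x, A) ∈ intwGroup σ') (hy : ∃ B, (y, B) ∈ intwGroup σ')
    (hxN : f x ∈ Subgroup.normalizer (N : Set G)) (hyN : f y ∈ Subgroup.normalizer (N : Set G)) :
    om σ (f x) (f y) = om σ' x y := by
  by_cases h : ⁅x, y⁆ ∈ N'
  · obtain ⟨A, hA⟩ := hx
    obtain ⟨B, hB⟩ := hy
    obtain ⟨c, hc⟩ := exists_isOmega_of_intw σ' hA hB h
    rw [hc.om_eq, (IsOmega.map σ f hf hN hc (hiff.mpr h) hxN hyN).om_eq]
  · unfold om
    rw [dif_neg, dif_neg]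
    · rintro ⟨c, A, B, -, -, hk, -⟩; exact h hk
    · rintro ⟨c, A, B, -, -, hk, -⟩; exact h (hiff.mp hk)

/-- `h` fixes the linear character `μ` of `S`. -/
def FixesLin (S : Subgroup G) (μ : S →* ℂˣ) (h : G) : Prop :=
  ∀ s s' : S, (s' : G) = h * s * h⁻¹ → μ s' = μ s

noncomputable instance (S : Subgroup G) : Fintype (S →* ℂˣ) :=
  have := CfsgLib.CyclicTI.finite_hom S
  Fintype.ofFinite _

/-- The sum of commutator scalars over pairs fixing a linear character. -/
noncomputable def pairSum {K : Subgroup G} {V : Type v} [AddCommGroup V] [Module ℂ V]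
    (σ : Representation ℂ K V) (S H : Subgroup G) : ℂ :=
  ∑ μ : S →* ℂˣ, ∑ x : H, ∑ y : H,
    if FixesLin S μ x ∧ FixesLin S μ y then om σ (x : G) (y : G) else 0

variable {p : ℕ} [Fact p.Prime]

/-- The count over a character of a normal `p'`-subgroup with normal Sylow quotient. -/
theorem base_count {K : Subgroup G} [hKn : K.Normal] [Fintype K] {V : Type v} [AddCommGroup V]
    [Module ℂ V] [FiniteDimensional ℂ V] (σ : Representation ℂ K V) [σ.IsIrreducible]
    (hinv : ∀ g n, σ.character (cn g n) = σ.character n) (hKp : ¬ p ∣ Nat.card K)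
    (S H : Subgroup G) (hS : IsPGroup p S) (hMn : (K ⊔ S).Normal) (hidx : ¬ p ∣ (K ⊔ S).index)
    (hHS : H ≤ Subgroup.normalizer (S : Set G)) (hH : H ⊔ (K ⊔ S) = ⊤) (hHK : H ⊓ (K ⊔ S) ≤ K) :
    (Nat.card H : ℂ) * (Nat.card (H ⊓ (K ⊔ S) : Subgroup G) : ℂ) *
        (cnt p K.subtype σ.character : ℂ) = pairSum σ S H := by
  have hp : p.Prime := Fact.out
  set M := K ⊔ S with hMdef
  have hKM : K ≤ M := le_sup_left
  have hSM : S ≤ M := le_sup_right
  have := Fintype.ofFinite M
  let KM : Subgroup M := K.subgroupOf M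
  have hKMn : KM.Normal := inferInstanceAs (K.subgroupOf M).Normal
  have := Fintype.ofFinite KM
  let eK : KM ≃* K := Subgroup.subgroupOfEquivOfLe hKM
  let σM : Representation ℂ KM V := σ.comp eK.toMonoidHom
  have hσM : σM.IsIrreducible := by
    refine isIrreducible_of_restrict σM eK.symm.toMonoidHom σ fun x => ?_
    show σ (eK (eK.symm x)) = σ x
    rw [MulEquiv.apply_symm_apply]
  obtain ⟨a, ha⟩ := IsPGroup.iff_card.mp hS
  -- the retraction onto `S`
  have hSK : ∀ s ∈ S, s ∈ K → s = 1 := by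
    intro s hs hsK
    obtain ⟨k, hk⟩ := hS ⟨s, hs⟩
    have h1 : orderOf s ∣ p ^ k := orderOf_dvd_of_pow_eq_one (congrArg Subtype.val hk)
    have h2 : orderOf s ∣ Nat.card K := by
      have := orderOf_dvd_natCard (⟨s, hsK⟩ : K)
      rwa [Subgroup.orderOf_mk] at this
    refine orderOf_eq_one_iff.mp (Nat.eq_one_of_dvd_coprimes ?_ h1 h2)
    exact Nat.Coprime.pow_left _ (hp.coprime_iff_not_dvd.mpr hKp)
  let q : S →* M ⧸ KM := (QuotientGroup.mk' KM).comp (Subgroup.inclusion hSM)
  have hq : Function.Bijective q := by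
    refine ⟨(injective_iff_map_eq_one q).mpr fun s hs => Subtype.ext
      (hSK s s.2 ((QuotientGroup.eq_one_iff (Subgroup.inclusion hSM s)).mp hs)), fun t => ?_⟩
    obtain ⟨m, rfl⟩ := QuotientGroup.mk'_surjective KM t
    obtain ⟨k, hk, s, hs, e⟩ := Subgroup.mem_sup_of_normal_left.mp m.2
    refine ⟨⟨s, hs⟩, ?_⟩
    show QuotientGroup.mk' KM ⟨s, hSM hs⟩ = _
    rw [show m = ⟨k, hKM hk⟩ * ⟨s, hSM hs⟩ from Subtype.ext e.symm, map_mul,
      show QuotientGroup.mk' KM ⟨k, hKM hk⟩ = 1 from (QuotientGroup.eq_one_iff _).mpr hk, one_mul]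
  let r : M →* S := (MulEquiv.ofBijective q hq).symm.toMonoidHom.comp (QuotientGroup.mk' KM)
  have hrK : ∀ n : KM, r n = 1 := fun n => by
    show (MulEquiv.ofBijective q hq).symm (QuotientGroup.mk' KM n) = 1
    rw [show QuotientGroup.mk' KM (n : M) = 1 from (QuotientGroup.eq_one_iff _).mpr n.2, map_one]
  have hrS : ∀ s : S, r (Subgroup.inclusion hSM s) = s := fun s =>
    (MulEquiv.ofBijective q hq).symm_apply_apply s
  have hrfac : ∀ m : M, ∃ k : KM, m = (k : M) * Subgroup.inclusion hSM (r m) := fun m => by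
    have h1 : QuotientGroup.mk' KM (Subgroup.inclusion hSM (r m)) = QuotientGroup.mk' KM m :=
      (MulEquiv.ofBijective q hq).apply_symm_apply _
    refine ⟨⟨m * (Subgroup.inclusion hSM (r m))⁻¹, ?_⟩, (inv_mul_cancel_right _ _).symm⟩
    rw [← QuotientGroup.eq_one_iff, QuotientGroup.mk_mul, QuotientGroup.mk_inv]
    exact mul_inv_eq_one.mpr h1.symm
  have hKMidx : KM.index = p ^ a := by
    rw [← ha]
    exact (Nat.card_congr (MulEquiv.ofBijective q hq).toEquiv).symm
  -- the canonical extension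
  have hcop : (orderOf (detHom σM) * finrank ℂ V).Coprime KM.index := by
    rw [hKMidx]
    refine Nat.Coprime.pow_right _ (Nat.Coprime.mul_left ?_ ?_)
    · refine (Nat.Coprime.coprime_dvd_left (orderOf_dvd_of_pow_eq_one (hom_pow_card (detHom σM))) ?_)
      rw [Nat.card_congr eK.toEquiv]
      exact (hp.coprime_iff_not_dvd.mpr hKp).symm
    · exact Nat.Coprime.coprime_dvd_left (CharIntegral.finrank_dvd_card σ)
        (hp.coprime_iff_not_dvd.mpr hKp).symm
  obtain ⟨ρ, hρ, hρo⟩ := exists_canonical_extension σM (fun g n => by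
    show LinearMap.trace ℂ V (σ (eK (cn g n))) = LinearMap.trace ℂ V (σ (eK n))
    exact hinv (g : G) (eK n)) hcop
  have hρirr : ρ.IsIrreducible := isIrreducible_of_restrict ρ KM.subtype σM hρ
  have hρK : ∀ k : K, ρ ⟨k, hKM k.2⟩ = σ k := fun k =>
    (hρ (eK.symm k)).trans (congrArg σ (eK.apply_symm_apply k))
  have hρfix : ∀ g : G, conjFn hMn ρ.character g = ρ.character := by
    intro g
    let e : M →* M := ((@MulAut.conjNormal G _ M hMn) g).toMonoidHom
    let τ : Representation ℂ M V := ρ.comp e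
    have hτ : detHom τ = (detHom ρ).comp e := MonoidHom.ext fun m => Units.ext rfl
    have hres : ∀ n : KM, τ.character n = ρ.character n := fun n => by
      show LinearMap.trace ℂ V (ρ (e n)) = LinearMap.trace ℂ V (ρ n)
      have hn : g * ((n : M) : G) * g⁻¹ ∈ K := hKn.conj_mem _ n.2 g
      rw [show e (n : M) = ⟨(⟨_, hn⟩ : K), hKM hn⟩ from Subtype.ext rfl, hρK ⟨_, hn⟩, hρ]
      exact hinv g (eK n)
    have h := eq_of_extensions ρ τ (isIrr_restrict ρ σM hρ) hres
      (by rw [hρo]; exact Nat.Coprime.coprime_mul_right hcop)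
      (Nat.Coprime.coprime_dvd_left (orderOf_dvd_of_pow_eq_one (by
        refine MonoidHom.ext fun m => ?_
        rw [hτ, MonoidHom.pow_apply, MonoidHom.comp_apply, ← MonoidHom.pow_apply,
          pow_orderOf_eq_one]; rfl)) (by rw [hρo]; exact Nat.Coprime.coprime_mul_right hcop))
      (Nat.Coprime.coprime_mul_left hcop)
    exact h
  -- all extensions
  let ext : (S →* ℂˣ) → Representation ℂ M V := fun μ => twistRep ρ (μ.comp r)
  have hext : ∀ μ (k : K), ext μ ⟨k, hKM k.2⟩ = σ k := fun μ k => by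
    show ((μ (r (eK.symm k : KM))) : ℂ) • ρ ⟨k, hKM k.2⟩ = σ k
    rw [hrK, map_one, Units.val_one, one_smul, hρK]
  have hextM : ∀ μ (n : KM), ext μ n = σM n := fun μ n => hext μ (eK n)
  have hextirr : ∀ μ, (ext μ).IsIrreducible := fun μ =>
    isIrreducible_of_restrict (ext μ) KM.subtype σM (hextM μ)
  let η : (S →* ℂˣ) → Cfsg.IrrCharacter M := fun μ =>
    haveI := hextirr μ
    ⟨_, isIrrCharacter_rep (ext μ)⟩
  have hηdef : ∀ μ m, (η μ : M → ℂ) m = (μ (r m) : ℂ) * ρ.character m := fun μ m =>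
    congrFun (character_twistRep ρ (μ.comp r)) m
  have hηinj : Function.Injective η := fun μ μ' h => by
    have := linear_twist_unique ρ σM hρ (l := μ.comp r) (l' := μ'.comp r)
      (fun n => by rw [MonoidHom.comp_apply, hrK, map_one])
      (fun n => by rw [MonoidHom.comp_apply, hrK, map_one])
      (fun m => by
        show (μ (r m) : ℂ) * _ = (μ' (r m) : ℂ) * _
        rw [← hηdef, ← hηdef, h])
    refine MonoidHom.ext fun s => ?_
    have h2 : μ (r (Subgroup.inclusion hSM s)) = μ' (r (Subgroup.inclusion hSM s)) :=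
      DFunLike.congr_fun this _
    rwa [hrS] at h2
  have hconjH : ∀ h ∈ H, ∀ μ, ∃ μ', conjFn hMn (η μ : M → ℂ) h = (η μ' : M → ℂ) ∧
      (μ' = μ ↔ FixesLin S μ h) := by
    intro h hh μ
    let μ' : S →* ℂˣ := μ.comp (cAut S (hHS hh)).toMonoidHom
    have hr : ∀ m : M, μ (r (⟨h * m * h⁻¹, hMn.conj_mem _ m.2 h⟩ : M)) = μ' (r m) := by
      intro m
      obtain ⟨k, hk⟩ := hrfac m
      have hk' : h * ((k : M) : G) * h⁻¹ ∈ K := hKn.conj_mem _ k.2 h
      have e : (⟨h * m * h⁻¹, hMn.conj_mem _ m.2 h⟩ : M) =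
          ((⟨⟨_, hKM hk'⟩, hk'⟩ : KM) : M) * Subgroup.inclusion hSM (cAut S (hHS hh) (r m)) := by
        refine Subtype.ext ?_
        show h * (m : G) * h⁻¹ = h * ((k : M) : G) * h⁻¹ * (h * (r m : G) * h⁻¹)
        conv_lhs => rw [show (m : G) = ((k : M) : G) * (r m : G) from congrArg Subtype.val hk]
        group
      rw [e, map_mul, hrK, one_mul, hrS]
      rfl
    refine ⟨μ', funext fun m => ?_, ?_⟩
    · show (η μ : M → ℂ) ⟨h * m * h⁻¹, _⟩ = _
      rw [hηdef, hηdef, hr]
      congr 1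
      exact congrFun (hρfix h) m
    · constructor
      · intro e s s' es
        rw [show s' = cAut S (hHS hh) s from Subtype.ext es]
        exact DFunLike.congr_fun e s
      · exact fun hf => MonoidHom.ext fun s => hf s _ rfl
  let Θ : Cfsg.IrrCharacter M → Prop := fun φ => ∃ μ, η μ = φ
  let X : Cfsg.IrrCharacter G → Prop := fun χ =>
    ¬ p ∣ Cfsg.charDegree (χ : G → ℂ) ∧ IsOver K.subtype σ.character (χ : G → ℂ)
  let θ : Cfsg.IrrCharacter K := ⟨_, isIrrCharacter_rep σ⟩
  have hθinv : ∀ g, conjFn hKn σ.character g = σ.character := fun g => funext fun n => hinv g n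
  have hd : ¬ p ∣ Cfsg.charDegree σ.character := fun h =>
    hKp (h.trans (charDegree_dvd_card θ))
  have hηdeg : ∀ μ, Cfsg.charDegree (η μ : M → ℂ) = Cfsg.charDegree σ.character := fun μ => by
    refine (charDegree_eq_of_apply_one ?_)
    rw [hηdef, map_one, map_one, Units.val_one, one_mul, Representation.char_one,
      show (Cfsg.charDegree σ.character : ℂ) = σ.character 1 from cast_irrDegree θ,
      Representation.char_one]
  have hηθ : ∀ μ, Cfsg.classInner (resTo hKM (η μ : M → ℂ)) σ.character ≠ 0 := fun μ => by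
    rw [show resTo hKM (η μ : M → ℂ) = σ.character from funext fun k =>
      congrArg (LinearMap.trace ℂ V) (hext μ k), show Cfsg.classInner σ.character σ.character = 1
        from classInner_irr_self θ]
    exact one_ne_zero
  have hex : ∀ χ, X χ → ∃ φ, Θ φ ∧ IsOver M.subtype (φ : M → ℂ) (χ : G → ℂ) := by
    rintro χ ⟨hχd, hχ⟩
    obtain ⟨φ, hφd, hφ⟩ := PPrimeKernel.exists_constituent_not_dvd
      (IsChar.restrict M (IsIrr.isCharacter χ.2)) (n := Cfsg.charDegree (χ : G → ℂ))
      (cast_irrDegree χ).symm hχd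
    have hover := OddSection.over_of_constituent hKn hKM χ.2 (isIrrCharacter_rep σ) hθinv
      ((isOver_subtype _ _).mp hχ) φ.2 hφ
    have hov' : Cfsg.classInner (fun n : KM => (φ : M → ℂ) n) σM.character ≠ 0 := by
      have e1 : σM.character = fun n => σ.character (eK n) := rfl
      rw [e1, show (fun n : KM => (φ : M → ℂ) n) = fun n => resTo hKM (φ : M → ℂ) (eK n) from rfl,
        classInner_comp_equiv eK]
      exact hover
    obtain ⟨hd1, hd2⟩ := ThreeDegrees.degree_dvd_of_over KM φ ⟨_, isIrrCharacter_rep σM⟩ hov'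
    rw [hKMidx] at hd2
    have hdσ : Cfsg.charDegree σM.character = Cfsg.charDegree σ.character := by
      unfold Cfsg.charDegree
      rw [show σM.character 1 = σ.character 1 by
        show σ.character (eK 1) = _
        rw [map_one]]
    change Cfsg.charDegree σM.character ∣ _ at hd1
    change _ / Cfsg.charDegree σM.character ∣ _ at hd2
    obtain ⟨j, hj, hdj⟩ := (Nat.dvd_prime_pow hp).mp hd2
    have hφeq : Cfsg.charDegree (φ : M → ℂ) = Cfsg.charDegree σM.character := by
      have h0 := Nat.div_mul_cancel hd1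
      rw [hdj] at h0
      rcases Nat.eq_zero_or_pos j with rfl | hjpos
      · rw [pow_zero, one_mul] at h0; exact h0.symm
      · exact absurd (h0 ▸ (dvd_pow_self p hjpos.ne').mul_right _) hφd
    have hres := resTo_eq_smul hKn hKM (isIrrCharacter_rep σ) (fun t _ => hθinv t) φ.2 hover
    have h1 := congrFun hres 1
    rw [Pi.smul_apply, smul_eq_mul, show resTo hKM (φ : M → ℂ) 1 = (φ : M → ℂ) 1 from rfl,
      ← cast_irrDegree φ, hφeq, hdσ, show (Cfsg.charDegree σ.character : ℂ) = σ.character 1 from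
        cast_irrDegree θ] at h1
    have hc : Cfsg.classInner (resTo hKM (φ : M → ℂ)) σ.character = 1 :=
      (mul_eq_right₀ (IsIrr.apply_one_ne_zero θ.2)).mp h1.symm
    rw [hc, one_smul] at hres
    have hresM : ∀ n : KM, (φ : M → ℂ) n = ρ.character n := fun n => by
      rw [show (φ : M → ℂ) n = σ.character (eK n) from congrFun hres (eK n)]
      show LinearMap.trace ℂ V (σ (eK n)) = LinearMap.trace ℂ V (ρ n)
      rw [hρ]; rfl
    obtain ⟨β, hβ⟩ := exists_eq_twistBy (isCharacter_rep ρ) (isIrr_restrict ρ σM hρ) φ (by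
      rw [show (fun n : KM => (φ : M → ℂ) n) = fun n : KM => ρ.character n from funext hresM,
        classInner_irr_self ⟨_, isIrr_restrict ρ σM hρ⟩]
      exact one_ne_zero)
    have hβ1 : Cfsg.charDegree (β : M ⧸ KM → ℂ) = 1 := by
      rw [charDegree_eq_one_iff]
      have h2 := congrFun hβ 1
      rw [twistBy_apply, map_one, show (φ : M → ℂ) 1 = ρ.character 1 from hresM 1] at h2
      exact (mul_eq_right₀ (IsIrr.apply_one_ne_zero (isIrrCharacter_rep ρ))).mp h2.symm
    obtain ⟨l, hl⟩ := exists_hom_of_degree_one β hβ1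
    refine ⟨φ, ⟨l.comp q, irr_ext fun m => ?_⟩, (isOver_subtype _ _).mpr hφ⟩
    rw [hηdef, hβ, twistBy_apply, hl]
    congr 2
    show l (q (r m)) = l (QuotientGroup.mk' KM m)
    rw [show q (r m) = QuotientGroup.mk' KM m from (MulEquiv.ofBijective q hq).apply_symm_apply _]
  have hoverX : ∀ μ (χ : Cfsg.IrrCharacter G), IsOver M.subtype (η μ : M → ℂ) (χ : G → ℂ) →
      X χ := by
    intro μ χ h
    obtain ⟨h1, h2⟩ := ThreeDegrees.degree_dvd_of_over M χ (η μ) ((isOver_subtype _ _).mp h)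
    refine ⟨fun hdvd => ?_, (isOver_subtype _ _).mpr (OddSection.below hKM (IsIrr.isCharacter χ.2)
      (η μ).2 (IsIrr.isCharacter θ.2) ((isOver_subtype _ _).mp h) (hηθ μ))⟩
    rw [← Nat.div_mul_cancel h1] at hdvd
    rcases hp.dvd_mul.mp hdvd with h3 | h3
    · exact hidx (h3.trans h2)
    · exact hd (hηdeg μ ▸ h3)
  have hst : ∀ (φ φ' : Cfsg.IrrCharacter M), Θ φ → ∀ h ∈ H,
      (φ' : M → ℂ) = conjFn hMn (φ : M → ℂ) h → Θ φ' := by
    rintro φ φ' ⟨μ, rfl⟩ h hh e
    obtain ⟨μ', he, -⟩ := hconjH h hh μ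
    exact ⟨μ', Subtype.ext (he.symm.trans e.symm)⟩
  have hconj : ∀ χ φ φ', X χ → Θ φ → Θ φ' → IsOver M.subtype (φ : M → ℂ) (χ : G → ℂ) →
      IsOver M.subtype (φ' : M → ℂ) (χ : G → ℂ) →
      ∃ n ∈ H, conjFn hMn (φ : M → ℂ) n = (φ' : M → ℂ) := by
    intro χ φ φ' _ _ _ h1 h2
    obtain ⟨g, hg⟩ := OddSection.exists_conj_of_constituent hMn χ.2 φ.2 φ'.2
      ((isOver_subtype _ _).mp h1) ((isOver_subtype _ _).mp h2)
    obtain ⟨h, hh, m, hm, rfl⟩ := Subgroup.mem_sup_of_normal_right.mp
      (show g ∈ H ⊔ M by rw [hH]; trivial)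
    refine ⟨h, hh, ?_⟩
    rw [hg, conjFn_mul]
    exact (le_inertia hMn (IsIrr.isClassFunction (isIrrCharacter_conjFn hMn φ.2 h)) hm).symm
  have := Fintype.ofFinite (Cfsg.IrrCharacter M)
  have horb := orbit_count hMn H X Θ hex hconj hst
  let eΘ : (S →* ℂˣ) ≃ {φ // Θ φ} := Equiv.ofBijective (fun μ => ⟨η μ, μ, rfl⟩)
    ⟨fun μ μ' h => hηinj (congrArg Subtype.val h), fun φ => by
      obtain ⟨φ, μ, rfl⟩ := φ
      exact ⟨μ, rfl⟩⟩
  -- the count over one extension
  have hcount : ∀ μ : S →* ℂˣ,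
      (Nat.card (H ⊓ M : Subgroup G) : ℂ) * ((Nat.card (stab hMn H (η μ : M → ℂ)) : ℕ) : ℂ) *
        (Nat.card {χ // X χ ∧ IsOver M.subtype (η μ : M → ℂ) (χ : G → ℂ)} : ℂ) =
      ∑ x : H, ∑ y : H, if FixesLin S μ x ∧ FixesLin S μ y then om σ (x : G) (y : G) else 0 := by
    intro μ
    have := hextirr μ
    let T : Subgroup G := inertia hMn (η μ : M → ℂ)
    have hMT : M ≤ T := le_inertia hMn (IsIrr.isClassFunction (η μ).2)
    have hTidx : ¬ p ∣ T.index := fun h => hidx (h.trans (Subgroup.index_dvd_of_le hMT))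
    have e1 : Nat.card {χ // X χ ∧ IsOver M.subtype (η μ : M → ℂ) (χ : G → ℂ)} =
        cnt p M.subtype (η μ : M → ℂ) :=
      Nat.card_congr (Equiv.subtypeEquivRight fun χ =>
        ⟨fun h => ⟨h.1.1, h.2⟩, fun h => ⟨hoverX μ χ h.2, h.2⟩⟩)
    rw [e1, cnt_inertia hMn (η μ).2 (T := T) (fun g => Iff.rfl) hTidx hMT]
    -- inside the inertia group
    let MT : Subgroup T := M.subgroupOf T
    have hMTn : MT.Normal := inferInstanceAs (M.subgroupOf T).Normal
    have := Fintype.ofFinite T
    have := Fintype.ofFinite MT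
    let eM : MT ≃* M := Subgroup.subgroupOfEquivOfLe hMT
    let ρT : Representation ℂ MT V := (ext μ).comp eM.toMonoidHom
    have hρT : ρT.IsIrreducible := by
      refine isIrreducible_of_restrict ρT eM.symm.toMonoidHom (ext μ) fun x => ?_
      show ext μ (eM (eM.symm x)) = ext μ x
      rw [MulEquiv.apply_symm_apply]
    have hTinv : ∀ g n, ρT.character (cn g n) = ρT.character n := fun g n => by
      show LinearMap.trace ℂ V (ext μ (eM (cn g n))) = LinearMap.trace ℂ V (ext μ (eM n))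
      exact congrFun (g.2 : conjFn hMn (η μ : M → ℂ) (g : G) = (η μ : M → ℂ)) (eM n)
    let HT : Subgroup T := H.subgroupOf T
    have hHT : HT ⊔ MT = ⊤ := by
      rw [eq_top_iff]
      rintro ⟨g, hg⟩ -
      obtain ⟨h, hh, m, hm, rfl⟩ := Subgroup.mem_sup_of_normal_right.mp
        (show g ∈ H ⊔ M by rw [hH]; trivial)
      have hhT : h ∈ T := by
        have := T.mul_mem hg (T.inv_mem (hMT hm))
        rwa [mul_inv_cancel_right] at this
      exact Subgroup.mem_sup_of_normal_right.mpr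
        ⟨⟨h, hhT⟩, hh, ⟨m, hMT hm⟩, hm, Subtype.ext rfl⟩
    have hpair := card_over_eq_sum_om ρT hTinv HT hHT
    have e2 : Nat.card {χ : Cfsg.IrrCharacter T // IsOver MT.subtype ρT.character (χ : T → ℂ)} =
        cnt p (Subgroup.inclusion hMT) (η μ : M → ℂ) := by
      refine Eq.trans ?_ (cnt_congr p (MulEquiv.refl T) eM MT.subtype (Subgroup.inclusion hMT)
        (fun n => rfl) ρT.character (η μ : M → ℂ) (fun n => rfl))
      refine Nat.card_congr (Equiv.subtypeEquivRight fun χ => ⟨fun h => ⟨fun hdvd => ?_, h⟩, And.right⟩)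
      obtain ⟨h1, h2⟩ := ThreeDegrees.degree_dvd_of_over MT χ ⟨_, isIrrCharacter_rep ρT⟩
        ((isOver_subtype _ _).mp h)
      rw [← Nat.div_mul_cancel h1] at hdvd
      rcases hp.dvd_mul.mp hdvd with h3 | h3
      · have h4 := h3.trans h2
        have h5 : MT.index ∣ M.index := ⟨T.index, (Subgroup.relIndex_mul_index hMT).symm⟩
        exact hidx (h4.trans h5)
      · refine hd ?_
        rw [← hηdeg μ]
        have : Cfsg.charDegree ρT.character = Cfsg.charDegree (η μ : M → ℂ) := by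
          unfold Cfsg.charDegree
          rw [show ρT.character 1 = (η μ : M → ℂ) 1 by
            show (ext μ).character (eM 1) = _
            rw [map_one]]
        rwa [← this]
    have e3 : Nat.card HT = Nat.card (stab hMn H (η μ : M → ℂ)) :=
      Nat.card_congr
        { toFun := fun x => ⟨((x : T) : G), x.2, (x : T).2⟩
          invFun := fun x => ⟨⟨x, x.2.2⟩, x.2.1⟩
          left_inv := fun x => rfl
          right_inv := fun x => rfl }
    have e4 : Nat.card (HT ⊓ MT : Subgroup T) = Nat.card (H ⊓ M : Subgroup G) :=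
      Nat.card_congr
        { toFun := fun x => ⟨((x : T) : G), x.2.1, x.2.2⟩
          invFun := fun x => ⟨⟨x, hMT x.2.2⟩, x.2.1, x.2.2⟩
          left_inv := fun x => rfl
          right_inv := fun x => rfl }
    rw [e2, e3, e4] at hpair
    rw [mul_comm (Nat.card (H ⊓ M : Subgroup G) : ℂ), hpair]
    -- the scalars
    have homT : ∀ x y : HT, om ρT (x : T) (y : T) = om σ ((x : T) : G) ((y : T) : G) := by
      intro x y
      refine (om_map σ ρT T.subtype Subtype.val_injective
        (fun n => ⟨⟨⟨n, hMT (hKM n.2)⟩, hKM n.2⟩, rfl, hext μ n⟩) ?_ ?_ ?_ ?_ ?_).symm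
      · refine ⟨fun h => hKM h, fun h => hHK ⟨?_, h⟩⟩
        show ⁅((x : T) : G), ((y : T) : G)⁆ ∈ H
        rw [commutatorElement_def]
        exact mul_mem (mul_mem (mul_mem x.2 y.2) (inv_mem x.2)) (inv_mem y.2)
      · exact exists_intw ρT (by rw [Subgroup.normalizer_eq_top]; trivial) fun n n' e => by
          rw [show n' = cn (x : T) n from Subtype.ext e]; exact hTinv _ n
      · exact exists_intw ρT (by rw [Subgroup.normalizer_eq_top]; trivial) fun n n' e => by
          rw [show n' = cn (y : T) n from Subtype.ext e]; exact hTinv _ n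
      · rw [Subgroup.normalizer_eq_top]; trivial
      · rw [Subgroup.normalizer_eq_top]; trivial
    rw [Finset.sum_congr rfl fun x _ => Finset.sum_congr rfl fun y _ => homT x y]
    have hfix : ∀ h ∈ H, (h ∈ T ↔ FixesLin S μ h) := by
      intro h hh
      obtain ⟨μ', he, hiff⟩ := hconjH h hh μ
      rw [mem_inertia, he, ← hiff]
      exact ⟨fun e => hηinj (Subtype.ext e), fun e => by rw [e]⟩
    let P : H → Prop := fun x => FixesLin S μ x
    let eH : HT ≃ {x : H // P x} :=
      { toFun := fun x => ⟨⟨((x : T) : G), x.2⟩, (hfix _ x.2).mp (x : T).2⟩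
        invFun := fun x => ⟨⟨x.1, (hfix _ x.1.2).mpr x.2⟩, x.1.2⟩
        left_inv := fun x => rfl
        right_inv := fun x => rfl }
    have hrhs : (∑ x : H, ∑ y : H,
        if FixesLin S μ x ∧ FixesLin S μ y then om σ (x : G) (y : G) else 0) =
        ∑ x : {x : H // P x}, ∑ y : {x : H // P x}, om σ (x.1 : G) (y.1 : G) := by
      rw [← Finset.sum_subtype (Finset.univ.filter P) (fun x => by simp)
        (fun x => ∑ y : {x : H // P x}, om σ (x : G) (y.1 : G)), Finset.sum_filter]
      refine Finset.sum_congr rfl fun x _ => ?_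
      by_cases hx : P x
      · rw [if_pos hx, ← Finset.sum_subtype (Finset.univ.filter P) (fun y => by simp)
          (fun y => om σ (x : G) (y : G)), Finset.sum_filter]
        refine Finset.sum_congr rfl fun y _ => ?_
        exact if_congr (and_iff_right hx) rfl rfl
      · rw [if_neg hx]
        exact Finset.sum_eq_zero fun y _ => if_neg fun h => hx h.1
    rw [hrhs]
    exact Fintype.sum_equiv eH _ _ fun x => Fintype.sum_equiv eH _ _ fun y => rfl
  rw [pairSum, ← Finset.sum_congr rfl fun μ _ => hcount μ]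
  have horb' := congrArg (Nat.cast (R := ℂ)) horb
  push_cast at horb'
  let F : {φ // Θ φ} → ℂ := fun φ => (Nat.card (stab hMn H (φ.1 : M → ℂ)) : ℂ) *
    (Nat.card {χ // X χ ∧ IsOver M.subtype (φ.1 : M → ℂ) (χ : G → ℂ)} : ℂ)
  replace horb' : (Nat.card H : ℂ) * (Nat.card {χ // X χ} : ℂ) =
      ∑ μ : S →* ℂˣ, (Nat.card (stab hMn H (η μ : M → ℂ)) : ℂ) *
        (Nat.card {χ // X χ ∧ IsOver M.subtype (η μ : M → ℂ) (χ : G → ℂ)} : ℂ) := by
    have key : ∀ [Fintype {φ // Θ φ}], ∑ φ, F φ = ∑ μ : S →* ℂˣ, F (eΘ μ) := fun {_} =>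
      (Fintype.sum_equiv eΘ _ _ fun μ => rfl).symm
    refine Eq.trans ?_ key
    convert horb' using 2
    ext φ
    simp
  have hX : Nat.card {χ // X χ} = cnt p K.subtype σ.character := rfl
  rw [hX] at horb'
  rw [mul_comm (Nat.card H : ℂ), mul_assoc, horb', Finset.mul_sum]
  exact Finset.sum_congr rfl fun μ _ => (mul_assoc _ _ _).symm

end CfsgLib.Char.RelMcKay
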