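import Cfsg.Agent.Lib.Char.OddSection.Reduce
import Cfsg.Agent.Lib.CharDegree.ThreeDegrees.Basic
import Cfsg.Agent.Lib.Char.PPrimeKernel

/-!
# Counting characters of degree prime to `p` over a given character
-/

set_option autoImplicit false
set_option linter.all false
set_option maxHeartbeats 800000

namespace CfsgLib.Char.RelMcKay

open CfsgLib.Clifford CfsgLib.CharDegree
open scoped ComplexConjugate Classical

universe u v

/-- `χ` lies over `θ` along `j`. -/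
def IsOver {H X : Type*} [Group H] [Group X] (j : H →* X) (θ : H → ℂ) (χ : X → ℂ) : Prop :=
  (∑ᶠ h, χ (j h) * conj (θ h)) ≠ 0

/-- The number of irreducible characters of `p'`-degree over `θ`. -/
noncomputable def cnt (p : ℕ) {H : Type*} {X : Type u} [Group H] [Group X] (j : H →* X)
    (θ : H → ℂ) : ℕ :=
  Nat.card {χ : Cfsg.IrrCharacter X //
    ¬ p ∣ Cfsg.charDegree (χ : X → ℂ) ∧ IsOver j θ (χ : X → ℂ)}

theorem isOver_iff {H X : Type*} [Group H] [Group X] [Fintype H] (j : H →* X) (θ : H → ℂ)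
    (χ : X → ℂ) : IsOver j θ χ ↔ Cfsg.classInner (fun h => χ (j h)) θ ≠ 0 := by
  unfold IsOver Cfsg.classInner
  rw [finsum_eq_sum_of_fintype, mul_ne_zero_iff]
  exact ⟨fun h => ⟨inv_ne_zero (Nat.cast_ne_zero.mpr Nat.card_pos.ne'), h⟩, fun h => h.2⟩

theorem isOver_subtype {X : Type*} [Group X] {N : Subgroup X} [Fintype N] (θ : N → ℂ)
    (χ : X → ℂ) : IsOver N.subtype θ χ ↔ Cfsg.classInner (fun n : N => χ n) θ ≠ 0 :=
  isOver_iff N.subtype θ χ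

/-- Transport along isomorphisms. -/
theorem card_over_congr (P : ℕ → Prop) {H H' : Type*} {X : Type u} {Y : Type v} [Group H] [Group H']
    [Group X] [Group Y] (e : X ≃* Y) (eH : H ≃* H') (j : H →* X) (j' : H' →* Y)
    (hj : ∀ h, j' (eH h) = e (j h)) (θ : H → ℂ) (θ' : H' → ℂ) (hθ : ∀ h, θ' (eH h) = θ h) :
    Nat.card {χ : Cfsg.IrrCharacter X // P (Cfsg.charDegree (χ : X → ℂ)) ∧
        IsOver j θ (χ : X → ℂ)} =
      Nat.card {χ : Cfsg.IrrCharacter Y // P (Cfsg.charDegree (χ : Y → ℂ)) ∧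
        IsOver j' θ' (χ : Y → ℂ)} := by
  have key : ∀ χ : X → ℂ, IsOver j' θ' (fun y => χ (e.symm y)) ↔ IsOver j θ χ := fun χ => by
    unfold IsOver
    rw [← finsum_comp_equiv eH.toEquiv]
    simp only [MulEquiv.toEquiv_eq_coe, MulEquiv.coe_toEquiv, hj, hθ, MulEquiv.symm_apply_apply]
  refine Nat.card_congr
    { toFun := fun χ => ⟨⟨fun y => (χ.1 : X → ℂ) (e.symm y),
        IsIrr.comp_surjective e.symm.toMonoidHom e.symm.surjective χ.1.2⟩, ?_, ?_⟩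
      invFun := fun ψ => ⟨⟨fun x => (ψ.1 : Y → ℂ) (e x),
        IsIrr.comp_surjective e.toMonoidHom e.surjective ψ.1.2⟩, ?_, ?_⟩
      left_inv := fun χ => Subtype.ext (Subtype.ext (funext fun x => by simp))
      right_inv := fun ψ => Subtype.ext (Subtype.ext (funext fun x => by simp)) }
  · simpa [Cfsg.charDegree] using χ.2.1
  · exact (key _).mpr χ.2.2
  · simpa [Cfsg.charDegree] using ψ.2.1
  · refine (key _).mp ?_
    simpa using ψ.2.2

/-- Transport of the counts along isomorphisms. -/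
theorem cnt_congr (p : ℕ) {H H' : Type*} {X : Type u} {Y : Type v} [Group H] [Group H'] [Group X]
    [Group Y] (e : X ≃* Y) (eH : H ≃* H') (j : H →* X) (j' : H' →* Y)
    (hj : ∀ h, j' (eH h) = e (j h)) (θ : H → ℂ) (θ' : H' → ℂ) (hθ : ∀ h, θ' (eH h) = θ h) :
    cnt p j θ = cnt p j' θ' :=
  card_over_congr (fun d => ¬ p ∣ d) e eH j j' hj θ θ' hθ

theorem cnt_eq_zero {p : ℕ} {H : Type*} {X : Type u} [Group H] [Group X] (j : H →* X) (θ : H → ℂ)
    (h : ∀ χ : Cfsg.IrrCharacter X, IsOver j θ (χ : X → ℂ) →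
      p ∣ Cfsg.charDegree (χ : X → ℂ)) : cnt p j θ = 0 := by
  have : IsEmpty {χ : Cfsg.IrrCharacter X //
      ¬ p ∣ Cfsg.charDegree (χ : X → ℂ) ∧ IsOver j θ (χ : X → ℂ)} :=
    ⟨fun χ => χ.2.1 (h _ χ.2.2)⟩
  exact Nat.card_of_isEmpty

section Orbits

variable {G : Type u} [Group G] [Fintype G] {K : Subgroup G} [Fintype K] (hK : K.Normal)

/-- The stabiliser of a function on `K` in a subgroup. -/
def stab (N : Subgroup G) (θ : K → ℂ) : Subgroup G := N ⊓ inertia hK θ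

theorem mem_stab {N : Subgroup G} {θ : K → ℂ} {g : G} :
    g ∈ stab hK N θ ↔ g ∈ N ∧ conjFn hK θ g = θ := Iff.rfl

theorem conjFn_inv_cancel (θ : K → ℂ) (g : G) : conjFn hK (conjFn hK θ g) g⁻¹ = θ := by
  rw [← conjFn_mul, mul_inv_cancel, conjFn_one]

/-- Double counting of characters and constituents forming one orbit. -/
theorem orbit_count [Fintype (Cfsg.IrrCharacter K)] (N : Subgroup G)
    (X : Cfsg.IrrCharacter G → Prop) (Θ : Cfsg.IrrCharacter K → Prop)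
    (hex : ∀ χ, X χ → ∃ θ, Θ θ ∧ IsOver K.subtype (θ : K → ℂ) (χ : G → ℂ))
    (hconj : ∀ χ θ θ', X χ → Θ θ → Θ θ' → IsOver K.subtype (θ : K → ℂ) (χ : G → ℂ) →
      IsOver K.subtype (θ' : K → ℂ) (χ : G → ℂ) →
      ∃ n ∈ N, conjFn hK (θ : K → ℂ) n = (θ' : K → ℂ))
    (hst : ∀ θ θ' : Cfsg.IrrCharacter K, Θ θ → ∀ n ∈ N,
      (θ' : K → ℂ) = conjFn hK (θ : K → ℂ) n → Θ θ') :
    Nat.card N * Nat.card {χ // X χ} =
      ∑ θ : {θ // Θ θ}, Nat.card (stab hK N (θ.1 : K → ℂ)) *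
        Nat.card {χ // X χ ∧ IsOver K.subtype (θ.1 : K → ℂ) (χ : G → ℂ)} := by
  have := Fintype.ofFinite (Cfsg.IrrCharacter G)
  have key : ∀ χ : {χ // X χ}, Nat.card N =
      Nat.card (Σ θ : {θ : {θ // Θ θ} // IsOver K.subtype (θ.1 : K → ℂ) (χ.1 : G → ℂ)},
        stab hK N (θ.1.1 : K → ℂ)) := by
    intro χ
    obtain ⟨θ₀, hθ₀, ho⟩ := hex _ χ.2
    have hcl : ∀ n : G, Cfsg.classInner (fun k : K => (χ.1 : G → ℂ) k)
        (conjFn hK (θ₀ : K → ℂ) n) =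
        Cfsg.classInner (fun k : K => (χ.1 : G → ℂ) k) (θ₀ : K → ℂ) := by
      intro n
      conv_rhs => rw [← classInner_comp_equiv (@MulAut.conjNormal G _ K hK n)]
      congr 1
      funext k
      exact ((IsIrr.isClassFunction χ.1.2) (k : G) n).symm
    have hmem : ∀ n : N, IsOver K.subtype (conjFn hK (θ₀ : K → ℂ) n) (χ.1 : G → ℂ) := fun n => by
      rw [isOver_subtype, hcl]
      exact (isOver_subtype _ _).mp ho
    let pt : N → {θ : {θ // Θ θ} // IsOver K.subtype (θ.1 : K → ℂ) (χ.1 : G → ℂ)} := fun n =>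
      ⟨⟨⟨_, isIrrCharacter_conjFn hK θ₀.2 n⟩, hst θ₀ _ hθ₀ n n.2 rfl⟩, hmem n⟩
    have hc : ∀ θ : {θ : {θ // Θ θ} // IsOver K.subtype (θ.1 : K → ℂ) (χ.1 : G → ℂ)},
        ∃ c : N, conjFn hK (θ₀ : K → ℂ) c = (θ.1.1 : K → ℂ) := fun θ => by
      obtain ⟨n, hn, he⟩ := hconj χ.1 θ₀ θ.1.1 χ.2 hθ₀ θ.1.2 ho θ.2
      exact ⟨⟨n, hn⟩, he⟩
    choose c hc using hc
    have hdiv : ∀ n : N, ((c (pt n))⁻¹ * n : G) ∈ stab hK N (conjFn hK (θ₀ : K → ℂ) n) := fun n =>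
      ⟨N.mul_mem (N.inv_mem (c (pt n)).2) n.2, by
        show conjFn hK (conjFn hK (θ₀ : K → ℂ) n) _ = _
        have e := hc (pt n)
        change conjFn hK (θ₀ : K → ℂ) (c (pt n)) = conjFn hK (θ₀ : K → ℂ) n at e
        rw [conjFn_mul]
        conv_lhs => rw [← e]
        rw [InvMemClass.coe_inv, conjFn_inv_cancel]⟩
    refine Nat.card_eq_of_bijective
      (fun n : N => (⟨pt n, ⟨_, hdiv n⟩⟩ : Σ θ : {θ : {θ // Θ θ} //
        IsOver K.subtype (θ.1 : K → ℂ) (χ.1 : G → ℂ)}, stab hK N (θ.1.1 : K → ℂ)))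
      ⟨fun n n' h => ?_, fun θs => ?_⟩
    · have hval := congrArg (fun q : Σ θ : {θ : {θ // Θ θ} //
        IsOver K.subtype (θ.1 : K → ℂ) (χ.1 : G → ℂ)}, stab hK N (θ.1.1 : K → ℂ) =>
          (c q.1 : G) * (q.2 : G)) h
      change (c (pt n) : G) * ((c (pt n) : G)⁻¹ * n) = (c (pt n') : G) * ((c (pt n') : G)⁻¹ * n') at hval
      rw [mul_inv_cancel_left, mul_inv_cancel_left] at hval
      exact Subtype.ext hval
    · obtain ⟨θ, m, hm⟩ := θs
      obtain ⟨hmN, hmf⟩ := hm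
      change conjFn hK (θ.1.1 : K → ℂ) m = _ at hmf
      have hpt : pt (c θ * ⟨m, hmN⟩) = θ := by
        refine Subtype.ext (Subtype.ext (Subtype.ext ?_))
        show conjFn hK (θ₀ : K → ℂ) ((c θ : G) * m) = _
        rw [conjFn_mul, hc θ, hmf]
      refine ⟨c θ * ⟨m, hmN⟩, ?_⟩
      have aux : ∀ (a b : {θ : {θ // Θ θ} // IsOver K.subtype (θ.1 : K → ℂ) (χ.1 : G → ℂ)})
          (x : stab hK N (a.1.1 : K → ℂ)) (y : stab hK N (b.1.1 : K → ℂ)),
          a = b → (x : G) = y → (Sigma.mk a x : Σ θ, stab hK N (θ.1.1 : K → ℂ)) = ⟨b, y⟩ := by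
        rintro a _ x y rfl h
        exact congrArg _ (Subtype.ext h)
      refine aux _ _ _ _ hpt ?_
      show (c (pt (c θ * ⟨m, hmN⟩)) : G)⁻¹ * ((c θ : G) * m) = m
      rw [hpt, inv_mul_cancel_left]
  have h1 : Nat.card N * Nat.card {χ // X χ} = Nat.card (Σ χ : {χ // X χ},
      Σ θ : {θ : {θ // Θ θ} // IsOver K.subtype (θ.1 : K → ℂ) (χ.1 : G → ℂ)},
        stab hK N (θ.1.1 : K → ℂ)) := by
    rw [Nat.card_sigma (α := {χ // X χ}), Finset.sum_congr rfl fun χ _ => (key χ).symm,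
      Finset.sum_const, Finset.card_univ, smul_eq_mul, mul_comm, Nat.card_eq_fintype_card (α := {χ // X χ})]
  rw [h1]
  refine (Nat.card_congr (β := Σ θ : {θ // Θ θ}, (stab hK N (θ.1 : K → ℂ)) ×
      {χ // X χ ∧ IsOver K.subtype (θ.1 : K → ℂ) (χ : G → ℂ)})
    { toFun := fun q => ⟨q.2.1.1, q.2.2, ⟨q.1.1, q.1.2, q.2.1.2⟩⟩
      invFun := fun q => ⟨⟨q.2.2.1, q.2.2.2.1⟩, ⟨q.1, q.2.2.2.2⟩, q.2.1⟩
      left_inv := fun q => rfl
      right_inv := fun q => rfl }).trans ?_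
  rw [Nat.card_sigma]
  exact Finset.sum_congr rfl fun θ _ => Nat.card_prod _ _

/-- Clifford's correspondence for characters of `p'`-degree. -/
theorem cnt_inertia {p : ℕ} [hp : Fact p.Prime] {θ : K → ℂ} (hθ : Cfsg.IsIrrCharacter K θ)
    {T : Subgroup G} (hT : ∀ g, g ∈ T ↔ conjFn hK θ g = θ) (hidx : ¬ p ∣ T.index)
    (hle : K ≤ T) :
    cnt p K.subtype θ = cnt p (Subgroup.inclusion hle) θ := by
  have hover : ∀ ψ : T → ℂ,
      IsOver (Subgroup.inclusion hle) θ ψ ↔ Cfsg.classInner (resTo hle ψ) θ ≠ 0 := fun ψ =>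
    isOver_iff (Subgroup.inclusion hle) θ ψ
  have hdeg : ∀ ψ : Cfsg.IrrCharacter T, (Cfsg.indFun T (ψ : T → ℂ)) 1 =
      ((T.index * Cfsg.charDegree (ψ : T → ℂ) : ℕ) : ℂ) := fun ψ => by
    rw [indFun_apply_one, Nat.cast_mul, cast_irrDegree]
  refine (Nat.card_eq_of_bijective (fun ψ : {ψ : Cfsg.IrrCharacter T //
      ¬ p ∣ Cfsg.charDegree (ψ : T → ℂ) ∧ IsOver (Subgroup.inclusion hle) θ (ψ : T → ℂ)} =>
    (⟨⟨_, isIrr_indFun_of_over hK hθ hT hle ψ.1.2 ((hover _).mp ψ.2.2)⟩, ?_, ?_⟩ :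
      {χ : Cfsg.IrrCharacter G //
        ¬ p ∣ Cfsg.charDegree (χ : G → ℂ) ∧ IsOver K.subtype θ (χ : G → ℂ)})) ⟨?_, ?_⟩).symm
  · show ¬ p ∣ Cfsg.charDegree (Cfsg.indFun T _)
    rw [charDegree_eq_of_apply_one (hdeg ψ.1)]
    exact hp.out.not_dvd_mul hidx ψ.2.1
  · rw [isOver_subtype]
    show Cfsg.classInner (fun n : K => Cfsg.indFun T _ n) θ ≠ 0
    rw [classInner_restrict_indFun hK hθ hT hle ψ.1.2 ((hover _).mp ψ.2.2)]
    exact (hover _).mp ψ.2.2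
  · intro ψ ψ' h
    exact Subtype.ext (Subtype.ext (indFun_injective_of_over hK hθ hT hle ψ.1.2 ψ'.1.2
      ((hover _).mp ψ.2.2) ((hover _).mp ψ'.2.2) (congrArg (fun q => (q.1 : G → ℂ)) h)))
  · intro χ
    obtain ⟨ψ, hψ, ho, -, hind⟩ := exists_over_inertia hK hθ hT hle χ.1
      ((isOver_subtype _ _).mp χ.2.2)
    refine ⟨⟨⟨ψ, hψ⟩, fun hd => χ.2.1 ?_, (hover _).mpr ho⟩, Subtype.ext (Subtype.ext hind)⟩
    rw [← hind, charDegree_eq_of_apply_one (hdeg ⟨ψ, hψ⟩)]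
    exact hd.mul_left _

end Orbits

end CfsgLib.Char.RelMcKay
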