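import Cfsg.Agent.Lib.Char.RelMcKay.Base
import Mathlib.GroupTheory.SchurZassenhaus

/-!
# The count over a character and over its correspondent
-/

set_option autoImplicit false
set_option linter.all false
set_option maxHeartbeats 1000000

namespace CfsgLib.Char.RelMcKay

open CfsgLib.CharAction CfsgLib.Clifford CfsgLib.CharExt CfsgLib.CharDegree
open scoped ComplexConjugate Classical commutatorElement

universe u

variable {G : Type u} [Group G] [Fintype G] {p : ℕ} [Fact p.Prime]

/-- Elements of `p'`-order in `K ⊔ S` lie in `K`. -/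
theorem mem_of_mem_sup {K S : Subgroup G} (hS : IsPGroup p S) (hK : (K.subgroupOf (K ⊔ S)).Normal)
    {h : G} (hh : h ∈ K ⊔ S) (hp : ¬ p ∣ orderOf h) : h ∈ K := by
  let q : (K ⊔ S : Subgroup G) →* (K ⊔ S : Subgroup G) ⧸ K.subgroupOf (K ⊔ S) := QuotientGroup.mk' _
  have hsq : IsPGroup p ((K ⊔ S : Subgroup G) ⧸ K.subgroupOf (K ⊔ S)) :=
    hS.of_surjective (q.comp (Subgroup.inclusion le_sup_right)) fun t => by
      obtain ⟨m, rfl⟩ := QuotientGroup.mk'_surjective _ t
      obtain ⟨a, ha, b, hb, e⟩ := Subgroup.mem_sup_of_normal_left.mp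
        (show m ∈ K.subgroupOf (K ⊔ S) ⊔ S.subgroupOf (K ⊔ S) by
          rw [← Subgroup.subgroupOf_sup le_sup_left le_sup_right]; exact m.2)
      refine ⟨⟨b, hb⟩, ?_⟩
      rw [← e]
      show q (Subgroup.inclusion le_sup_right ⟨(b : G), hb⟩) = q (a * b)
      rw [map_mul, show q a = 1 from (QuotientGroup.eq_one_iff a).mpr ha, one_mul]
      rfl
  obtain ⟨k, hk⟩ := hsq (q ⟨h, hh⟩)
  have h1 : orderOf (q ⟨h, hh⟩) ∣ p ^ k := orderOf_dvd_of_pow_eq_one hk
  have h2 : orderOf (q ⟨h, hh⟩) ∣ orderOf h := by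
    have := orderOf_map_dvd q ⟨h, hh⟩
    rwa [Subgroup.orderOf_mk] at this
  have h3 : orderOf (q ⟨h, hh⟩) = 1 := Nat.eq_one_of_dvd_coprimes
    (Nat.Coprime.pow_left _ ((Fact.out : p.Prime).coprime_iff_not_dvd.mpr hp)) h1 h2
  exact (QuotientGroup.eq_one_iff (⟨h, hh⟩ : (K ⊔ S : Subgroup G))).mp (orderOf_eq_one_iff.mp h3)

/-- The counts over corresponding characters agree. -/
theorem base_compare {K : Subgroup G} [hKn : K.Normal] [Fintype K] (hKp : ¬ p ∣ Nat.card K)
    (S : Sylow p G) (hMn : (K ⊔ (S : Subgroup G)).Normal) (θ : Cfsg.IrrCharacter K)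
    (hθ : ∀ g, conjFn hKn (θ : K → ℂ) g = (θ : K → ℂ))
    (C : Subgroup G) [Fintype C] (hC : C = K ⊓ Subgroup.centralizer ((S : Subgroup G) : Set G))
    (hCN : C ≤ Subgroup.normalizer ((S : Subgroup G) : Set G)) (hCK : C ≤ K)
    (φ : Cfsg.IrrCharacter C) (hcorr : GCorr p hCK θ φ) :
    cnt p K.subtype (θ : K → ℂ) = cnt p (Subgroup.inclusion hCN) (φ : C → ℂ) := by
  have hp : p.Prime := Fact.out
  set P : Subgroup G := (S : Subgroup G) with hP
  set M := K ⊔ P with hMdef
  set N : Subgroup G := Subgroup.normalizer (P : Set G) with hN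
  have hPN : P ≤ N := Subgroup.le_normalizer
  have hKN : N ≤ Subgroup.normalizer (K : Set G) := by rw [Subgroup.normalizer_eq_top]; exact le_top
  have hCnorm : N ≤ Subgroup.normalizer (C : Set G) := fun g hg => by
    rw [Subgroup.mem_normalizer_iff, hC]
    intro x
    simp only [Subgroup.mem_inf]
    refine and_congr (Subgroup.mem_normalizer_iff.mp (hKN hg) x) ?_
    simp only [Subgroup.mem_centralizer_iff]
    constructor
    · intro hh t ht
      have ht' : g⁻¹ * t * g ∈ P := by
        have := (Subgroup.mem_normalizer_iff.mp (inv_mem hg) t).mp ht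
        simpa using this
      calc t * (g * x * g⁻¹) = g * ((g⁻¹ * t * g) * x) * g⁻¹ := by group
        _ = _ := by rw [hh _ ht']; group
    · intro hh t ht
      have ht' : g * t * g⁻¹ ∈ P := (Subgroup.mem_normalizer_iff.mp hg t).mp ht
      calc t * x = g⁻¹ * ((g * t * g⁻¹) * (g * x * g⁻¹)) * g := by group
        _ = _ := by rw [hh _ ht']; group
  -- a complement in the normalizer
  have := Fintype.ofFinite N
  let SN : Subgroup N := P.subgroupOf N
  have hSNn : SN.Normal := Subgroup.normal_in_normalizer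
  let SNs : Sylow p N := S.subtype hPN
  have hSp : IsPGroup p SN := SNs.isPGroup'
  have hSNc : (Nat.card SN).Coprime SN.index := by
    obtain ⟨a, ha⟩ := IsPGroup.iff_card.mp hSp
    rw [ha]
    exact Nat.Coprime.pow_left _ (hp.coprime_iff_not_dvd.mpr SNs.not_dvd_index)
  obtain ⟨H', hH'⟩ := Subgroup.exists_right_complement'_of_coprime hSNc
  have hH'p : ¬ p ∣ Nat.card H' := by
    rw [← hH'.symm.index_eq_card]; exact SNs.not_dvd_index
  let CN : Subgroup N := C.subgroupOf N
  have hCNn : CN.Normal := (Subgroup.normal_subgroupOf_iff_le_normalizer hCN).mpr hCnorm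
  have := Fintype.ofFinite CN
  have hCp : ¬ p ∣ Nat.card C := fun h => hKp (h.trans (Subgroup.card_dvd_of_le hCK))
  have hCH : CN ≤ H' := by
    have h1 : ¬ p ∣ Nat.card (CN ⊔ H' : Subgroup N) := by
      intro h
      obtain ⟨u, hu⟩ := exists_prime_orderOf_dvd_card' p h
      let q : N →* N ⧸ CN := QuotientGroup.mk' CN
      obtain ⟨a, ha, b, hb, e⟩ := Subgroup.mem_sup_of_normal_left.mp u.2
      have hqu : q u = q b := by
        rw [← e, map_mul, show q a = 1 from (QuotientGroup.eq_one_iff a).mpr ha, one_mul]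
      have h2 : ((u : N)) ^ orderOf b ∈ CN := by
        rw [← QuotientGroup.eq_one_iff, QuotientGroup.mk_pow]
        show q u ^ orderOf b = 1
        rw [hqu, ← map_pow, pow_orderOf_eq_one, map_one]
      have h3 : ((u : N)) ^ (orderOf b * Nat.card CN) = 1 := by
        rw [pow_mul]
        exact congrArg Subtype.val (pow_card_eq_one' (x := (⟨_, h2⟩ : CN)))
      have h4 : p ∣ orderOf b * Nat.card CN := by
        rw [← hu]
        exact orderOf_dvd_of_pow_eq_one (Subtype.ext h3)
      rcases hp.dvd_mul.mp h4 with h5 | h5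
      · exact hH'p (h5.trans (by
          have := orderOf_dvd_natCard (⟨b, hb⟩ : H')
          rwa [Subgroup.orderOf_mk] at this))
      · rw [Nat.card_congr (Subgroup.subgroupOfEquivOfLe hCN).toEquiv] at h5
        exact hCp h5
    have h6 : Nat.card (CN ⊔ H' : Subgroup N) ∣ Nat.card H' := by
      obtain ⟨a, ha⟩ := IsPGroup.iff_card.mp hSp
      have h7 := Subgroup.card_subgroup_dvd_card (CN ⊔ H')
      rw [← hH'.card_mul, ha] at h7
      exact Nat.Coprime.dvd_of_dvd_mul_left
        (Nat.Coprime.pow_right _ (hp.coprime_iff_not_dvd.mpr h1).symm) h7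
    exact le_sup_left.trans (Subgroup.eq_of_le_of_card_ge le_sup_right
      (Nat.le_of_dvd Nat.card_pos h6)).ge
  let H : Subgroup G := H'.map N.subtype
  have hHN : H ≤ N := Subgroup.map_subtype_le H'
  have hHp : ¬ p ∣ Nat.card H := by
    rw [Nat.card_congr (Subgroup.equivMapOfInjective H' _ (Subgroup.subtype_injective N)).symm.toEquiv]
    exact hH'p
  have hHord : ∀ h ∈ H, ¬ p ∣ orderOf h := fun h hh hd => hHp (hd.trans (by
    have := orderOf_dvd_natCard (⟨h, hh⟩ : H)
    rwa [Subgroup.orderOf_mk] at this))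
  have hH'ord : ∀ h ∈ H', ¬ p ∣ orderOf (h : N) := fun h hh hd => hH'p (hd.trans (by
    have := orderOf_dvd_natCard (⟨h, hh⟩ : H')
    rwa [Subgroup.orderOf_mk] at this))
  -- positions
  have hKM : (K.subgroupOf M).Normal := inferInstance
  have hHM : H ⊓ M ≤ K := fun h hh => mem_of_mem_sup S.isPGroup' hKM hh.2 (hHord h hh.1)
  have hKNC : ∀ k, k ∈ K → k ∈ N → k ∈ C := fun k hk hkN => hC.ge ⟨hk,
    Subgroup.mem_centralizer_iff.mpr fun s hs => by
      have h1 : ⁅k, s⁆ ∈ K := by
        rw [show ⁅k, s⁆ = k * (s * k⁻¹ * s⁻¹) by rw [commutatorElement_def]; group]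
        exact mul_mem hk (hKn.conj_mem _ (inv_mem hk) s)
      have h2 : ⁅k, s⁆ ∈ P := by
        rw [commutatorElement_def]
        exact mul_mem ((Subgroup.mem_normalizer_iff.mp hkN s).mp hs) (inv_mem hs)
      obtain ⟨n, hn⟩ := S.isPGroup' ⟨_, h2⟩
      have h3 : orderOf ⁅k, s⁆ ∣ p ^ n := orderOf_dvd_of_pow_eq_one (congrArg Subtype.val hn)
      have h4 : orderOf ⁅k, s⁆ ∣ Nat.card K := by
        have := orderOf_dvd_natCard (⟨_, h1⟩ : K)
        rwa [Subgroup.orderOf_mk] at this
      have h5 := orderOf_eq_one_iff.mp (Nat.eq_one_of_dvd_coprimes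
        (Nat.Coprime.pow_left _ (hp.coprime_iff_not_dvd.mpr hKp)) h3 h4)
      exact (commutatorElement_eq_one_iff_mul_comm.mp h5).symm⟩
  have hgen : H ⊔ M = ⊤ := by
    have h1 := Sylow.normalizer_sup_eq_top' (N := M) S le_sup_right
    have h2 : N ≤ H ⊔ M := fun n hn => by
      obtain ⟨a, ha, b, hb, e⟩ := Subgroup.mem_sup_of_normal_left.mp
        (show (⟨n, hn⟩ : N) ∈ SN ⊔ H' by rw [hH'.sup_eq_top]; trivial)
      rw [show n = (a : G) * (b : G) from (congrArg Subtype.val e).symm]
      exact mul_mem (Subgroup.mem_sup_right (Subgroup.mem_sup_right ha))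
        (Subgroup.mem_sup_left ⟨b, hb, rfl⟩)
    exact eq_top_iff.mpr (h1.ge.trans (sup_le h2 le_sup_right))
  -- representations
  obtain ⟨d, σ, hσirr, hσ⟩ := θ.2
  obtain ⟨d', σC, hσCirr, hσC⟩ := φ.2
  have := hσirr
  have := hσCirr
  have hinv : ∀ g n, σ.character (cn g n) = σ.character n := fun g n => by
    rw [hσ]; exact congrFun (hθ g) n
  let eC : CN ≃* C := Subgroup.subgroupOfEquivOfLe hCN
  let σN : Representation ℂ CN (Fin d' → ℂ) := σC.comp eC.toMonoidHom
  have hσN : σN.IsIrreducible := by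
    refine isIrreducible_of_restrict σN eC.symm.toMonoidHom σC fun x => ?_
    show σC (eC (eC.symm x)) = σC x
    rw [MulEquiv.apply_symm_apply]
  have hθfix : ∀ g, g ∈ fixer (θ : K → ℂ) := fun g =>
    ⟨by rw [Subgroup.normalizer_eq_top]; trivial, fun k k' e => by
      rw [show k' = ⟨g * k * g⁻¹, hKn.conj_mem _ k.2 g⟩ from Subtype.ext e]
      exact congrFun (hθ g) k⟩
  have hφfix : ∀ g ∈ N, g ∈ fixer (φ : C → ℂ) := fun g hg =>
    gcorr_fixer S.isPGroup' (fun s _ => by rw [Subgroup.normalizer_eq_top]; trivial) hKp hC hCK θ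
      (fun s _ => hθfix s) hcorr (hθfix g) (hCnorm hg)
  have hinvN : ∀ g n, σN.character (cn g n) = σN.character n := fun g n => by
    show σC.character (eC (cn g n)) = σC.character (eC n)
    rw [hσC]
    exact (hφfix g g.2).2 (eC n) (eC (cn g n)) rfl
  -- the two formulas
  have F1 := base_count σ hinv hKp P H S.isPGroup' hMn
    (fun h => S.not_dvd_index (h.trans (Subgroup.index_dvd_of_le le_sup_right))) hHN hgen hHM
  rw [hσ] at F1
  have hCSn : (CN ⊔ SN).Normal := inferInstance
  have hH'M : H' ⊓ (CN ⊔ SN) ≤ CN := fun h hh =>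
    mem_of_mem_sup (SNs.isPGroup' : IsPGroup p SN) inferInstance hh.2 (hH'ord h hh.1)
  have F2 := base_count σN hinvN (fun h => hCp (by
      rwa [Nat.card_congr (Subgroup.subgroupOfEquivOfLe hCN).toEquiv] at h)) SN H'
    (SNs.isPGroup') hCSn (fun h => SNs.not_dvd_index (h.trans (Subgroup.index_dvd_of_le le_sup_right)))
    (by rw [Subgroup.normalizer_eq_top]; exact le_top)
    (eq_top_iff.mpr (hH'.sup_eq_top.ge.trans (sup_le (le_sup_of_le_right le_sup_right) le_sup_left)))
    hH'M
  have e1 : cnt p CN.subtype σN.character = cnt p (Subgroup.inclusion hCN) (φ : C → ℂ) :=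
    cnt_congr p (MulEquiv.refl N) eC CN.subtype (Subgroup.inclusion hCN) (fun n => rfl) _ _
      fun n => (congrFun hσC (eC n)).symm
  have e2 : Nat.card (H' ⊓ (CN ⊔ SN) : Subgroup N) = Nat.card (H ⊓ M : Subgroup G) := by
    rw [show H' ⊓ (CN ⊔ SN) = CN from le_antisymm hH'M (le_inf hCH le_sup_left),
      show H ⊓ M = C from le_antisymm (fun h hh => hKNC h (hHM hh) (hHN hh.1))
        (le_inf (fun c hc => ⟨⟨c, hCN hc⟩, hCH hc, rfl⟩) (hCK.trans le_sup_left))]
    exact Nat.card_congr eC.toEquiv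
  have e3 : Nat.card H' = Nat.card H :=
    Nat.card_congr (Subgroup.equivMapOfInjective H' _ (Subgroup.subtype_injective N)).toEquiv
  -- the sums agree
  have hsum : pairSum σ P H = pairSum σN SN H' := by
    let eS : SN ≃* P := Subgroup.subgroupOfEquivOfLe hPN
    let eH : H' ≃* H := Subgroup.equivMapOfInjective H' _ (Subgroup.subtype_injective N)
    let eμ : (P →* ℂˣ) ≃ (SN →* ℂˣ) :=
      { toFun := fun μ => μ.comp eS.toMonoidHom
        invFun := fun μ => μ.comp eS.symm.toMonoidHom
        left_inv := fun μ => MonoidHom.ext fun s => congrArg μ (eS.apply_symm_apply s)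
        right_inv := fun μ => MonoidHom.ext fun s => congrArg μ (eS.symm_apply_apply s) }
    unfold pairSum
    refine (Fintype.sum_equiv eμ.symm _ _ fun μ => Fintype.sum_equiv eH.toEquiv _ _ fun x =>
      Fintype.sum_equiv eH.toEquiv _ _ fun y => ?_).symm
    have hfix : ∀ z : H', FixesLin SN μ (z : N) ↔ FixesLin P (eμ.symm μ) ((z : N) : G) := by
      intro z
      constructor
      · intro h s s' e
        exact h (eS.symm s) (eS.symm s') (Subtype.ext e)
      · intro h s s' e
        have h2 := h (eS s) (eS s') (congrArg Subtype.val e)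
        show μ s' = μ s
        simpa [eμ] using h2
    have hom : om σN (x : N) (y : N) = om σ ((x : N) : G) ((y : N) : G) := by
      have hxH : ((x : N) : G) ∈ H := ⟨x, x.2, rfl⟩
      have hyH : ((y : N) : G) ∈ H := ⟨y, y.2, rfl⟩
      have hσNintw : ∀ z : N, ∃ A, (z, A) ∈ intwGroup σN := fun z =>
        exists_intw σN (by rw [Subgroup.normalizer_eq_top]; trivial) fun n n' e => by
          rw [show n' = cn z n from Subtype.ext e]; exact hinvN z n
      have h1 := om_map σC σN N.subtype (Subgroup.subtype_injective N)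
        (fun n => ⟨⟨⟨n, hCN n.2⟩, n.2⟩, rfl, rfl⟩) (x := (x : N)) (y := (y : N)) Iff.rfl
        (hσNintw _) (hσNintw _) (hCnorm (x : N).2) (hCnorm (y : N).2)
      refine h1.symm.trans ?_
      show om σC ((x : N) : G) ((y : N) : G) = _
      by_cases hxy : ⁅((x : N) : G), ((y : N) : G)⁆ ∈ C
      · obtain ⟨c, hc, hc'⟩ := omega_agree _ K P C H rfl S.isPGroup'
          (fun s _ => by rw [Subgroup.normalizer_eq_top]; trivial) hKp hC hCK hHp hHN σ σC θ φ hσ hσC
          (fun s _ => hθfix s) (fun s _ => hθfix s) hcorr _ hxH _ hyH hxy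
        rw [hc.om_eq, hc'.om_eq]
      · unfold om
        rw [dif_neg, dif_neg]
        · rintro ⟨c, A, B, -, -, hk, -⟩
          refine hxy (hKNC _ hk ?_)
          rw [commutatorElement_def]
          exact mul_mem (mul_mem (mul_mem (x : N).2 (y : N).2) (inv_mem (x : N).2)) (inv_mem (y : N).2)
        · rintro ⟨c, A, B, -, -, hk, -⟩; exact hxy hk
    rw [hom]
    exact if_congr (and_congr (hfix x) (hfix y)) rfl rfl
  rw [hsum, ← F2, e1, e2, e3] at F1
  refine Nat.cast_injective (R := ℂ) (mul_left_cancel₀ ?_ F1)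
  exact mul_ne_zero (Nat.cast_ne_zero.mpr Nat.card_pos.ne') (Nat.cast_ne_zero.mpr Nat.card_pos.ne')

end CfsgLib.Char.RelMcKay
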