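import Cfsg.Agent.Lib.Char.RelMcKay.Compare
import Cfsg.Agent.Lib.Char.RelMcKay.Correspond
import Cfsg.Agent.Lib.PLocal.PSolvableExt
import Cfsg.Agent.Lib.Core.Cores

/-!
# The count over a linear character of a central `p'`-subgroup, by induction on the index
-/

set_option autoImplicit false
set_option linter.all false
set_option maxHeartbeats 1000000

namespace CfsgLib.Char.RelMcKay

open CfsgLib.CharAction CfsgLib.Clifford CfsgLib.CharDegree
open scoped ComplexConjugate Classical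

universe u

/-- The counting statement over invariant characters of normal subgroups of index less than `n`. -/
def MainBelow (p : ℕ) [Fact p.Prime] (n : ℕ) : Prop :=
  ∀ (G : Type u) [Group G] [Fintype G], Cfsg.IsPSolvable p G →
    ∀ (L : Subgroup G) (hLn : L.Normal), L.index < n →
      ∀ (S : Sylow p G) (ν : Cfsg.IrrCharacter L),
        (∀ g, conjFn hLn (ν : L → ℂ) g = (ν : L → ℂ)) →
        ∀ hLN : L ≤ Subgroup.normalizer ((L ⊔ (S : Subgroup G) : Subgroup G) : Set G),
          cnt p L.subtype (ν : L → ℂ) = cnt p (Subgroup.inclusion hLN) (ν : L → ℂ)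

variable {p : ℕ} [Fact p.Prime] {G : Type u} [Group G] [Fintype G]

theorem mem_fixer_iff {K : Subgroup G} [hKn : K.Normal] (θ : K → ℂ) (g : G) :
    g ∈ fixer θ ↔ conjFn hKn θ g = θ := by
  constructor
  · exact fun h => funext fun k => h.2 k _ rfl
  · intro h
    refine ⟨by rw [Subgroup.normalizer_eq_top]; trivial, fun k k' e => ?_⟩
    rw [show k' = ⟨g * k * g⁻¹, hKn.conj_mem _ k.2 g⟩ from Subtype.ext e]
    exact congrFun h k

theorem index_lt_of_lt {Z K : Subgroup G} (h : Z < K) : K.index < Z.index := by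
  rw [← Subgroup.relIndex_mul_index h.le]
  refine lt_mul_of_one_lt_left (Nat.pos_of_ne_zero Subgroup.index_ne_zero_of_finite) ?_
  have h0 : Z.relIndex K ≠ 0 := Subgroup.index_ne_zero_of_finite
  have h1 : Z.relIndex K ≠ 1 := fun e => h.not_ge (Subgroup.relIndex_eq_one.mp e)
  omega

/-- The induction hypothesis applied in an inertia group. -/
theorem cnt_inertia_step {n : ℕ} (IH : MainBelow.{u} p n) (hG : Cfsg.IsPSolvable p G)
    {K : Subgroup G} [hKn : K.Normal] [Fintype K] (hidx : K.index < n) (S : Sylow p G)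
    (θ : Cfsg.IrrCharacter K)
    (hθS : ∀ s ∈ (S : Subgroup G), conjFn hKn (θ : K → ℂ) s = (θ : K → ℂ))
    (hKT : K ≤ inertia hKn (θ : K → ℂ)) (W : Subgroup G)
    (hW : W = Subgroup.normalizer ((K ⊔ (S : Subgroup G) : Subgroup G) : Set G) ⊓
      inertia hKn (θ : K → ℂ)) (hKW : K ≤ W) :
    cnt p (Subgroup.inclusion hKT) (θ : K → ℂ) = cnt p (Subgroup.inclusion hKW) (θ : K → ℂ) := by
  subst hW
  set T : Subgroup G := inertia hKn (θ : K → ℂ) with hTdef
  have hST : (S : Subgroup G) ≤ T := fun s hs => hθS s hs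
  have := Fintype.ofFinite T
  let KT : Subgroup T := K.subgroupOf T
  have hKTn : KT.Normal := hKn.subgroupOf T
  let e : KT ≃* K := Subgroup.subgroupOfEquivOfLe hKT
  let ν : Cfsg.IrrCharacter KT := ⟨_, IsIrr.comp_surjective e.toMonoidHom e.surjective θ.2⟩
  let ST : Sylow p T := S.subtype hST
  have hnorm : Subgroup.normalizer ((KT ⊔ (ST : Subgroup T) : Subgroup T) : Set T) =
      (Subgroup.normalizer ((K ⊔ (S : Subgroup G) : Subgroup G) : Set G)).subgroupOf T := by
    rw [Subgroup.subgroupOf_normalizer_eq (sup_le hKT hST), Subgroup.subgroupOf_sup hKT hST]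
    rfl
  have hlt : KT.index < n :=
    lt_of_le_of_lt (Nat.le_of_dvd (Nat.pos_of_ne_zero Subgroup.index_ne_zero_of_finite)
      (Subgroup.relIndex_dvd_index_of_normal K T)) hidx
  have hle : KT ≤ Subgroup.normalizer ((KT ⊔ (ST : Subgroup T) : Subgroup T) : Set T) :=
    le_sup_left.trans Subgroup.le_normalizer
  have hinv : ∀ t : T, conjFn hKTn (ν : KT → ℂ) t = (ν : KT → ℂ) := fun t =>
    funext fun k => (congrArg (θ : K → ℂ) (Subtype.ext rfl)).trans
      (congrFun (mem_inertia.mp t.2) (e k))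
  have h := IH T (CfsgLib.PLocal.isPSolvable_subgroup hG T) KT hKTn hlt ST ν hinv hle
  have e1 : cnt p KT.subtype (ν : KT → ℂ) = cnt p (Subgroup.inclusion hKT) (θ : K → ℂ) :=
    cnt_congr p (MulEquiv.refl T) e _ _ (fun k => rfl) _ _ fun k => rfl
  rw [← e1, h]
  let eW : Subgroup.normalizer ((KT ⊔ (ST : Subgroup T) : Subgroup T) : Set T) ≃*
      (Subgroup.normalizer ((K ⊔ (S : Subgroup G) : Subgroup G) : Set G) ⊓ T : Subgroup G) :=
    { toFun := fun w => ⟨((w : T) : G), hnorm.le w.2, (w : T).2⟩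
      invFun := fun g => ⟨⟨g, g.2.2⟩, hnorm.ge g.2.1⟩
      left_inv := fun w => rfl
      right_inv := fun g => rfl
      map_mul' := fun a b => rfl }
  exact cnt_congr p eW e _ _ (fun k => rfl) _ _ fun k => rfl

/-- The comparison of correspondents, inside a subgroup in which `K ⊔ S` is normal. -/
theorem base_compare_inner {K : Subgroup G} [hKn : K.Normal] [Fintype K] (hKp : ¬ p ∣ Nat.card K)
    (S : Sylow p G) {C : Subgroup G} [Fintype C]
    (hC : C = K ⊓ Subgroup.centralizer ((S : Subgroup G) : Set G)) (hCK : C ≤ K)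
    (θ : Cfsg.IrrCharacter K) (φ : Cfsg.IrrCharacter C) (hcorr : GCorr p hCK θ φ)
    (W X : Subgroup G) (hKW : K ≤ W) (hSW : (S : Subgroup G) ≤ W)
    (hWP : W ≤ Subgroup.normalizer ((K ⊔ (S : Subgroup G) : Subgroup G) : Set G))
    (hWθ : ∀ w ∈ W, conjFn hKn (θ : K → ℂ) w = (θ : K → ℂ))
    (hX : X = Subgroup.normalizer ((S : Subgroup G) : Set G) ⊓ W) (hCX : C ≤ X) :
    cnt p (Subgroup.inclusion hKW) (θ : K → ℂ) = cnt p (Subgroup.inclusion hCX) (φ : C → ℂ) := by
  subst hX
  have := Fintype.ofFinite W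
  let KW : Subgroup W := K.subgroupOf W
  let CW : Subgroup W := C.subgroupOf W
  have hKWn : KW.Normal := hKn.subgroupOf W
  have := Fintype.ofFinite KW
  have := Fintype.ofFinite CW
  let SW : Sylow p W := S.subtype hSW
  let eK : KW ≃* K := Subgroup.subgroupOfEquivOfLe hKW
  let eC : CW ≃* C := Subgroup.subgroupOfEquivOfLe (hCK.trans hKW)
  let θ' : Cfsg.IrrCharacter KW := ⟨_, IsIrr.comp_surjective eK.toMonoidHom eK.surjective θ.2⟩
  let φ' : Cfsg.IrrCharacter CW := ⟨_, IsIrr.comp_surjective eC.toMonoidHom eC.surjective φ.2⟩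
  have hMn : (KW ⊔ (SW : Subgroup W)).Normal := by
    show (K.subgroupOf W ⊔ (S : Subgroup G).subgroupOf W).Normal
    rw [← Subgroup.subgroupOf_sup hKW hSW]
    exact (Subgroup.normal_subgroupOf_iff_le_normalizer (sup_le hKW hSW)).mpr hWP
  have hθ' : ∀ w : W, conjFn hKWn (θ' : KW → ℂ) w = (θ' : KW → ℂ) := fun w => funext fun k =>
    (congrArg (θ : K → ℂ) (Subtype.ext rfl)).trans (congrFun (hWθ (w : G) w.2) (eK k))
  have hCK' : CW ≤ KW := fun c hc => hCK hc
  have hC' : CW = KW ⊓ Subgroup.centralizer ((SW : Subgroup W) : Set W) := by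
    ext w
    rw [Subgroup.mem_inf, Subgroup.mem_subgroupOf, Subgroup.mem_subgroupOf, hC, Subgroup.mem_inf]
    refine and_congr_right fun _ => ?_
    rw [Subgroup.mem_centralizer_iff, Subgroup.mem_centralizer_iff]
    exact ⟨fun h s hs => Subtype.ext (h (s : G) hs),
      fun h s hs => congrArg Subtype.val (h ⟨s, hSW hs⟩ hs)⟩
  have hcorr' : GCorr p hCK' θ' φ' := by
    have e : (mult (Subgroup.inclusion hCK') θ' φ' : ℂ) = mult (Subgroup.inclusion hCK) θ φ := by
      rw [← classInner_eq_mult, ← classInner_eq_mult]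
      exact classInner_comp_equiv eC (fun c => (θ : K → ℂ) (Subgroup.inclusion hCK c)) (φ : C → ℂ)
    unfold GCorr
    rwa [Nat.cast_injective e]
  have hKp' : ¬ p ∣ Nat.card KW := by
    rwa [Nat.card_congr eK.toEquiv]
  have hCN' : CW ≤ Subgroup.normalizer ((SW : Subgroup W) : Set W) :=
    hC'.le.trans (inf_le_right.trans (Subgroup.centralizer_le_normalizer _))
  have h := base_compare hKp' SW hMn θ' hθ' CW hC' hCN' hCK' φ' hcorr'
  have e1 : cnt p KW.subtype (θ' : KW → ℂ) = cnt p (Subgroup.inclusion hKW) (θ : K → ℂ) :=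
    cnt_congr p (MulEquiv.refl W) eK _ _ (fun k => rfl) _ _ fun k => rfl
  rw [← e1, h]
  have hnorm : Subgroup.normalizer ((SW : Subgroup W) : Set W) =
      (Subgroup.normalizer ((S : Subgroup G) : Set G)).subgroupOf W :=
    (Subgroup.subgroupOf_normalizer_eq hSW).symm
  let eX : Subgroup.normalizer ((SW : Subgroup W) : Set W) ≃*
      (Subgroup.normalizer ((S : Subgroup G) : Set G) ⊓ W : Subgroup G) :=
    { toFun := fun w => ⟨((w : W) : G), hnorm.le w.2, (w : W).2⟩
      invFun := fun g => ⟨⟨g, g.2.2⟩, hnorm.ge g.2.1⟩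
      left_inv := fun w => rfl
      right_inv := fun g => rfl
      map_mul' := fun a b => rfl }
  exact cnt_congr p eX eC _ _ (fun k => rfl) _ _ fun k => rfl

/-- Linked characters restrict proportionally to a central subgroup. -/
theorem over_iff_of_linked {Z C K : Subgroup G} [Fintype Z] [Fintype C]
    (hZ : Z ≤ Subgroup.center G) (hZC : Z ≤ C) (hCK : C ≤ K) (θ : Cfsg.IrrCharacter K)
    (φ : Cfsg.IrrCharacter C) (h : Cfsg.classInner (resTo hCK (θ : K → ℂ)) (φ : C → ℂ) ≠ 0)
    (l : Z → ℂ) :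
    Cfsg.classInner (resTo hZC (φ : C → ℂ)) l ≠ 0 ↔
      Cfsg.classInner (resTo (hZC.trans hCK) (θ : K → ℂ)) l ≠ 0 := by
  have := Fintype.ofFinite K
  have key : ∀ z : Z, ∃ c : ℂ, (∀ x : C, (φ : C → ℂ) (x * Subgroup.inclusion hZC z) = c * (φ : C → ℂ) x) ∧
      ∀ k : K, (θ : K → ℂ) (k * Subgroup.inclusion (hZC.trans hCK) z) = c * (θ : K → ℂ) k := by
    intro z
    obtain ⟨b, hb⟩ := exists_scalar_central φ (z := Subgroup.inclusion hZC z)
      (Subgroup.mem_center_iff.mpr fun x => Subtype.ext (Subgroup.mem_center_iff.mp (hZ z.2) x))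
    obtain ⟨a, ha⟩ := exists_scalar_central θ (z := Subgroup.inclusion (hZC.trans hCK) z)
      (Subgroup.mem_center_iff.mpr fun x => Subtype.ext (Subgroup.mem_center_iff.mp (hZ z.2) x))
    have shift : ∀ (f : C → ℂ) (a' : ℂ), (∀ x, f (x * Subgroup.inclusion hZC z) = a' * f x) →
        Cfsg.classInner f (φ : C → ℂ) ≠ 0 → a' * conj b = 1 := by
      intro f a' hf hne
      rw [Cfsg.classInner] at hne
      have e : a' * conj b * ∑ x : C, f x * conj ((φ : C → ℂ) x) =
          ∑ x : C, f x * conj ((φ : C → ℂ) x) := by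
        conv_rhs => rw [← Equiv.sum_comp (Equiv.mulRight (Subgroup.inclusion hZC z))]
        rw [Finset.mul_sum]
        refine Finset.sum_congr rfl fun x _ => ?_
        show _ = f (x * Subgroup.inclusion hZC z) * conj ((φ : C → ℂ) (x * Subgroup.inclusion hZC z))
        rw [hf, hb, map_mul]
        ring
      exact (mul_eq_right₀ (right_ne_zero_of_mul hne)).mp e
    have h1 : a * conj b = 1 := shift (resTo hCK (θ : K → ℂ)) a
      (fun x => ha (Subgroup.inclusion hCK x)) h
    have h2 : b * conj b = 1 := shift (φ : C → ℂ) b hb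
      (by rw [classInner_irr_self]; exact one_ne_zero)
    have hab : a = b := by linear_combination b * h1 - a * h2
    exact ⟨b, hb, hab ▸ ha⟩
  choose c hcφ hcθ using key
  have hne1 : (θ : K → ℂ) 1 ≠ 0 := IsIrr.apply_one_ne_zero θ.2
  have hne2 : (φ : C → ℂ) 1 ≠ 0 := IsIrr.apply_one_ne_zero φ.2
  have hprop : resTo hZC (φ : C → ℂ) =
      ((φ : C → ℂ) 1 / (θ : K → ℂ) 1) • resTo (hZC.trans hCK) (θ : K → ℂ) := by
    funext z
    have e1 := hcφ z 1
    have e2 := hcθ z 1
    rw [one_mul] at e1 e2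
    show (φ : C → ℂ) (Subgroup.inclusion hZC z) =
      (φ : C → ℂ) 1 / (θ : K → ℂ) 1 * (θ : K → ℂ) (Subgroup.inclusion (hZC.trans hCK) z)
    rw [e1, e2]
    field_simp
  rw [hprop, classInner_smul_left, mul_ne_zero_iff]
  exact ⟨fun h' => h'.2, fun h' => ⟨div_ne_zero hne2 hne1, h'⟩⟩

section Corr

variable {A K C : Subgroup G} [Fintype C] (hA : IsPGroup p A)
  (hAK : A ≤ Subgroup.normalizer (K : Set G)) (hKp : ¬ p ∣ Nat.card K)
  (hC : C = K ⊓ Subgroup.centralizer (A : Set G)) (hCK : C ≤ K)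

include hAK hC in
theorem fixed_range : letI := conjAction hAK
    ∀ g : K, g ∈ (Subgroup.inclusion hCK).range ↔ ∀ a : A, a • g = g := by
  letI := conjAction hAK
  intro g
  constructor
  · rintro ⟨c, rfl⟩ a
    refine Subtype.ext ?_
    have h1 := Subgroup.mem_centralizer_iff.mp (Subgroup.mem_inf.mp (hC.le c.2)).2 a a.2
    show (a : G) * c * (a : G)⁻¹ = c
    rw [h1, mul_inv_cancel_right]
  · intro h
    refine ⟨⟨g, hC.ge ⟨g.2, Subgroup.mem_centralizer_iff.mpr fun a ha => ?_⟩⟩, Subtype.ext rfl⟩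
    have := congrArg Subtype.val (h ⟨a, ha⟩)
    exact mul_inv_eq_iff_eq_mul.mp this

include hA hAK hKp hC in
theorem gcorr_injective (θ θ' : Cfsg.IrrCharacter K) (hθ : A ≤ fixer (θ : K → ℂ))
    (hθ' : A ≤ fixer (θ' : K → ℂ)) {φ : Cfsg.IrrCharacter C} (h : GCorr p hCK θ φ)
    (h' : GCorr p hCK θ' φ) : θ = θ' := by
  letI := conjAction hAK
  have := Fintype.ofFinite K
  exact correspondent_injective hA (Subgroup.inclusion hCK) (Subgroup.inclusion_injective hCK)
    (fixed_range hAK hC hCK) hKp (χ := θ) (χ' := θ') (fun a g => (hθ a.2).2 g _ rfl)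
    (fun a g => (hθ' a.2).2 g _ rfl) h h'

include hA hAK hKp hC in
theorem gcorr_surjective (φ : Cfsg.IrrCharacter C) :
    ∃ θ : Cfsg.IrrCharacter K, A ≤ fixer (θ : K → ℂ) ∧ GCorr p hCK θ φ := by
  letI := conjAction hAK
  have := Fintype.ofFinite K
  obtain ⟨η, hη, hm⟩ := correspondent_surjective hA (Subgroup.inclusion hCK)
    (Subgroup.inclusion_injective hCK) (fixed_range hAK hC hCK) hKp φ
  refine ⟨η, fun a ha => ⟨hAK ha, fun k k' e => ?_⟩, hm⟩
  rw [show k' = (⟨a, ha⟩ : A) • k from Subtype.ext e]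
  exact hη ⟨a, ha⟩ k

end Corr

theorem normalizer_le_normalizer_inf_centralizer {K : Subgroup G} [hKn : K.Normal]
    (S : Subgroup G) :
    Subgroup.normalizer (S : Set G) ≤
      Subgroup.normalizer ((K ⊓ Subgroup.centralizer (S : Set G) : Subgroup G) : Set G) := by
  intro g hg
  rw [Subgroup.mem_normalizer_iff]
  intro x
  simp only [Subgroup.mem_inf]
  refine and_congr ⟨fun hx => hKn.conj_mem _ hx g, fun hx => ?_⟩ ?_
  · have := hKn.conj_mem _ hx g⁻¹
    simpa [mul_assoc] using this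
  simp only [Subgroup.mem_centralizer_iff]
  constructor
  · intro hh t ht
    have ht' : g⁻¹ * t * g ∈ S := by
      have := (Subgroup.mem_normalizer_iff.mp (inv_mem hg) t).mp ht
      simpa using this
    calc t * (g * x * g⁻¹) = g * ((g⁻¹ * t * g) * x) * g⁻¹ := by group
      _ = _ := by rw [hh _ ht']; group
  · intro hh t ht
    have ht' : g * t * g⁻¹ ∈ S := (Subgroup.mem_normalizer_iff.mp hg t).mp ht
    calc t * x = g⁻¹ * ((g * t * g⁻¹) * (g * x * g⁻¹)) * g := by group
      _ = _ := by rw [hh _ ht']; group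

theorem not_dvd_degree_of_pprime {C : Subgroup G} (hCp : ¬ p ∣ Nat.card C)
    (φ : Cfsg.IrrCharacter C) : ¬ p ∣ Cfsg.charDegree (φ : C → ℂ) := by
  have := Fintype.ofFinite C
  obtain ⟨d, hd, -, hdd⟩ := degree_dvd_card φ
  rw [charDegree_eq_of_apply_one hd]
  exact fun h => hCp (h.trans hdd)

/-- The case of a `p'`-core larger than the central subgroup. -/
theorem central_step_pprime {n : ℕ} (IH : MainBelow.{u} p n) (hG : Cfsg.IsPSolvable p G)
    {Z K : Subgroup G} [hZn : Z.Normal] [hKn : K.Normal] [Fintype Z] [Fintype K]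
    (hidx : K.index < n) (hZK : Z ≤ K) (hKp : ¬ p ∣ Nat.card K) (hZc : Z ≤ Subgroup.center G)
    (S : Sylow p G) (hZN : Z ≤ Subgroup.normalizer ((S : Subgroup G) : Set G))
    (l : Cfsg.IrrCharacter Z) (hl : ∀ g, conjFn hZn (l : Z → ℂ) g = (l : Z → ℂ)) :
    cnt p Z.subtype (l : Z → ℂ) = cnt p (Subgroup.inclusion hZN) (l : Z → ℂ) := by
  set P : Subgroup G := (S : Subgroup G) with hP
  set N : Subgroup G := Subgroup.normalizer (P : Set G) with hN
  set C : Subgroup G := K ⊓ Subgroup.centralizer (P : Set G) with hC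
  have := Fintype.ofFinite C
  have hCK : C ≤ K := inf_le_left
  have hPK : P ≤ Subgroup.normalizer (K : Set G) := by rw [Subgroup.normalizer_eq_top]; exact le_top
  have hZC : Z ≤ C := le_inf hZK fun z hz => Subgroup.mem_centralizer_iff.mpr fun s _ =>
    Subgroup.mem_center_iff.mp (hZc hz) s
  have hCN : C ≤ N := inf_le_right.trans (Subgroup.centralizer_le_normalizer _)
  have hNC : N ≤ Subgroup.normalizer (C : Set G) := normalizer_le_normalizer_inf_centralizer P
  have hCp : ¬ p ∣ Nat.card C := fun h => hKp (h.trans (Subgroup.card_dvd_of_le hCK))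
  have hfixS : ∀ θ : Cfsg.IrrCharacter K, IsGoodBelow p hKn P hZK l θ →
      P ≤ fixer (θ : K → ℂ) := fun θ hθ s hs => (mem_fixer_iff _ s).mpr (hθ.1 s hs)
  have hNK : ∀ X : Subgroup G, N ⊓ X = N ⊓ (Subgroup.normalizer ((K ⊔ P : Subgroup G) : Set G) ⊓ X) := by
    intro X
    refine le_antisymm (fun g hg => ⟨hg.1, ?_, hg.2⟩) (inf_le_inf_left N inf_le_right)
    have hgK : g ∈ Subgroup.normalizer (K : Set G) := by rw [Subgroup.normalizer_eq_top]; trivial
    refine Subgroup.mem_normalizer_iff.mpr ?_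
    have : ∀ (h : G), h ∈ N → h ∈ Subgroup.normalizer (K : Set G) → ∀ x, x ∈ K ⊔ P → h * x * h⁻¹ ∈ K ⊔ P := by
      intro h h1 h2 x hx
      obtain ⟨a, ha, b, hb, rfl⟩ := Subgroup.mem_sup_of_normal_left.mp hx
      rw [show h * (a * b) * h⁻¹ = (h * a * h⁻¹) * (h * b * h⁻¹) by group]
      exact mul_mem (Subgroup.mem_sup_left ((Subgroup.mem_normalizer_iff.mp h2 a).mp ha))
        (Subgroup.mem_sup_right ((Subgroup.mem_normalizer_iff.mp h1 b).mp hb))
    refine fun x => ⟨this g hg.1 hgK x, fun hx => ?_⟩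
    have h2 := this g⁻¹ (inv_mem hg.1) (inv_mem hgK) _ hx
    simpa [mul_assoc] using h2
  refine side_compare S hZK hZC hCN hNC hZN l hl (fun θ φ => GCorr p hCK θ φ) ?_ ?_ ?_ ?_ ?_ ?_ ?_
  · intro θ hθ
    obtain ⟨φ, hφ, -⟩ := gcorr_exists S.isPGroup' hPK hKp rfl hCK θ (hfixS θ hθ)
    exact ⟨φ, hφ⟩
  · intro θ hθ φ φ' h h'
    exact gcorr_unique S.isPGroup' hPK hKp rfl hCK θ (hfixS θ hθ) h h'
  · intro θ φ h hθ
    refine ⟨fun s hs => mem_fixer_of_centralizing _ ?_, not_dvd_degree_of_pprime hCp φ, ?_⟩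
    · exact Subgroup.mem_centralizer_iff.mpr fun c hc =>
        ((Subgroup.mem_centralizer_iff.mp (Subgroup.mem_inf.mp hc).2) s hs).symm
    · exact (over_iff_of_linked hZc hZC hCK θ φ h.isOver _).mpr hθ.2.2
  · intro φ _ _ hφl
    obtain ⟨θ, hθ, hm⟩ := gcorr_surjective S.isPGroup' hPK hKp rfl hCK φ
    exact ⟨θ, ⟨fun s hs => (mem_fixer_iff _ s).mp (hθ hs), not_dvd_degree_of_pprime hKp θ,
      (over_iff_of_linked hZc hZC hCK θ φ hm.isOver _).mp hφl⟩, hm⟩
  · intro θ θ' φ hθ hθ' h h'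
    exact gcorr_injective S.isPGroup' hPK hKp rfl hCK θ θ' (hfixS θ hθ) (hfixS θ' hθ') h h'
  · intro θ φ hθ h g hg
    constructor
    · intro e
      exact gcorr_fixer S.isPGroup' hPK hKp rfl hCK θ (hfixS θ hθ) h ((mem_fixer_iff _ g).mpr e)
        (hNC hg)
    · intro hgφ
      let θ' : Cfsg.IrrCharacter K := ⟨_, isIrrCharacter_conjFn hKn θ.2 g⟩
      have hθ' : P ≤ fixer (θ' : K → ℂ) := fun s hs => (mem_fixer_iff _ s).mpr (by
        show conjFn hKn (conjFn hKn (θ : K → ℂ) g) s = conjFn hKn (θ : K → ℂ) g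
        rw [← conjFn_mul, show g * s = (g * s * g⁻¹) * g by group, conjFn_mul,
          hθ.1 _ ((Subgroup.mem_normalizer_iff.mp hg s).mp hs)])
      have h' : GCorr p hCK θ' φ := by
        have e : (mult (Subgroup.inclusion hCK) θ' φ : ℂ) = mult (Subgroup.inclusion hCK) θ φ := by
          rw [← classInner_eq_mult, ← classInner_eq_mult]
          conv_rhs => rw [← classInner_comp_equiv (cAut C (hNC hg))
            (fun c => (θ : K → ℂ) (Subgroup.inclusion hCK c))]
          congr 1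
          exact funext fun c => (hgφ.2 c (cAut C (hNC hg) c) rfl).symm
        unfold GCorr
        rwa [Nat.cast_injective e]
      exact congrArg Subtype.val
        (gcorr_injective S.isPGroup' hPK hKp rfl hCK θ' θ hθ' (hfixS θ hθ) h' h)
  · intro θ φ hθ h h1 h2
    set T : Subgroup G := inertia hKn (θ : K → ℂ) with hT
    have hPT : P ≤ T := fun s hs => hθ.1 s hs
    have hKW : K ≤ Subgroup.normalizer ((K ⊔ P : Subgroup G) : Set G) ⊓ T :=
      le_inf (le_sup_left.trans Subgroup.le_normalizer) h1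
    rw [cnt_inertia_step IH hG hidx S θ hθ.1 h1 _ rfl hKW]
    exact base_compare_inner hKp S rfl hCK θ φ h _ _ hKW
      (le_inf (le_sup_right.trans Subgroup.le_normalizer) hPT) inf_le_left (fun w hw => hw.2)
      (hNK T) h2

/-- A central `p'`-subgroup does not change the normalizer of a Sylow subgroup. -/
theorem normalizer_central_sup {Z : Subgroup G} (hZc : Z ≤ Subgroup.center G)
    (hZp : ¬ p ∣ Nat.card Z) (S : Sylow p G) :
    Subgroup.normalizer ((Z ⊔ (S : Subgroup G) : Subgroup G) : Set G) =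
      Subgroup.normalizer ((S : Subgroup G) : Set G) := by
  have hZn : Z.Normal := ⟨fun z hz g => by
    rwa [Subgroup.mem_center_iff.mp (hZc hz) g, mul_inv_cancel_right]⟩
  have hpel : ∀ x ∈ Z ⊔ (S : Subgroup G), ∀ k : ℕ, x ^ p ^ k = 1 → x ∈ (S : Subgroup G) := by
    intro x hx k hk
    obtain ⟨z, hz, s, hs, rfl⟩ := Subgroup.mem_sup_of_normal_left.mp hx
    have hc : Commute z s := (Subgroup.mem_center_iff.mp (hZc hz) s).symm
    obtain ⟨j, hj⟩ := S.isPGroup' ⟨s, hs⟩
    have hsj : s ^ p ^ j = 1 := congrArg Subtype.val hj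
    have h1 : z ^ p ^ (k + j) = 1 := by
      have h2 : (z * s) ^ p ^ (k + j) = 1 := by rw [pow_add, pow_mul, hk, one_pow]
      rwa [hc.mul_pow, show s ^ p ^ (k + j) = 1 by
        rw [add_comm, pow_add, pow_mul, hsj, one_pow], mul_one] at h2
    have h3 : orderOf z ∣ Nat.card Z := by
      have := orderOf_dvd_natCard (⟨z, hz⟩ : Z)
      rwa [Subgroup.orderOf_mk] at this
    have h4 := orderOf_eq_one_iff.mp (Nat.eq_one_of_dvd_coprimes
      (Nat.Coprime.pow_left _ ((Fact.out : p.Prime).coprime_iff_not_dvd.mpr hZp))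
      (orderOf_dvd_of_pow_eq_one h1) h3)
    rw [h4, one_mul]
    exact hs
  refine le_antisymm (fun g hg => ?_) fun g hg => ?_
  · have key : ∀ g ∈ Subgroup.normalizer ((Z ⊔ (S : Subgroup G) : Subgroup G) : Set G),
        ∀ s ∈ (S : Subgroup G), g * s * g⁻¹ ∈ (S : Subgroup G) := by
      intro g hg s hs
      obtain ⟨j, hj⟩ := S.isPGroup' ⟨s, hs⟩
      refine hpel _ ((Subgroup.mem_normalizer_iff.mp hg s).mp (Subgroup.mem_sup_right hs)) j ?_
      rw [conj_pow, show s ^ p ^ j = 1 from congrArg Subtype.val hj, mul_one, mul_inv_cancel]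
    refine Subgroup.mem_normalizer_iff.mpr fun s => ⟨key g hg s, fun hs => ?_⟩
    have := key g⁻¹ (inv_mem hg) _ hs
    simpa [mul_assoc] using this
  · have key2 : ∀ h ∈ Subgroup.normalizer ((S : Subgroup G) : Set G), ∀ x ∈ Z ⊔ (S : Subgroup G),
        h * x * h⁻¹ ∈ Z ⊔ (S : Subgroup G) := by
      intro h hh x hx
      obtain ⟨a, ha, b, hb, rfl⟩ := Subgroup.mem_sup_of_normal_left.mp hx
      rw [show h * (a * b) * h⁻¹ = (h * a * h⁻¹) * (h * b * h⁻¹) by group]
      exact mul_mem (Subgroup.mem_sup_left (hZn.conj_mem _ ha h))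
        (Subgroup.mem_sup_right ((Subgroup.mem_normalizer_iff.mp hh b).mp hb))
    refine Subgroup.mem_normalizer_iff.mpr fun x => ⟨key2 g hg x, fun hx => ?_⟩
    have := key2 g⁻¹ (inv_mem hg) _ hx
    simpa [mul_assoc] using this

/-- The case of a normal subgroup between the central subgroup and its join with a Sylow group. -/
theorem central_step_pgroup {n : ℕ} (IH : MainBelow.{u} p n) (hG : Cfsg.IsPSolvable p G)
    {Z K : Subgroup G} [hZn : Z.Normal] [hKn : K.Normal] [Fintype Z] [Fintype K]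
    (hidx : K.index < n) (hZK : Z ≤ K) (hZc : Z ≤ Subgroup.center G) (hZp : ¬ p ∣ Nat.card Z)
    (S : Sylow p G) (hKS : K ≤ Z ⊔ (S : Subgroup G))
    (hZN : Z ≤ Subgroup.normalizer ((S : Subgroup G) : Set G))
    (l : Cfsg.IrrCharacter Z) (hl : ∀ g, conjFn hZn (l : Z → ℂ) g = (l : Z → ℂ)) :
    cnt p Z.subtype (l : Z → ℂ) = cnt p (Subgroup.inclusion hZN) (l : Z → ℂ) := by
  set P : Subgroup G := (S : Subgroup G) with hP
  set N : Subgroup G := Subgroup.normalizer (P : Set G) with hN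
  have hKN : K ≤ N := hKS.trans (sup_le hZN Subgroup.le_normalizer)
  have hnorm : Subgroup.normalizer ((K ⊔ P : Subgroup G) : Set G) = N := by
    rw [show K ⊔ P = Z ⊔ P from le_antisymm (sup_le hKS le_sup_right) (sup_le_sup_right hZK P)]
    exact normalizer_central_sup hZc hZp S
  refine side_compare S hZK hZK hKN (le_top.trans (Subgroup.normalizer_eq_top K).ge) hZN l hl
    (fun θ φ => φ = θ) ?_ ?_ ?_ ?_ ?_ ?_ ?_
  · exact fun θ _ => ⟨θ, rfl⟩
  · exact fun θ _ φ φ' h h' => h.trans h'.symm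
  · rintro θ φ rfl hθ
    exact ⟨fun s hs => (mem_fixer_iff _ s).mpr (hθ.1 s hs), hθ.2.1, hθ.2.2⟩
  · exact fun φ h1 h2 h3 => ⟨φ, ⟨fun s hs => (mem_fixer_iff _ s).mp (h1 s hs), h2, h3⟩, rfl⟩
  · exact fun θ θ' φ _ _ h h' => h.symm.trans h'
  · rintro θ φ _ rfl g _
    exact (mem_fixer_iff _ g).symm
  · rintro θ φ hθ rfl h1 h2
    exact cnt_inertia_step IH hG hidx S _ hθ.1 h1 _ (by rw [hnorm]) h2

/-- The count over a linear character of a central `p'`-subgroup. -/
theorem central_count {n : ℕ} (IH : MainBelow.{u} p n) (hG : Cfsg.IsPSolvable p G)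
    (Z : Subgroup G) [hZn : Z.Normal] [Fintype Z] (hidx : Z.index ≤ n)
    (hZc : Z ≤ Subgroup.center G) (hZp : ¬ p ∣ Nat.card Z) (S : Sylow p G)
    (hZN : Z ≤ Subgroup.normalizer ((S : Subgroup G) : Set G)) (l : Cfsg.IrrCharacter Z) :
    cnt p Z.subtype (l : Z → ℂ) = cnt p (Subgroup.inclusion hZN) (l : Z → ℂ) := by
  have hl : ∀ g, conjFn hZn (l : Z → ℂ) g = (l : Z → ℂ) := fun g => funext fun z =>
    congrArg (l : Z → ℂ) (Subtype.ext (by
      show g * (z : G) * g⁻¹ = z
      rw [Subgroup.mem_center_iff.mp (hZc z.2) g, mul_inv_cancel_right]))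
  by_cases hZtop : Z = ⊤
  · have hall : ∀ g : G, g ∈ Subgroup.normalizer ((S : Subgroup G) : Set G) := fun g =>
      hZN (hZtop ▸ Subgroup.mem_top g)
    exact cnt_congr p
      { toFun := fun g => (⟨g, hall g⟩ : Subgroup.normalizer ((S : Subgroup G) : Set G))
        invFun := fun g => (g : G)
        left_inv := fun g => rfl
        right_inv := fun g => rfl
        map_mul' := fun a b => rfl }
      (MulEquiv.refl Z) _ _ (fun z => rfl) _ _ fun z => rfl
  have hZK0 : Z ≤ Cfsg.pPrimeCore p G :=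
    Core.le_pPrimeCore (Nat.Coprime.symm ((Fact.out : p.Prime).coprime_iff_not_dvd.mpr hZp))
  rcases hZK0.lt_or_eq with hlt | heq
  · have := Fintype.ofFinite (Cfsg.pPrimeCore p G)
    refine central_step_pprime IH hG (lt_of_lt_of_le (index_lt_of_lt hlt) hidx) hlt.le ?_ hZc S hZN
      l hl
    exact (Fact.out : p.Prime).coprime_iff_not_dvd.mp (Core.coprime_card_pPrimeCore p G).symm
  · have : Nontrivial (G ⧸ Z) := QuotientGroup.nontrivial_iff.mpr hZtop
    have hp0 : Cfsg.pPrimeCore p (G ⧸ Z) = ⊥ := by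
      subst heq
      exact Core.pPrimeCore_quotient_pPrimeCore p G
    have hne : Cfsg.pCore p (G ⧸ Z) ≠ ⊥ := by
      rcases PLocal.exists_core_ne_bot (PLocal.isPSolvable_quotient hG Z) with h | h
      exacts [h, absurd hp0 h]
    let q : G →* G ⧸ Z := QuotientGroup.mk' Z
    let K : Subgroup G := (Cfsg.pCore p (G ⧸ Z)).comap q
    have hZK : Z < K := by
      refine lt_of_le_of_ne (fun z hz => ?_) fun e => hne ?_
      · show q z ∈ Cfsg.pCore p (G ⧸ Z)
        rw [show q z = 1 from (QuotientGroup.eq_one_iff z).mpr hz]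
        exact one_mem _
      · have h1 := Subgroup.map_comap_eq_self_of_surjective (QuotientGroup.mk'_surjective Z)
          (Cfsg.pCore p (G ⧸ Z))
        rw [← h1]
        show Subgroup.map q K = ⊥
        rw [← e, Subgroup.map_eq_bot_iff, QuotientGroup.ker_mk']
    have := Fintype.ofFinite K
    have hKS : K ≤ Z ⊔ (S : Subgroup G) := by
      have h1 := Core.pCore_le_sylow (S.mapSurjective (QuotientGroup.mk'_surjective Z))
      refine (Subgroup.comap_mono (f := q) h1).trans ?_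
      rw [Sylow.coe_mapSurjective, Subgroup.comap_map_eq, QuotientGroup.ker_mk']
      exact le_of_eq (sup_comm _ _)
    exact central_step_pgroup IH hG (lt_of_lt_of_le (index_lt_of_lt hZK) hidx) hZK.le hZc hZp S
      hKS hZN l hl

end CfsgLib.Char.RelMcKay
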