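import Cfsg.Agent.Lib.Char.RelMcKay.Basic
import Cfsg.Agent.Lib.CharAction.Descend

/-!
# Characters over a linear character of a central subgroup
-/

set_option autoImplicit false
set_option linter.all false
set_option maxHeartbeats 400000

namespace CfsgLib.Char.RelMcKay

open scoped ComplexConjugate Classical commutatorElement
open Module

universe u

variable {G : Type u} [Group G] [Fintype G] {Z : Subgroup G} [Fintype Z]

/-- A character is scalar on a central element. -/
theorem exists_scalar_central (χ : Cfsg.IrrCharacter G) {z : G} (hz : z ∈ Subgroup.center G) :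
    ∃ c : ℂ, ∀ g, (χ : G → ℂ) (g * z) = c * (χ : G → ℂ) g := by
  obtain ⟨n, ρ, hρ, hc⟩ := χ.2
  have := hρ
  obtain ⟨c, hcz⟩ := exists_eq_smul_of_commute ρ (ρ z) fun g => by
    rw [← map_mul, ← map_mul, Subgroup.mem_center_iff.mp hz g]
  refine ⟨c, fun g => ?_⟩
  rw [← hc]
  show LinearMap.trace ℂ _ (ρ (g * z)) = c * LinearMap.trace ℂ _ (ρ g)
  rw [map_mul, hcz, mul_smul_comm, ← Module.End.one_eq_id, mul_one, map_smul, smul_eq_mul]

variable (hZ : Z ≤ Subgroup.center G) (l : Z →* ℂˣ)

theorem conj_mul_linear (z : Z) : conj (l z : ℂ) * (l z : ℂ) = 1 := by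
  rw [mul_comm, Complex.mul_conj', CharDegree.norm_hom_units]
  norm_num

include hZ in
/-- Lying over a linear character of a central subgroup. -/
theorem isOver_central_iff (χ : Cfsg.IrrCharacter G) :
    IsOver Z.subtype (fun z => (l z : ℂ)) (χ : G → ℂ) ↔
      ∀ (z : Z) (g : G), (χ : G → ℂ) (g * z) = (l z : ℂ) * (χ : G → ℂ) g := by
  rw [isOver_subtype]
  constructor
  · intro h
    have hs : ∀ z : Z, ∃ c : ℂ, ∀ g, (χ : G → ℂ) (g * z) = c * (χ : G → ℂ) g :=
      fun z => exists_scalar_central χ (hZ z.2)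
    choose c hc using hs
    intro z g
    rw [hc]
    congr 1
    by_contra hne
    refine h ?_
    rw [Cfsg.classInner]
    set S := ∑ x : Z, (χ : G → ℂ) x * conj (l x : ℂ) with hS
    have h1 : c z * conj (l z : ℂ) * S = S := by
      conv_rhs => rw [hS, ← Equiv.sum_comp (Equiv.mulRight z)]
      rw [Finset.mul_sum]
      refine Finset.sum_congr rfl fun x _ => ?_
      show _ = (χ : G → ℂ) ((x : G) * z) * conj (l (x * z) : ℂ)
      rw [hc, map_mul, Units.val_mul, map_mul]
      ring
    have h2 : c z * conj (l z : ℂ) - 1 ≠ 0 := fun h0 => hne (by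
      linear_combination (l z : ℂ) * h0 - c z * conj_mul_linear l z)
    have h3 : (c z * conj (l z : ℂ) - 1) * S = 0 := by rw [sub_mul, h1, one_mul, sub_self]
    rw [(mul_eq_zero.mp h3).resolve_left h2, mul_zero]
  · intro h h0
    rw [Cfsg.classInner, Finset.sum_congr rfl (g := fun _ : Z => (χ : G → ℂ) 1) fun z _ => by
      have := h z 1
      rw [one_mul] at this
      rw [this, mul_comm (l z : ℂ), mul_assoc, mul_comm (l z : ℂ), conj_mul_linear, mul_one],
      Finset.sum_const, Finset.card_univ, nsmul_eq_mul, ← Nat.card_eq_fintype_card,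
      inv_mul_cancel_left₀ (Nat.cast_ne_zero.mpr Nat.card_pos.ne')] at h0
    exact IsIrr.apply_one_ne_zero χ.2 h0

include hZ in
/-- The number of characters over a central linear character, by commuting pairs. -/
theorem card_over_central :
    (Nat.card G : ℂ) * (Nat.card Z : ℂ) *
        (Nat.card {χ : Cfsg.IrrCharacter G //
          IsOver Z.subtype (fun z => (l z : ℂ)) (χ : G → ℂ)} : ℂ) =
      ∑ g : G, ∑ y : G, if h : ⁅y, g⁆ ∈ Z then conj (l ⟨_, h⟩ : ℂ) else 0 := by
  have := Fintype.ofFinite (Cfsg.IrrCharacter G)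
  have proj : ∀ (χ : Cfsg.IrrCharacter G) (g : G),
      ∑ z : Z, conj (l z : ℂ) * (χ : G → ℂ) (g * z) =
        if IsOver Z.subtype (fun z => (l z : ℂ)) (χ : G → ℂ)
          then (Nat.card Z : ℂ) * (χ : G → ℂ) g else 0 := by
    intro χ g
    split_ifs with h
    · rw [Finset.sum_congr rfl (g := fun _ : Z => (χ : G → ℂ) g) fun z _ => by
        rw [(isOver_central_iff hZ l χ).mp h z g, ← mul_assoc, conj_mul_linear, one_mul],
        Finset.sum_const, Finset.card_univ, nsmul_eq_mul, Nat.card_eq_fintype_card]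
    · have hs : ∀ z : Z, ∃ c : ℂ, ∀ g, (χ : G → ℂ) (g * z) = c * (χ : G → ℂ) g :=
        fun z => exists_scalar_central χ (hZ z.2)
      choose c hc using hs
      have h0 : ∑ z : Z, conj (l z : ℂ) * c z = 0 := by
        by_contra hne
        refine h ((isOver_subtype _ _).mpr ?_)
        rw [Cfsg.classInner]
        refine mul_ne_zero (inv_ne_zero (Nat.cast_ne_zero.mpr Nat.card_pos.ne')) ?_
        rw [Finset.sum_congr rfl (g := fun z : Z => (χ : G → ℂ) 1 * (conj (l z : ℂ) * c z))
          fun z _ => by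
            have e := hc z 1
            rw [one_mul] at e
            rw [e]; ring,
          ← Finset.mul_sum]
        exact mul_ne_zero (IsIrr.apply_one_ne_zero χ.2) hne
      rw [Finset.sum_congr rfl (g := fun z : Z => (χ : G → ℂ) g * (conj (l z : ℂ) * c z))
        fun z _ => by rw [hc]; ring, ← Finset.mul_sum, h0, mul_zero]
  have norm1 : ∀ χ : Cfsg.IrrCharacter G,
      ∑ g : G, (χ : G → ℂ) g * conj ((χ : G → ℂ) g) = (Nat.card G : ℂ) := fun χ => by
    have h := classInner_irr_self χ
    rwa [Cfsg.classInner, inv_mul_eq_iff_eq_mul₀ (Nat.cast_ne_zero.mpr Nat.card_pos.ne'),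
      mul_one] at h
  have lhs : ∑ g : G, ∑ z : Z, conj (l z : ℂ) *
      ∑ χ : Cfsg.IrrCharacter G, (χ : G → ℂ) (g * z) * conj ((χ : G → ℂ) g) =
      (Nat.card G : ℂ) * (Nat.card Z : ℂ) * (Nat.card {χ : Cfsg.IrrCharacter G //
          IsOver Z.subtype (fun z => (l z : ℂ)) (χ : G → ℂ)} : ℂ) := by
    rw [Nat.card_eq_fintype_card (α := {χ : Cfsg.IrrCharacter G // _}), Fintype.card_subtype]
    calc _ = ∑ χ : Cfsg.IrrCharacter G, ∑ g : G,
          (∑ z : Z, conj (l z : ℂ) * (χ : G → ℂ) (g * z)) * conj ((χ : G → ℂ) g) := by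
          refine Eq.trans (Finset.sum_congr rfl fun g _ => ?_) Finset.sum_comm
          simp only [Finset.mul_sum, Finset.sum_mul, mul_assoc]
          exact Finset.sum_comm
      _ = ∑ χ : Cfsg.IrrCharacter G, if IsOver Z.subtype (fun z => (l z : ℂ)) (χ : G → ℂ)
            then (Nat.card G : ℂ) * (Nat.card Z : ℂ) else 0 := by
          refine Finset.sum_congr rfl fun χ _ => ?_
          by_cases h : IsOver Z.subtype (fun z => (l z : ℂ)) (χ : G → ℂ)
          · rw [if_pos h, mul_comm (Nat.card G : ℂ), ← norm1 χ, Finset.mul_sum]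
            exact Finset.sum_congr rfl fun g _ => by rw [proj, if_pos h, mul_assoc]
          · rw [if_neg h]
            exact Finset.sum_eq_zero fun g _ => by rw [proj, if_neg h, zero_mul]
      _ = _ := by rw [Finset.sum_ite, Finset.sum_const_zero, add_zero, Finset.sum_const,
                    nsmul_eq_mul, mul_comm]
  rw [← lhs]
  refine Finset.sum_congr rfl fun g _ => ?_
  have hcol : ∀ z : Z, ∑ χ : Cfsg.IrrCharacter G, (χ : G → ℂ) (g * z) * conj ((χ : G → ℂ) g) =
      ∑ y : G, if ⁅y, g⁆ = z then (1 : ℂ) else 0 := by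
    intro z
    have hzc : g * (z : G) = z * g := Subgroup.mem_center_iff.mp (hZ z.2) g
    have hfilter : (Finset.univ.filter fun y : G => ⁅y, g⁆ = z) =
        Finset.univ.filter fun y : G => y * g * y⁻¹ = g * z := by
      refine Finset.filter_congr fun y _ => ?_
      rw [hzc, commutatorElement_def, mul_inv_eq_iff_eq_mul]
    rw [column_orthogonality, Finset.sum_boole, hfilter]
    by_cases hc : IsConj (g * (z : G)) g
    · rw [if_pos hc]
      obtain ⟨y₀, hy₀⟩ := isConj_iff.mp hc.symm
      rw [← Fintype.card_subtype, ← Nat.card_eq_fintype_card]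
      exact congrArg Nat.cast (Nat.card_congr
        { toFun := fun c => (⟨(c : G) * y₀, by
            have := Subgroup.mem_centralizer_singleton_iff.mp c.2
            calc (c : G) * y₀ * g * ((c : G) * y₀)⁻¹ = (c : G) * (y₀ * g * y₀⁻¹) * (c : G)⁻¹ := by
                  group
              _ = g * z := by rw [hy₀, this, mul_inv_cancel_right]⟩ :
            {y : G // y * g * y⁻¹ = g * z})
          invFun := fun y => ⟨(y : G) * y₀⁻¹, Subgroup.mem_centralizer_singleton_iff.mpr (by
            calc (y : G) * y₀⁻¹ * (g * z) = (y : G) * y₀⁻¹ * (y₀ * g * y₀⁻¹) := by rw [hy₀]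
              _ = ((y : G) * g * (y : G)⁻¹) * ((y : G) * y₀⁻¹) := by group
              _ = g * z * ((y : G) * y₀⁻¹) := by rw [y.2])⟩
          left_inv := fun c => Subtype.ext (by simp)
          right_inv := fun y => Subtype.ext (by simp) })
    · rw [if_neg hc, Finset.filter_false_of_mem fun y _ h =>
        hc (isConj_iff.mpr ⟨y, h⟩).symm, Finset.card_empty, Nat.cast_zero]
  rw [Finset.sum_congr rfl fun z _ => by rw [hcol z, Finset.mul_sum], Finset.sum_comm]
  refine Finset.sum_congr rfl fun y _ => ?_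
  by_cases h : ⁅y, g⁆ ∈ Z
  · rw [dif_pos h, Fintype.sum_eq_single (⟨_, h⟩ : Z) fun z hz => by
      rw [if_neg fun e => hz (Subtype.ext e.symm), mul_zero], if_pos rfl, mul_one]
  · rw [dif_neg h]
    exact Finset.sum_eq_zero fun z _ => by
      rw [if_neg fun e : ⁅y, g⁆ = (z : G) => h (e.symm ▸ z.2), mul_zero]

end CfsgLib.Char.RelMcKay
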