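import Cfsg.Agent.Lib.Char.RelMcKay.Orbit

/-!
# Comparing the sums over invariant constituents in the group and in a Sylow normalizer
-/

set_option autoImplicit false
set_option linter.all false
set_option maxHeartbeats 1000000

namespace CfsgLib.Char.RelMcKay

open CfsgLib.CharAction CfsgLib.Clifford CfsgLib.CharDegree
open scoped ComplexConjugate Classical

universe u

variable {p : ℕ} [Fact p.Prime] {G : Type u} [Group G] [Fintype G]

/-- Comparison along a correspondence of the constituents. -/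
theorem side_compare {K Z C : Subgroup G} [hKn : K.Normal] [hZn : Z.Normal] [Fintype K] [Fintype Z]
    [Fintype C] (S : Sylow p G) (hZK : Z ≤ K) (hZC : Z ≤ C)
    (hCN : C ≤ Subgroup.normalizer ((S : Subgroup G) : Set G))
    (hNC : Subgroup.normalizer ((S : Subgroup G) : Set G) ≤ Subgroup.normalizer (C : Set G))
    (hZN : Z ≤ Subgroup.normalizer ((S : Subgroup G) : Set G))
    (l : Cfsg.IrrCharacter Z) (hl : ∀ g, conjFn hZn (l : Z → ℂ) g = (l : Z → ℂ))
    (R : Cfsg.IrrCharacter K → Cfsg.IrrCharacter C → Prop)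
    (htot : ∀ θ, IsGoodBelow p hKn (S : Subgroup G) hZK l θ → ∃ φ, R θ φ)
    (huniq : ∀ θ, IsGoodBelow p hKn (S : Subgroup G) hZK l θ → ∀ φ φ', R θ φ → R θ φ' → φ = φ')
    (hgood : ∀ θ φ, R θ φ → IsGoodBelow p hKn (S : Subgroup G) hZK l θ →
      (∀ s ∈ (S : Subgroup G), s ∈ fixer (φ : C → ℂ)) ∧ ¬ p ∣ Cfsg.charDegree (φ : C → ℂ) ∧
        Cfsg.classInner (resTo hZC (φ : C → ℂ)) (l : Z → ℂ) ≠ 0)
    (hsurj : ∀ φ : Cfsg.IrrCharacter C, (∀ s ∈ (S : Subgroup G), s ∈ fixer (φ : C → ℂ)) →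
      ¬ p ∣ Cfsg.charDegree (φ : C → ℂ) → Cfsg.classInner (resTo hZC (φ : C → ℂ)) (l : Z → ℂ) ≠ 0 →
      ∃ θ, IsGoodBelow p hKn (S : Subgroup G) hZK l θ ∧ R θ φ)
    (hinj : ∀ θ θ' φ, IsGoodBelow p hKn (S : Subgroup G) hZK l θ →
      IsGoodBelow p hKn (S : Subgroup G) hZK l θ' → R θ φ → R θ' φ → θ = θ')
    (hfix : ∀ θ φ, IsGoodBelow p hKn (S : Subgroup G) hZK l θ → R θ φ →
      ∀ n ∈ Subgroup.normalizer ((S : Subgroup G) : Set G),
      (conjFn hKn (θ : K → ℂ) n = (θ : K → ℂ) ↔ n ∈ fixer (φ : C → ℂ)))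
    (hcnt : ∀ θ φ, IsGoodBelow p hKn (S : Subgroup G) hZK l θ → R θ φ →
      ∀ (h1 : K ≤ inertia hKn (θ : K → ℂ))
        (h2 : C ≤ Subgroup.normalizer ((S : Subgroup G) : Set G) ⊓ inertia hKn (θ : K → ℂ)),
      cnt p (Subgroup.inclusion h1) (θ : K → ℂ) = cnt p (Subgroup.inclusion h2) (φ : C → ℂ)) :
    cnt p Z.subtype (l : Z → ℂ) = cnt p (Subgroup.inclusion hZN) (l : Z → ℂ) := by
  set N : Subgroup G := Subgroup.normalizer ((S : Subgroup G) : Set G) with hNdef
  have := Fintype.ofFinite (Cfsg.IrrCharacter K)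
  have := Fintype.ofFinite N
  have hSN : (S : Subgroup G) ≤ N := Subgroup.le_normalizer
  let SN : Sylow p N := S.subtype hSN
  let CN : Subgroup N := C.subgroupOf N
  let ZN : Subgroup N := Z.subgroupOf N
  have hCNn : CN.Normal := (Subgroup.normal_subgroupOf_iff_le_normalizer hCN).mpr hNC
  have hZNn : ZN.Normal := inferInstanceAs (Z.subgroupOf N).Normal
  have := Fintype.ofFinite CN
  have := Fintype.ofFinite ZN
  have := Fintype.ofFinite (Cfsg.IrrCharacter CN)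
  let eC : CN ≃* C := Subgroup.subgroupOfEquivOfLe hCN
  let eZ : ZN ≃* Z := Subgroup.subgroupOfEquivOfLe hZN
  let lN : Cfsg.IrrCharacter ZN := ⟨_, IsIrr.comp_surjective eZ.toMonoidHom eZ.surjective l.2⟩
  have hlN : ∀ g, conjFn hZNn (lN : ZN → ℂ) g = (lN : ZN → ℂ) := fun g => funext fun z =>
    congrFun (hl (g : G)) (eZ z)
  have hZCN : ZN ≤ CN := fun z hz => hZC hz
  have hG := side_sum hZK l hl S
  have hN := side_sum (G := N) hZCN lN hlN SN
  have hSNn : ((SN : Subgroup N)).Normal := Subgroup.normal_in_normalizer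
  have htop : Subgroup.normalizer ((SN : Subgroup N) : Set N) = ⊤ :=
    Subgroup.normalizer_eq_top _
  have e0 : cnt p ZN.subtype (lN : ZN → ℂ) = cnt p (Subgroup.inclusion hZN) (l : Z → ℂ) :=
    cnt_congr p (MulEquiv.refl N) eZ ZN.subtype (Subgroup.inclusion hZN) (fun n => rfl) _ _
      fun n => rfl
  have hcardN : Nat.card (Subgroup.normalizer ((SN : Subgroup N) : Set N)) = Nat.card N := by
    rw [htop, Subgroup.card_top]
  rw [e0, hcardN] at hN
  -- the correspondence of index sets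
  have hfixN : ∀ (φ : Cfsg.IrrCharacter C) (n : N),
      conjFn hCNn (fun c : CN => (φ : C → ℂ) (eC c)) n = (fun c : CN => (φ : C → ℂ) (eC c)) ↔
        (n : G) ∈ fixer (φ : C → ℂ) := by
    intro φ n
    constructor
    · intro h
      refine ⟨hNC n.2, fun k k' e => ?_⟩
      have h2 := congrFun h (eC.symm k)
      change (φ : C → ℂ) (eC _) = (φ : C → ℂ) (eC (eC.symm k)) at h2
      rw [eC.apply_symm_apply] at h2
      rw [← h2]
      refine congrArg (φ : C → ℂ) (Subtype.ext ?_)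
      exact e
    · exact fun h => funext fun c => h.2 (eC c) _ rfl
  have hmap : ∀ θ : {θ // IsGoodBelow p hKn (S : Subgroup G) hZK l θ},
      ∃ ψ : {ψ // IsGoodBelow p hCNn (SN : Subgroup N) hZCN lN ψ},
        ∃ φ, R θ.1 φ ∧ (ψ.1 : CN → ℂ) = fun c => (φ : C → ℂ) (eC c) := by
    intro θ
    obtain ⟨φ, hφ⟩ := htot θ.1 θ.2
    obtain ⟨h1, h2, h3⟩ := hgood θ.1 φ hφ θ.2
    let ψ : Cfsg.IrrCharacter CN := ⟨_, IsIrr.comp_surjective eC.toMonoidHom eC.surjective φ.2⟩
    refine ⟨⟨ψ, fun s hs => (hfixN φ s).mpr (h1 s hs), ?_, ?_⟩, φ, hφ, rfl⟩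
    · show ¬ p ∣ Cfsg.charDegree (fun c : CN => (φ : C → ℂ) (eC c))
      unfold Cfsg.charDegree
      simp only [map_one]
      exact h2
    · show Cfsg.classInner (fun z : ZN => resTo hZC (φ : C → ℂ) (eZ z))
        (fun z : ZN => (l : Z → ℂ) (eZ z)) ≠ 0
      rw [classInner_comp_equiv eZ (resTo hZC (φ : C → ℂ))]
      exact h3
  choose F Fφ hFR hFeq using hmap
  have hFbij : Function.Bijective F := by
    refine ⟨fun θ θ' h => ?_, fun ψ => ?_⟩
    · have e : Fφ θ = Fφ θ' := by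
        refine Subtype.ext (funext fun c => ?_)
        have := congrFun ((hFeq θ).symm.trans ((congrArg (fun q => (q.1 : CN → ℂ)) h).trans (hFeq θ')))
          (eC.symm c)
        simpa using this
      exact Subtype.ext (hinj _ _ _ θ.2 θ'.2 (hFR θ) (e ▸ hFR θ'))
    · obtain ⟨ψ, hψS, hψd, hψl⟩ := ψ
      let φ : Cfsg.IrrCharacter C := ⟨_, IsIrr.comp_surjective eC.symm.toMonoidHom eC.symm.surjective ψ.2⟩
      have hψφ : (ψ : CN → ℂ) = fun c => (φ : C → ℂ) (eC c) := funext fun c => by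
        show _ = (ψ : CN → ℂ) (eC.symm (eC c))
        rw [MulEquiv.symm_apply_apply]
      obtain ⟨θ, hθ, hR⟩ := hsurj φ (fun s hs => (hfixN φ ⟨s, hSN hs⟩).mp (by
          rw [← hψφ]; exact hψS _ hs))
        (by
          show ¬ p ∣ Cfsg.charDegree (fun c : C => (ψ : CN → ℂ) (eC.symm c))
          unfold Cfsg.charDegree
          simp only [map_one]
          exact hψd)
        (by
          rw [← classInner_comp_equiv eZ (resTo hZC (φ : C → ℂ))]
          show Cfsg.classInner (fun z : ZN => (φ : C → ℂ) (Subgroup.inclusion hZC (eZ z)))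
            (lN : ZN → ℂ) ≠ 0
          rw [show (fun z : ZN => (φ : C → ℂ) (Subgroup.inclusion hZC (eZ z))) =
            resTo hZCN (ψ : CN → ℂ) from funext fun z => by
              show (ψ : CN → ℂ) (eC.symm _) = (ψ : CN → ℂ) _
              congr 1]
          exact hψl)
      refine ⟨⟨θ, hθ⟩, Subtype.ext (Subtype.ext ?_)⟩
      rw [hFeq, hψφ]
      -- uniqueness of the correspondent
      have h1 : Fφ ⟨θ, hθ⟩ = φ := huniq θ hθ _ _ (hFR ⟨θ, hθ⟩) hR
      rw [h1]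
  refine Nat.eq_of_mul_eq_mul_left (Nat.card_pos (α := N)) (hG.trans ((Fintype.sum_bijective F hFbij
    _ _ fun θ => ?_).trans hN.symm))
  obtain ⟨h1, h2, h3⟩ := hgood θ.1 (Fφ θ) (hFR θ) θ.2
  set T := inertia hKn (θ.1 : K → ℂ) with hT
  set TN := inertia hCNn ((F θ).1 : CN → ℂ) with hTN
  have hiff : ∀ n : N, n ∈ TN ↔ (n : G) ∈ T := fun n => by
    rw [hTN, hT, mem_inertia, mem_inertia, hFeq θ, hfixN]
    exact (hfix θ.1 (Fφ θ) θ.2 (hFR θ) n n.2).symm
  have hCT : C ≤ N ⊓ T := fun c hc => ⟨hCN hc, (hfix θ.1 (Fφ θ) θ.2 (hFR θ) c (hCN hc)).mpr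
    (mem_fixer_of_mem (IsIrr.isClassFunction (Fφ θ).2) hc)⟩
  let eT : TN ≃* (N ⊓ T : Subgroup G) :=
    { toFun := fun n => ⟨((n : N) : G), (n : N).2, (hiff _).mp n.2⟩
      invFun := fun g => ⟨⟨g, g.2.1⟩, (hiff _).mpr g.2.2⟩
      left_inv := fun n => rfl
      right_inv := fun g => rfl
      map_mul' := fun a b => rfl }
  congr 1
  · rw [htop]
    exact Nat.card_congr
      { toFun := fun g => ⟨⟨g, g.2.1⟩, Subgroup.mem_top _, (hiff ⟨g, g.2.1⟩).mpr g.2.2⟩
        invFun := fun n => ⟨((n : N) : G), (n : N).2, (hiff _).mp n.2.2⟩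
        left_inv := fun g => rfl
        right_inv := fun n => rfl }
  · rw [hcnt θ.1 (Fφ θ) θ.2 (hFR θ) _ hCT]
    refine (cnt_congr p eT eC (Subgroup.inclusion (le_inertia hCNn (IsIrr.isClassFunction (F θ).1.2)))
      (Subgroup.inclusion hCT) (fun c => rfl) ((F θ).1 : CN → ℂ) (Fφ θ : C → ℂ) fun c => ?_).symm
    exact (congrFun (hFeq θ) c).symm

end CfsgLib.Char.RelMcKay
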