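import Cfsg.Agent.Lib.Char.RelMcKay.Omega
import Cfsg.Agent.Lib.CharAction.PGroup
import Cfsg.Agent.Lib.Char.CliffordCorr

/-!
# Glauberman correspondents for subgroups of an ambient group
-/

set_option autoImplicit false
set_option linter.all false
set_option maxHeartbeats 400000

namespace CfsgLib.Char.RelMcKay

open CfsgLib.CharAction CfsgLib.Clifford
open scoped ComplexConjugate Classical

universe u

variable {G : Type u} [Group G] [Finite G]

/-- The elements of the normalizer of `K` fixing a function on `K`. -/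
def fixer {K : Subgroup G} (θ : K → ℂ) : Subgroup G where
  carrier := {g | g ∈ Subgroup.normalizer (K : Set G) ∧
    ∀ k k' : K, (k' : G) = g * k * g⁻¹ → θ k' = θ k}
  one_mem' := ⟨one_mem _, fun k k' h => congrArg θ (Subtype.ext (by simpa using h))⟩
  mul_mem' := by
    rintro a b ⟨ha, ha'⟩ ⟨hb, hb'⟩
    refine ⟨mul_mem ha hb, fun k k'' h => ?_⟩
    let k' : K := ⟨_, (Subgroup.mem_normalizer_iff.mp hb k).mp k.2⟩
    rw [ha' k' k'' (by rw [h]; simp [k', mul_assoc]), hb' k k' rfl]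
  inv_mem' := by
    rintro a ⟨ha, ha'⟩
    refine ⟨inv_mem ha, fun k k' h => (ha' k' k ?_).symm⟩
    rw [h]; simp [mul_assoc]

theorem mem_fixer {K : Subgroup G} {θ : K → ℂ} {g : G} :
    g ∈ fixer θ ↔ g ∈ Subgroup.normalizer (K : Set G) ∧
      ∀ k k' : K, (k' : G) = g * k * g⁻¹ → θ k' = θ k := Iff.rfl

theorem fixer_le_normalizer {K : Subgroup G} (θ : K → ℂ) :
    fixer θ ≤ Subgroup.normalizer (K : Set G) := fun _ h => h.1

theorem mem_fixer_of_mem {K : Subgroup G} {θ : K → ℂ} (hθ : Cfsg.IsClassFunction K θ) {g : G}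
    (hg : g ∈ K) : g ∈ fixer θ :=
  ⟨Subgroup.le_normalizer hg, fun k k' h => by
    rw [show k' = ⟨g, hg⟩ * k * (⟨g, hg⟩ : K)⁻¹ from Subtype.ext h]
    exact hθ k _⟩

/-- An element centralizing `C` fixes every function on it. -/
theorem mem_fixer_of_centralizing {C : Subgroup G} (θ : C → ℂ) {g : G}
    (hg : g ∈ Subgroup.centralizer (C : Set G)) : g ∈ fixer θ := by
  have key : ∀ c ∈ C, g * c * g⁻¹ = c := fun c hc => by
    rw [← Subgroup.mem_centralizer_iff.mp hg c hc, mul_inv_cancel_right]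
  refine ⟨Subgroup.centralizer_le_normalizer _ hg, fun k k' h => congrArg θ (Subtype.ext ?_)⟩
  rw [h, key k k.2]

/-- Conjugation by an element of the normalizer. -/
def cAut (K : Subgroup G) {g : G} (hg : g ∈ Subgroup.normalizer (K : Set G)) : K ≃* K where
  toFun k := ⟨g * k * g⁻¹, (Subgroup.mem_normalizer_iff.mp hg k).mp k.2⟩
  invFun k := ⟨g⁻¹ * k * g, by
    have := (Subgroup.mem_normalizer_iff.mp (inv_mem hg) k).mp k.2
    simpa using this⟩
  left_inv k := Subtype.ext (by simp [mul_assoc])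
  right_inv k := Subtype.ext (by simp [mul_assoc])
  map_mul' a b := Subtype.ext (by simp [mul_assoc])

/-- Glauberman correspondence as a relation: multiplicity prime to `p`. -/
def GCorr (p : ℕ) {C K : Subgroup G} [Fintype C] (h : C ≤ K) (θ : Cfsg.IrrCharacter K)
    (φ : Cfsg.IrrCharacter C) : Prop :=
  ¬ p ∣ mult (Subgroup.inclusion h) θ φ

theorem GCorr.isOver {p : ℕ} {C K : Subgroup G} [Fintype C] {h : C ≤ K}
    {θ : Cfsg.IrrCharacter K} {φ : Cfsg.IrrCharacter C} (hc : GCorr p h θ φ) :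
    Cfsg.classInner (resTo h (θ : K → ℂ)) (φ : C → ℂ) ≠ 0 := by
  show Cfsg.classInner (fun c => (θ : K → ℂ) (Subgroup.inclusion h c)) _ ≠ 0
  rw [classInner_eq_mult, Nat.cast_ne_zero]
  exact fun h0 => hc (h0 ▸ dvd_zero p)

variable {p : ℕ} [Fact p.Prime]

section Corr

variable {A K C : Subgroup G} [Fintype C] (hA : IsPGroup p A)
  (hAK : A ≤ Subgroup.normalizer (K : Set G)) (hKp : ¬ p ∣ Nat.card K)
  (hC : C = K ⊓ Subgroup.centralizer (A : Set G)) (hCK : C ≤ K)

/-- The conjugation action. -/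
@[instance_reducible]
def conjAction : MulDistribMulAction A K where
  smul a k := cAut K (hAK a.2) k
  one_smul k := Subtype.ext (show (1 : G) * k * 1⁻¹ = (k : G) by simp)
  mul_smul a b k := Subtype.ext (show ((a : G) * b) * k * ((a : G) * b)⁻¹ =
    (a : G) * ((b : G) * k * (b : G)⁻¹) * (a : G)⁻¹ by simp [mul_assoc])
  smul_mul a x y := map_mul (cAut K (hAK a.2)) x y
  smul_one a := map_one (cAut K (hAK a.2))

include hA hAK hKp hC in
/-- The correspondent exists, and all other multiplicities are divisible by `p`. -/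
theorem gcorr_exists (θ : Cfsg.IrrCharacter K) (hθ : A ≤ fixer (θ : K → ℂ)) :
    ∃ φ : Cfsg.IrrCharacter C, GCorr p hCK θ φ ∧
      ∀ γ, γ ≠ φ → p ∣ mult (Subgroup.inclusion hCK) θ γ := by
  letI := conjAction hAK
  have := Fintype.ofFinite K
  have hfix : ∀ g : K, g ∈ (Subgroup.inclusion hCK).range ↔ ∀ a : A, a • g = g := fun g => by
    constructor
    · rintro ⟨c, rfl⟩ a
      refine Subtype.ext ?_
      have h1 := Subgroup.mem_centralizer_iff.mp (Subgroup.mem_inf.mp (hC.le c.2)).2 a a.2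
      show (a : G) * c * (a : G)⁻¹ = c
      rw [h1, mul_inv_cancel_right]
    · intro h
      refine ⟨⟨g, hC.ge ⟨g.2, Subgroup.mem_centralizer_iff.mpr fun a ha => ?_⟩⟩, Subtype.ext rfl⟩
      have := congrArg Subtype.val (h ⟨a, ha⟩)
      exact mul_inv_eq_iff_eq_mul.mp this
  obtain ⟨β, hβ, hβ'⟩ := exists_correspondent hA (Subgroup.inclusion hCK)
    (Subgroup.inclusion_injective hCK) hfix hKp (χ := θ) fun a g => (hθ a.2).2 g _ rfl
  refine ⟨β, fun hd => ?_, hβ⟩
  have hd' : (mult (Subgroup.inclusion hCK) θ β : ℤ) ≡ 0 [ZMOD p] :=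
    Int.modEq_zero_iff_dvd.mpr (Int.natCast_dvd_natCast.mpr hd)
  have hp1 : ¬ (p : ℤ) ∣ 1 := fun h => (Fact.out : p.Prime).one_lt.ne'
    (Nat.dvd_one.mp (by exact_mod_cast h))
  rcases hβ' with h1 | h1
  · exact hp1 (Int.modEq_zero_iff_dvd.mp (h1.symm.trans hd'))
  · exact hp1 (dvd_neg.mp (Int.modEq_zero_iff_dvd.mp (h1.symm.trans hd')))

include hA hAK hKp hC in
theorem gcorr_unique (θ : Cfsg.IrrCharacter K) (hθ : A ≤ fixer (θ : K → ℂ))
    {φ φ' : Cfsg.IrrCharacter C} (h : GCorr p hCK θ φ) (h' : GCorr p hCK θ φ') : φ = φ' := by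
  obtain ⟨β, -, hβ⟩ := gcorr_exists hA hAK hKp hC hCK θ hθ
  rw [by_contra fun hne => h (hβ φ hne), by_contra fun hne => h' (hβ φ' hne)]

include hA hAK hKp hC in
/-- Correspondents are fixed by the elements fixing the character and normalizing `C`. -/
theorem gcorr_fixer (θ : Cfsg.IrrCharacter K) (hθ : A ≤ fixer (θ : K → ℂ))
    {φ : Cfsg.IrrCharacter C} (h : GCorr p hCK θ φ) {g : G} (hg : g ∈ fixer (θ : K → ℂ))
    (hgC : g ∈ Subgroup.normalizer (C : Set G)) : g ∈ fixer (φ : C → ℂ) := by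
  let φ' : Cfsg.IrrCharacter C :=
    ⟨_, IsIrr.comp_surjective (cAut C hgC).toMonoidHom (cAut C hgC).surjective φ.2⟩
  have h' : GCorr p hCK θ φ' := by
    have e : (mult (Subgroup.inclusion hCK) θ φ' : ℂ) = mult (Subgroup.inclusion hCK) θ φ := by
      rw [← classInner_eq_mult, ← classInner_eq_mult]
      conv_rhs => rw [← classInner_comp_equiv (cAut C hgC) (fun c => (θ : K → ℂ) (Subgroup.inclusion hCK c))]
      congr 1
      exact funext fun c => (hg.2 (Subgroup.inclusion hCK c) (Subgroup.inclusion hCK (cAut C hgC c)) rfl).symm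
    unfold GCorr
    rwa [Nat.cast_injective e]
  refine ⟨hgC, fun k k' e => ?_⟩
  have e2 := congrArg (fun q : Cfsg.IrrCharacter C => (q : C → ℂ) k)
    (gcorr_unique hA hAK hKp hC hCK θ hθ h' h)
  rw [show k' = cAut C hgC k from Subtype.ext e]
  exact e2

end Corr

/-- Transitivity of the multiplicities modulo `p`. -/
theorem mult_trans {K C₁ C : Subgroup G} [Fintype C₁] [Fintype C] (h₁ : C₁ ≤ K) (h₂ : C ≤ C₁)
    (θ : Cfsg.IrrCharacter K) {θ₁ : Cfsg.IrrCharacter C₁}
    (hother : ∀ γ, γ ≠ θ₁ → p ∣ mult (Subgroup.inclusion h₁) θ γ) (φ : Cfsg.IrrCharacter C) :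
    (p : ℤ) ∣ (mult (Subgroup.inclusion (h₂.trans h₁)) θ φ : ℤ) -
      (mult (Subgroup.inclusion h₁) θ θ₁ : ℤ) * (mult (Subgroup.inclusion h₂) θ₁ φ : ℤ) := by
  have := Fintype.ofFinite (Cfsg.IrrCharacter C₁)
  have e : mult (Subgroup.inclusion (h₂.trans h₁)) θ φ = ∑ γ : Cfsg.IrrCharacter C₁,
      mult (Subgroup.inclusion h₁) θ γ * mult (Subgroup.inclusion h₂) γ φ := by
    apply Nat.cast_injective (R := ℂ)
    rw [← classInner_eq_mult, Nat.cast_sum,
      show (fun c => (θ : K → ℂ) (Subgroup.inclusion (h₂.trans h₁) c)) =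
        ∑ γ : Cfsg.IrrCharacter C₁, (mult (Subgroup.inclusion h₁) θ γ : ℂ) •
          (fun c => (γ : C₁ → ℂ) (Subgroup.inclusion h₂ c)) from funext fun c => by
        rw [Finset.sum_apply]
        exact apply_eq_sum_mult (Subgroup.inclusion h₁) θ (Subgroup.inclusion h₂ c),
      classInner_sum_left]
    exact Finset.sum_congr rfl fun γ _ => by rw [classInner_smul_left, classInner_eq_mult, Nat.cast_mul]
  rw [e, Nat.cast_sum, ← Finset.add_sum_erase _ _ (Finset.mem_univ θ₁), Nat.cast_mul,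
    add_sub_cancel_left]
  exact Finset.dvd_sum fun γ hγ => Int.natCast_dvd_natCast.mpr
    ((hother γ (Finset.ne_of_mem_erase hγ)).mul_right _)

end CfsgLib.Char.RelMcKay
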