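import Cfsg.Agent.Lib.Char.RelMcKay.GlaubermanStep
import Cfsg.Agent.Lib.Core.Coprime
import Mathlib.RingTheory.IntegralDomain

/-!
# Correspondents have the same commutator scalars
-/

set_option autoImplicit false
set_option linter.all false
set_option maxHeartbeats 800000

namespace CfsgLib.Char.RelMcKay

open CfsgLib.CharAction CfsgLib.Clifford
open scoped ComplexConjugate Classical commutatorElement

universe u v w

/-- An abelian group acting irreducibly acts as a cyclic group. -/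
theorem isCyclic_range_of_irreducible {H : Type u} {W : Type v} [Group H] [Finite H] [CommGroup W]
    [Finite W] [Nontrivial W] (Φ : H →* MulAut W)
    (hcomm : ∀ a b, Φ a * Φ b = Φ b * Φ a)
    (hirr : ∀ U : Subgroup W, (∀ h, ∀ v ∈ U, Φ h v ∈ U) → U = ⊥ ∨ U = ⊤) :
    IsCyclic Φ.range := by
  let e : MulAut W →* AddMonoid.End (Additive W) :=
    { toFun := fun a => MonoidHom.toAdditive a.toMonoidHom
      map_one' := AddMonoidHom.ext fun v => rfl
      map_mul' := fun a b => AddMonoidHom.ext fun v => rfl }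
  let S : Set (AddMonoid.End (Additive W)) := Set.range fun h => e (Φ h)
  have hS : ∀ a ∈ S, ∀ b ∈ S, a * b = b * a := by
    rintro _ ⟨a, rfl⟩ _ ⟨b, rfl⟩
    show e (Φ a) * e (Φ b) = e (Φ b) * e (Φ a)
    rw [← map_mul e, ← map_mul e, hcomm]
  have : IsMulCommutative (Subring.closure S) := Subring.isMulCommutative_closure hS
  letI : CommRing (Subring.closure S) :=
    { (Subring.closure S).toRing with mul_comm := fun a b => mul_comm' a b }
  have hne : Nontrivial (Subring.closure S) := ⟨0, 1, fun h => by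
    obtain ⟨v, hv⟩ := exists_ne (1 : W)
    have h' := congrArg (fun f : Subring.closure S => Additive.toMul ((f : AddMonoid.End _) (Additive.ofMul v))) h
    exact hv h'.symm⟩
  have : NoZeroDivisors (Subring.closure S) := by
    constructor
    intro r s hrs
    by_contra hcon
    push Not at hcon
    obtain ⟨hr, hs⟩ := hcon
    let U : Subgroup W :=
      { carrier := {v | (r : AddMonoid.End (Additive W)) (Additive.ofMul v) = 0}
        one_mem' := map_zero (r : AddMonoid.End (Additive W))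
        mul_mem' := fun {a b} (ha : (r : AddMonoid.End (Additive W)) (Additive.ofMul a) = 0)
            (hb : (r : AddMonoid.End (Additive W)) (Additive.ofMul b) = 0) => by
          show (r : AddMonoid.End (Additive W)) (Additive.ofMul a + Additive.ofMul b) = 0
          rw [map_add, ha, hb, add_zero]
        inv_mem' := fun {a} (ha : (r : AddMonoid.End (Additive W)) (Additive.ofMul a) = 0) => by
          show (r : AddMonoid.End (Additive W)) (-Additive.ofMul a) = 0
          rw [map_neg, ha, neg_zero] }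
    have hinv : ∀ h, ∀ v ∈ U, Φ h v ∈ U := by
      intro h v (hv : (r : AddMonoid.End (Additive W)) (Additive.ofMul v) = 0)
      have hm : e (Φ h) ∈ Subring.closure S := Subring.subset_closure ⟨h, rfl⟩
      have hc := congrArg Subtype.val (mul_comm r (⟨_, hm⟩ : Subring.closure S))
      have hc' := congrArg (fun f : AddMonoid.End (Additive W) => f (Additive.ofMul v)) hc
      show (r : AddMonoid.End (Additive W)) (e (Φ h) (Additive.ofMul v)) = 0
      exact hc'.trans (by show e (Φ h) ((r : AddMonoid.End (Additive W)) (Additive.ofMul v)) = 0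
                          rw [hv, map_zero])
    rcases hirr U hinv with hU | hU
    · refine hs (Subtype.ext (AddMonoidHom.ext fun v => ?_))
      have hmem : Additive.toMul ((s : AddMonoid.End (Additive W)) v) ∈ U :=
        congrArg (fun f : Subring.closure S => (f : AddMonoid.End (Additive W)) v) hrs
      rw [hU, Subgroup.mem_bot] at hmem
      exact hmem
    · refine hr (Subtype.ext (AddMonoidHom.ext fun v => ?_))
      exact (show Additive.toMul v ∈ U by rw [hU]; trivial)
  have : IsDomain (Subring.closure S) := NoZeroDivisors.to_isDomain _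
  let f : Φ.range →* Subring.closure S :=
    { toFun := fun a => ⟨e a, Subring.subset_closure (by
        obtain ⟨h, hh⟩ := a.2
        exact ⟨h, congrArg e hh⟩)⟩
      map_one' := Subtype.ext (map_one e)
      map_mul' := fun a b => Subtype.ext (map_mul e (a : MulAut W) b) }
  refine isCyclic_of_injective_ringHom f fun a b h => Subtype.ext (MulEquiv.ext fun v => ?_)
  exact congrArg (fun g : Subring.closure S => Additive.toMul ((g : AddMonoid.End _) (Additive.ofMul v))) h

variable {G : Type u} [Group G] [Finite G]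

/-- Commutators of a subgroup generated by two elements. -/
theorem comm_mem_of_closure_pair {C : Subgroup G} {x y : G}
    (hx : x ∈ Subgroup.normalizer (C : Set G)) (hy : y ∈ Subgroup.normalizer (C : Set G))
    (hxy : ⁅x, y⁆ ∈ C) :
    ∀ a ∈ Subgroup.closure ({x, y} : Set G), ∀ b ∈ Subgroup.closure ({x, y} : Set G), ⁅a, b⁆ ∈ C := by
  let L := Subgroup.normalizer (C : Set G)
  have hn : (C.subgroupOf L).Normal := Subgroup.normal_in_normalizer
  let q : L →* L ⧸ C.subgroupOf L := QuotientGroup.mk' _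
  have hle : Subgroup.closure ({x, y} : Set G) ≤ L := by
    rw [Subgroup.closure_le]
    rintro a (rfl | rfl)
    exacts [hx, hy]
  have hq : q ⟨x, hx⟩ * q ⟨y, hy⟩ = q ⟨y, hy⟩ * q ⟨x, hx⟩ := by
    rw [← commutatorElement_eq_one_iff_mul_comm, ← map_commutatorElement]
    exact (QuotientGroup.eq_one_iff _).mpr hxy
  let D : Subgroup (L ⧸ C.subgroupOf L) := Subgroup.closure {q ⟨x, hx⟩, q ⟨y, hy⟩}
  have hD : ∀ a (ha : a ∈ Subgroup.closure ({x, y} : Set G)), q ⟨a, hle ha⟩ ∈ D := by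
    intro a ha
    induction ha using Subgroup.closure_induction with
    | mem b hb =>
      rcases hb with rfl | rfl
      · exact Subgroup.subset_closure (Or.inl rfl)
      · exact Subgroup.subset_closure (Or.inr rfl)
    | one => exact (show q (1 : L) ∈ D by rw [map_one]; exact one_mem D)
    | mul a b ha hb iha ihb =>
      exact (show q (⟨a, hle ha⟩ * ⟨b, hle hb⟩) ∈ D by rw [map_mul]; exact mul_mem iha ihb)
    | inv a ha iha =>
      exact (show q (⟨a, hle ha⟩ : L)⁻¹ ∈ D by rw [map_inv]; exact inv_mem iha)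
  have hcomm : ∀ a ∈ D, ∀ b ∈ D, a * b = b * a := by
    have : IsMulCommutative D := Subgroup.isMulCommutative_closure (by
      rintro a (rfl | rfl) b (rfl | rfl) <;> first | rfl | exact hq | exact hq.symm)
    intro a ha b hb
    exact congrArg Subtype.val (mul_comm' (⟨a, ha⟩ : D) ⟨b, hb⟩)
  intro a ha b hb
  have h := (QuotientGroup.eq_one_iff (⁅(⟨a, hle ha⟩ : L), (⟨b, hle hb⟩ : L)⁆)).mp (by
    show q _ = 1
    rw [map_commutatorElement, commutatorElement_eq_one_iff_mul_comm]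
    exact hcomm _ (hD a ha) _ (hD b hb))
  exact h

/-- Conjugation of intertwiners by an isomorphism of representations. -/
theorem IsOmega.of_equiv {N : Subgroup G} {V : Type v} {V' : Type w} [AddCommGroup V] [Module ℂ V]
    [AddCommGroup V'] [Module ℂ V'] {σ : Representation ℂ N V} {σ' : Representation ℂ N V'}
    (e : σ.Equiv σ') {x y : G} {c : ℂˣ} (h : IsOmega σ x y c) : IsOmega σ' x y c := by
  let Φ : Module.End ℂ V →* Module.End ℂ V' :=
    (LinearEquiv.conjAlgEquiv ℂ e.toLinearEquiv).toAlgHom.toRingHom.toMonoidHom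
  have hΦ : ∀ n : N, Φ (σ n) = σ' n := fun n => LinearMap.ext fun v => by
    show e.toLinearEquiv (σ n (e.toLinearEquiv.symm v)) = σ' n v
    have := e.toIntertwiningMap.isIntertwining _ _ n (e.toLinearEquiv.symm v)
    refine this.trans ?_
    exact congrArg (σ' n) (e.toLinearEquiv.apply_symm_apply v)
  obtain ⟨A, B, hA, hB, hk, hh⟩ := h
  have key : ∀ (g : G) (D : (Module.End ℂ V)ˣ), (g, D) ∈ intwGroup σ →
      (g, Units.map Φ D) ∈ intwGroup σ' := fun g D hD => ⟨hD.1, fun n n' hn => by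
    show Φ (D : Module.End ℂ V) * σ' n = σ' n' * Φ (D : Module.End ℂ V)
    rw [← hΦ, ← hΦ, ← map_mul, ← map_mul, hD.2 n n' hn]⟩
  refine ⟨Units.map Φ A, Units.map Φ B, key x A hA, key y B hB, hk, ?_⟩
  have h2 := congrArg (Units.map Φ) hh
  simp only [map_mul, map_inv] at h2
  rw [h2]
  congr 1
  · refine Units.ext ?_
    show Φ ((CharExt.scalarUnit (V := V) c : (Module.End ℂ V)ˣ) : Module.End ℂ V) =
      ((CharExt.scalarUnit (V := V') c : (Module.End ℂ V')ˣ) : Module.End ℂ V')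
    exact (LinearEquiv.conjAlgEquiv ℂ e.toLinearEquiv).commutes (c : ℂ)
  · exact Units.ext (hΦ _)

/-- A normal nontrivial section of a nilpotent group is not the commutator with the group. -/
theorem commutator_sup_ne {p : ℕ} [Fact p.Prime] {S S₀ Q : Subgroup G} (hS : IsPGroup p S)
    (hQS : Q ≤ S) (h₀ : S₀ < Q) (hS₀ : S ≤ Subgroup.normalizer (S₀ : Set G)) :
    S₀ ⊔ ⁅Q, S⁆ ≠ Q := by
  intro h
  have hn : (S₀.subgroupOf S).Normal :=
    (Subgroup.normal_subgroupOf_iff_le_normalizer (h₀.le.trans hQS)).mpr hS₀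
  let π : S →* S ⧸ S₀.subgroupOf S := QuotientGroup.mk' _
  let M : Subgroup (S ⧸ S₀.subgroupOf S) := (Q.subgroupOf S).map π
  have hM : M ≤ ⁅M, ⊤⁆ := by
    have hle : Q ≤ ((⁅M, ⊤⁆ : Subgroup (S ⧸ S₀.subgroupOf S)).comap π).map S.subtype := by
      calc Q = S₀ ⊔ ⁅Q, S⁆ := h.symm
        _ ≤ ((⁅M, ⊤⁆ : Subgroup (S ⧸ S₀.subgroupOf S)).comap π).map S.subtype := sup_le (fun s hs => ⟨⟨s, hQS (h₀.le hs)⟩, Subgroup.mem_comap.mpr (by
              rw [show π ⟨s, hQS (h₀.le hs)⟩ = 1 from (QuotientGroup.eq_one_iff _).mpr hs]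
              exact one_mem _), rfl⟩)
            (Subgroup.commutator_le.mpr fun a ha b hb => ⟨⁅(⟨a, hQS ha⟩ : S), ⟨b, hb⟩⁆,
              Subgroup.mem_comap.mpr (by
                rw [map_commutatorElement]
                exact Subgroup.commutator_mem_commutator ⟨⟨a, hQS ha⟩, ha, rfl⟩ (Subgroup.mem_top _)),
              rfl⟩)
    rintro _ ⟨q, hq, rfl⟩
    obtain ⟨q', hq', e⟩ := hle hq
    rw [show q = q' from Subtype.ext e.symm]
    exact hq'
  have := (hS.to_quotient (S₀.subgroupOf S)).isNilpotent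
  have hser : ∀ n, M ≤ (⊤ : Subgroup (S ⧸ S₀.subgroupOf S)).lowerCentralSeries n := by
    intro n
    induction n with
    | zero => simp
    | succ n ih => exact hM.trans (Subgroup.commutator_mono ih le_rfl)
  obtain ⟨n, hn'⟩ := nilpotent_iff_lowerCentralSeries.mp this
  obtain ⟨q, hq, hq'⟩ := SetLike.exists_of_lt h₀
  have h1 : π ⟨q, hQS hq⟩ ∈ (⊥ : Subgroup (S ⧸ S₀.subgroupOf S)) :=
    hn' ▸ hser n ⟨⟨q, hQS hq⟩, hq, rfl⟩
  exact hq' ((QuotientGroup.eq_one_iff (⟨q, hQS hq⟩ : S)).mp (Subgroup.mem_bot.mp h1))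

variable {p : ℕ} [Fact p.Prime]

/-- Agreement of the scalars of two representations. -/
def Agree {N N' : Subgroup G} {V : Type v} {V' : Type w} [AddCommGroup V] [Module ℂ V]
    [AddCommGroup V'] [Module ℂ V'] (σ : Representation ℂ N V) (σ' : Representation ℂ N' V')
    (x y : G) : Prop :=
  ∃ c, IsOmega σ x y c ∧ IsOmega σ' x y c

/-- **Correspondents have the same commutator scalars.** -/
theorem omega_agree : ∀ (n : ℕ) (K S C H : Subgroup G) [Fintype C], Nat.card K = n →
    IsPGroup p S → S ≤ Subgroup.normalizer (K : Set G) → ¬ p ∣ Nat.card K →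
    C = K ⊓ Subgroup.centralizer (S : Set G) → ∀ (hCK : C ≤ K), ¬ p ∣ Nat.card H →
    H ≤ Subgroup.normalizer (S : Set G) →
    ∀ {V : Type} [AddCommGroup V] [Module ℂ V] [FiniteDimensional ℂ V] (σ : Representation ℂ K V)
      [σ.IsIrreducible] {V' : Type} [AddCommGroup V'] [Module ℂ V'] [FiniteDimensional ℂ V']
      (σ' : Representation ℂ C V') [σ'.IsIrreducible]
      (θ : Cfsg.IrrCharacter K) (φ : Cfsg.IrrCharacter C),
      σ.character = (θ : K → ℂ) → σ'.character = (φ : C → ℂ) →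
      S ≤ fixer (θ : K → ℂ) → H ≤ fixer (θ : K → ℂ) → GCorr p hCK θ φ →
      ∀ x ∈ H, ∀ y ∈ H, ⁅x, y⁆ ∈ C → Agree σ σ' x y := by
  intro n
  induction n using Nat.strong_induction_on with
  | _ n ih =>
  intro K S C H _ hn hS hSK hKp hC hCK hHp hHS V _ _ _ σ _ V' _ _ _ σ' _ θ φ hσ hσ' hθS hθH hcorr
    x hxH y hyH hxy
  have := Fintype.ofFinite K
  have hHK : H ≤ Subgroup.normalizer (K : Set G) := hθH.trans (fixer_le_normalizer _)
  by_cases hKC : K = C
  · subst hKC
    have hθφ : θ = φ := by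
      have h1 := hcorr.isOver
      by_contra hne
      exact h1 (classInner_irr_of_ne hne)
    subst hθφ
    obtain ⟨e⟩ := nonempty_equiv_of_character_eq σ σ' (hσ.trans hσ'.symm)
    obtain ⟨A, hA⟩ := exists_intw σ (hHK hxH) fun a b h => by
      rw [hσ]; exact (hθH hxH).2 a b h
    obtain ⟨B, hB⟩ := exists_intw σ (hHK hyH) fun a b h => by
      rw [hσ]; exact (hθH hyH).2 a b h
    obtain ⟨c, hc⟩ := exists_isOmega_of_intw σ hA hB hxy
    exact ⟨c, hc, hc.of_equiv e⟩
  -- the action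
  have hCS : C ≤ Subgroup.centralizer (S : Set G) := fun c hc => (Subgroup.mem_inf.mp (hC.le hc)).2
  have hmap_cent : ∀ (T : Subgroup G) (g : G), g ∈ Subgroup.normalizer (T : Set G) →
      ∀ h ∈ Subgroup.centralizer (T : Set G), g * h * g⁻¹ ∈ Subgroup.centralizer (T : Set G) := by
    intro T g hg h hh
    rw [Subgroup.mem_centralizer_iff]
    intro t ht
    have ht' : g⁻¹ * t * g ∈ T := by
      have := (Subgroup.mem_normalizer_iff.mp (inv_mem hg) t).mp ht
      simpa using this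
    have := Subgroup.mem_centralizer_iff.mp hh _ ht'
    calc t * (g * h * g⁻¹) = g * ((g⁻¹ * t * g) * h) * g⁻¹ := by group
      _ = _ := by rw [this]; group
  have hnorm : ∀ (T : Subgroup G) (g : G), (∀ h ∈ T, g * h * g⁻¹ ∈ T) →
      g ∈ Subgroup.normalizer (T : Set G) := fun T g h => by
    rw [Subgroup.mem_normalizer_iff_map_conj_eq]
    refine Subgroup.eq_of_le_of_card_ge ?_ (le_of_eq
      (Nat.card_congr (Subgroup.equivMapOfInjective T _ (MulAut.conj g).injective).toEquiv))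
    rintro _ ⟨t, ht, rfl⟩
    exact h t ht
  let S₀ : Subgroup G := S ⊓ Subgroup.centralizer (K : Set G)
  have hS₀N : ∀ g, g ∈ Subgroup.normalizer (S : Set G) → g ∈ Subgroup.normalizer (K : Set G) →
      g ∈ Subgroup.normalizer (S₀ : Set G) := fun g h1 h2 => hnorm _ _ fun h hh =>
    ⟨(Subgroup.mem_normalizer_iff.mp h1 h).mp hh.1, hmap_cent K g h2 h hh.2⟩
  have hS₀S : S₀ < S := lt_of_le_of_ne inf_le_left fun h => hKC (le_antisymm (fun k hk => hC.ge
    ⟨hk, Subgroup.mem_centralizer_iff.mpr fun s hs => (Subgroup.mem_centralizer_iff.mp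
      (show s ∈ Subgroup.centralizer (K : Set G) from (Subgroup.mem_inf.mp (h.ge hs)).2) k hk).symm⟩) hCK)
  let D : Subgroup G := Subgroup.closure ({x, y} : Set G)
  have hDH : D ≤ H := by
    rw [Subgroup.closure_le]
    rintro a (rfl | rfl)
    exacts [hxH, hyH]
  let L : Subgroup G := S ⊔ D
  have hxD : x ∈ D := Subgroup.subset_closure (Or.inl rfl)
  have hyD : y ∈ D := Subgroup.subset_closure (Or.inr rfl)
  have hLS : L ≤ Subgroup.normalizer (S : Set G) := sup_le Subgroup.le_normalizer (hDH.trans hHS)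
  have hLK : L ≤ Subgroup.normalizer (K : Set G) := sup_le hSK (hDH.trans hHK)
  obtain ⟨Q, ⟨hQ₀, hQS, hQL⟩, hmin⟩ := wellFounded_lt.has_min
    {Q : Subgroup G | S₀ < Q ∧ Q ≤ S ∧ L ≤ Subgroup.normalizer (Q : Set G)}
    ⟨S, hS₀S, le_rfl, hLS⟩
  have hminQ : ∀ R : Subgroup G, S₀ ≤ R → R ≤ Q → L ≤ Subgroup.normalizer (R : Set G) →
      R = S₀ ∨ R = Q := by
    intro R h1 h2 h3
    by_contra hcon
    push Not at hcon
    exact hmin R ⟨lt_of_le_of_ne h1 (Ne.symm hcon.1), h2.trans hQS, h3⟩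
      (lt_of_le_of_ne h2 hcon.2)
  have hS₀n : (S₀.subgroupOf Q).Normal :=
    (Subgroup.normal_subgroupOf_iff_le_normalizer hQ₀.le).mpr fun q hq =>
      hS₀N q (Subgroup.le_normalizer (hQS hq)) (hSK (hQS hq))
  -- the factor is central in the `p`-group
  have hQcent : ∀ q ∈ Q, ∀ s ∈ S, ⁅q, s⁆ ∈ S₀ := by
    have hR : S₀ ⊔ ⁅Q, S⁆ ≤ Q := sup_le hQ₀.le (Subgroup.commutator_le.mpr fun a ha b hb => by
      rw [show ⁅a, b⁆ = a * (b * a⁻¹ * b⁻¹) by rw [commutatorElement_def]; group]
      exact mul_mem ha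
        ((Subgroup.mem_normalizer_iff.mp (hQL (Subgroup.mem_sup_left hb)) a⁻¹).mp (inv_mem ha)))
    have hLR : L ≤ Subgroup.normalizer ((S₀ ⊔ ⁅Q, S⁆ : Subgroup G) : Set G) := fun g hg => by
      rw [Subgroup.mem_normalizer_iff_map_conj_eq, Subgroup.map_sup, Subgroup.map_commutator,
        Subgroup.mem_normalizer_iff_map_conj_eq.mp (hS₀N g (hLS hg) (hLK hg)),
        Subgroup.mem_normalizer_iff_map_conj_eq.mp (hQL hg),
        Subgroup.mem_normalizer_iff_map_conj_eq.mp (hLS hg)]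
    rcases hminQ _ le_sup_left hR hLR with h | h
    · exact fun q hq s hs => h.le (Subgroup.mem_sup_right (Subgroup.commutator_mem_commutator hq hs))
    · exact absurd h (commutator_sup_ne hS hQS hQ₀ fun s hs =>
        hS₀N s (Subgroup.le_normalizer hs) (hSK hs))
  -- the intermediate correspondent
  let C₁ : Subgroup G := K ⊓ Subgroup.centralizer (Q : Set G)
  have := Fintype.ofFinite C₁
  have hCC₁ : C ≤ C₁ := le_inf hCK (hCS.trans (Subgroup.centralizer_le hQS))
  have hC₁K : C₁ ≤ K := inf_le_left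
  have hC₁lt : C₁ < K := lt_of_le_of_ne hC₁K fun h => by
    obtain ⟨q, hq, hq'⟩ := SetLike.exists_of_lt hQ₀
    refine hq' ⟨hQS hq, Subgroup.mem_centralizer_iff.mpr fun k hk => ?_⟩
    exact (Subgroup.mem_centralizer_iff.mp (Subgroup.mem_inf.mp (h.ge hk)).2 q hq).symm
  have hLC₁ : L ≤ Subgroup.normalizer (C₁ : Set G) := fun g hg => hnorm _ _ fun h hh =>
    ⟨(Subgroup.mem_normalizer_iff.mp (hLK hg) h).mp hh.1, hmap_cent Q g (hQL hg) h hh.2⟩
  obtain ⟨θ₁, hcorr₁, hother⟩ := gcorr_exists (hS.to_le hQS) (hQS.trans hSK) hKp (C := C₁) rfl hC₁K θ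
    (hQS.trans hθS)
  have hLθ : L ≤ fixer (θ : K → ℂ) := sup_le hθS (hDH.trans hθH)
  have hLθ₁ : L ≤ fixer (θ₁ : C₁ → ℂ) := fun g hg =>
    gcorr_fixer (hS.to_le hQS) (hQS.trans hSK) hKp rfl hC₁K θ (hQS.trans hθS) hcorr₁ (hLθ hg)
      (hLC₁ hg)
  have hcorr₂ : GCorr p hCC₁ θ₁ φ := fun hd => by
    have h1 := mult_trans hC₁K hCC₁ θ hother φ
    have h2 : (p : ℤ) ∣ (mult (Subgroup.inclusion hC₁K) θ θ₁ : ℤ) *
        (mult (Subgroup.inclusion hCC₁) θ₁ φ : ℤ) :=
      (Int.natCast_dvd_natCast.mpr hd).mul_left _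
    have h3 := dvd_add h1 h2
    rw [sub_add_cancel] at h3
    exact hcorr (Int.natCast_dvd_natCast.mp h3)
  obtain ⟨d, σ₁, hσ₁irr, hσ₁⟩ := θ₁.2
  have := hσ₁irr
  have hC₁C : C = C₁ ⊓ Subgroup.centralizer (S : Set G) := by
    refine le_antisymm (le_inf hCC₁ hCS) fun g hg => hC.ge ⟨(Subgroup.mem_inf.mp hg.1).1, hg.2⟩
  have hIH : Agree σ₁ σ' x y := ih _ (hn ▸ Set.Finite.card_lt_card (Set.toFinite _) hC₁lt) C₁ S C D rfl
    hS (le_sup_left.trans hLC₁) (fun h => hKp (h.trans (Subgroup.card_dvd_of_le hC₁K))) hC₁C hCC₁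
    (fun h => hHp (h.trans (Subgroup.card_dvd_of_le hDH))) (hDH.trans hHS) σ₁ σ' θ₁ φ hσ₁ hσ' (le_sup_left.trans hLθ₁) (fun g hg => hLθ₁ (Subgroup.mem_sup_right hg)) hcorr₂
    x hxD y hyD hxy
  -- comparison across one factor
  suffices hstep : Agree σ σ₁ x y by
    obtain ⟨c, hc, hc'⟩ := hstep
    obtain ⟨c', hc₁, hc₂⟩ := hIH
    obtain rfl := hc'.unique hc₁
    exact ⟨c, hc, hc₂⟩
  have hDL : D ≤ L := le_sup_right
  have hCn : ∀ g ∈ L, g ∈ Subgroup.normalizer (C : Set G) := fun g hg => hnorm _ _ fun h hh =>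
    hC.ge ⟨(Subgroup.mem_normalizer_iff.mp (hLK hg) h).mp (hCK hh),
      hmap_cent S g (hLS hg) h (hCS hh)⟩
  have hDC := comm_mem_of_closure_pair (hCn x (hDL hxD))
    (hCn y (hDL hyD)) hxy
  letI : CommGroup (Q ⧸ S₀.subgroupOf Q) :=
    { (inferInstance : Group (Q ⧸ S₀.subgroupOf Q)) with
      mul_comm := fun a b => by
        induction a using QuotientGroup.induction_on with
        | H a =>
        induction b using QuotientGroup.induction_on with
        | H b =>
          have h1 : ⁅(a : G), (b : G)⁆ ∈ S₀ := hQcent a a.2 b (hQS b.2)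
          have h2 : QuotientGroup.mk' (S₀.subgroupOf Q) ⁅a, b⁆ = 1 :=
            (QuotientGroup.eq_one_iff _).mpr h1
          rw [map_commutatorElement, commutatorElement_eq_one_iff_mul_comm] at h2
          exact h2 }
  let W := Q ⧸ S₀.subgroupOf Q
  have hWn : Nontrivial W := by
    obtain ⟨q, hq, hq'⟩ := SetLike.exists_of_lt hQ₀
    exact ⟨QuotientGroup.mk' _ ⟨q, hq⟩, 1, fun h => hq' ((QuotientGroup.eq_one_iff (⟨q, hq⟩ : Q)).mp h)⟩
  have hDS₀ : ∀ d : D, (S₀.subgroupOf Q).map (cAut Q (hQL (hDL d.2)) : Q ≃* Q) = S₀.subgroupOf Q := by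
    intro d
    refine Subgroup.eq_of_le_of_card_ge ?_ (le_of_eq (Nat.card_congr
      (Subgroup.equivMapOfInjective _ _ (cAut Q (hQL (hDL d.2))).injective).toEquiv))
    rintro _ ⟨s, hs, rfl⟩
    exact (Subgroup.mem_normalizer_iff.mp (hS₀N _ (hLS (hDL d.2)) (hLK (hDL d.2))) _).mp hs
  let act : D →* MulAut W :=
    { toFun := fun d => QuotientGroup.congr _ _ (cAut Q (hQL (hDL d.2))) (hDS₀ d)
      map_one' := MulEquiv.ext fun v => by
        induction v using QuotientGroup.induction_on with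
        | H q =>
          refine congrArg (QuotientGroup.mk' (S₀.subgroupOf Q)) (Subtype.ext ?_)
          show (1 : G) * q * 1⁻¹ = q
          simp
      map_mul' := fun a b => MulEquiv.ext fun v => by
        induction v using QuotientGroup.induction_on with
        | H q =>
          refine congrArg (QuotientGroup.mk' (S₀.subgroupOf Q)) (Subtype.ext ?_)
          show ((a : G) * b) * q * ((a : G) * b)⁻¹ = (a : G) * ((b : G) * q * (b : G)⁻¹) * (a : G)⁻¹
          simp [mul_assoc] }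
  have hact : ∀ (d : D) (q : Q), act d (QuotientGroup.mk' _ q) =
      QuotientGroup.mk' (S₀.subgroupOf Q) (cAut Q (hQL (hDL d.2)) q) := fun d q => rfl
  have hcommD : ∀ a b, act a * act b = act b * act a := fun a b => by
    rw [← commutatorElement_eq_one_iff_mul_comm, ← map_commutatorElement]
    refine MulEquiv.ext fun v => ?_
    induction v using QuotientGroup.induction_on with
    | H q =>
      refine congrArg (QuotientGroup.mk' (S₀.subgroupOf Q)) (Subtype.ext ?_)
      show ((⁅a, b⁆ : D) : G) * q * ((⁅a, b⁆ : D) : G)⁻¹ = q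
      have h1 : ((⁅a, b⁆ : D) : G) ∈ C := hDC a a.2 b b.2
      rw [← Subgroup.mem_centralizer_iff.mp (hCS h1) q (hQS q.2), mul_inv_cancel_right]
  have hirr : ∀ U : Subgroup W, (∀ d, ∀ v ∈ U, act d v ∈ U) → U = ⊥ ∨ U = ⊤ := by
    intro U hU
    let R : Subgroup G := (U.comap (QuotientGroup.mk' (S₀.subgroupOf Q))).map Q.subtype
    have hR₀ : S₀ ≤ R := fun s hs => ⟨⟨s, hQ₀.le hs⟩, Subgroup.mem_comap.mpr (by
      rw [show QuotientGroup.mk' (S₀.subgroupOf Q) ⟨s, hQ₀.le hs⟩ = 1 from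
        (QuotientGroup.eq_one_iff _).mpr hs]; exact one_mem _), rfl⟩
    have hRQ : R ≤ Q := by rintro _ ⟨q, -, rfl⟩; exact q.2
    have hLR : L ≤ Subgroup.normalizer (R : Set G) := by
      refine sup_le (fun s hs => hnorm _ _ ?_) fun d hd => hnorm _ _ ?_
      · rintro _ ⟨q, hq, rfl⟩
        have hmem : s * q * s⁻¹ ∈ Q :=
          (Subgroup.mem_normalizer_iff.mp (hQL (Subgroup.mem_sup_left hs)) q).mp q.2
        refine ⟨⟨_, hmem⟩, Subgroup.mem_comap.mpr ?_, rfl⟩
        rw [show QuotientGroup.mk' (S₀.subgroupOf Q) ⟨_, hmem⟩ = QuotientGroup.mk' _ q from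
          (QuotientGroup.eq (s := S₀.subgroupOf Q)).mpr (by
            rw [Subgroup.mem_subgroupOf]
            show (s * (q : G) * s⁻¹)⁻¹ * q ∈ S₀
            have h1 := hQcent _ (inv_mem q.2) s hs
            have h3 : (s * (q : G) * s⁻¹)⁻¹ * q = ⁅s, (q : G)⁻¹⁆ := by
              rw [commutatorElement_def]; group
            rw [h3, ← commutatorElement_inv]
            exact inv_mem h1)]
        exact hq
      · rintro _ ⟨q, hq, rfl⟩
        exact ⟨cAut Q (hQL (hDL hd)) q, hU ⟨d, hd⟩ _ hq, rfl⟩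
    rcases hminQ R hR₀ hRQ hLR with h | h
    · left
      rw [Subgroup.eq_bot_iff_forall]
      intro v hv
      induction v using QuotientGroup.induction_on with
      | H q =>
        exact (QuotientGroup.eq_one_iff q).mpr (h.le ⟨q, hv, rfl⟩)
    · right
      rw [eq_top_iff]
      intro v _
      induction v using QuotientGroup.induction_on with
      | H q =>
        obtain ⟨q', hq', e⟩ := h.ge q.2
        rw [show q = q' from Subtype.ext e.symm]
        exact hq'
  have hcyc := isCyclic_range_of_irreducible act hcommD hirr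
  obtain ⟨⟨_, g, rfl⟩, hg⟩ := hcyc.exists_monoid_generator
  -- centralizing elements
  have hstepk : ∀ k : D, act k = 1 → ∀ z : D, Agree σ σ₁ (k : G) (z : G) := by
    intro k hk z
    let A : Subgroup G := Q ⊓ Subgroup.centralizer ({(k : G)} : Set G)
    have hkQ : (k : G) ∈ Subgroup.normalizer (Q : Set G) := hQL (hDL k.2)
    have hkS₀ : (k : G) ∈ Subgroup.normalizer (S₀ : Set G) := hS₀N _ (hLS (hDL k.2)) (hLK (hDL k.2))
    have hcopk : (Nat.card (Subgroup.zpowers (k : G))).Coprime (Nat.card S₀) := by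
      obtain ⟨m, hm⟩ := IsPGroup.iff_card.mp (hS.to_le (hS₀S.le))
      rw [hm, Nat.card_zpowers]
      exact ((Fact.out : p.Prime).coprime_iff_not_dvd.mpr fun h =>
        hHp (h.trans (Subgroup.orderOf_coe (⟨(k : G), hDH k.2⟩ : H) ▸ orderOf_dvd_natCard _))).symm.pow_right m
    have hsup : ∀ q ∈ Q, ∃ s ∈ S₀, q * s ∈ A := by
      intro q hq
      let M : Subgroup G :=
        { carrier := {a | a ∈ Subgroup.normalizer (S₀ : Set G) ∧ q⁻¹ * (a * q * a⁻¹) ∈ S₀}
          one_mem' := ⟨one_mem _, by simp⟩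
          mul_mem' := fun {a b} ha hb => ⟨mul_mem ha.1 hb.1, by
            rw [show q⁻¹ * (a * b * q * (a * b)⁻¹) =
              (q⁻¹ * (a * q * a⁻¹)) * (a * (q⁻¹ * (b * q * b⁻¹)) * a⁻¹) by group]
            exact mul_mem ha.2 ((Subgroup.mem_normalizer_iff.mp ha.1 _).mp hb.2)⟩
          inv_mem' := fun {a} ha => ⟨inv_mem ha.1, by
            have h1 := (Subgroup.mem_normalizer_iff.mp (inv_mem ha.1) _).mp (inv_mem ha.2)
            rw [show q⁻¹ * (a⁻¹ * q * a⁻¹⁻¹) = a⁻¹ * (q⁻¹ * (a * q * a⁻¹))⁻¹ * a⁻¹⁻¹ by group]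
            exact h1⟩ }
      have hkM : Subgroup.zpowers (k : G) ≤ M := by
        rw [Subgroup.zpowers_le]
        refine ⟨hkS₀, ?_⟩
        have h1 := congrArg (fun f : MulAut W => f (QuotientGroup.mk' _ ⟨q, hq⟩)) hk
        rw [MulAut.one_apply, hact] at h1
        have h2 := QuotientGroup.eq.mp h1.symm
        exact h2
      obtain ⟨s, hs, hc⟩ := CfsgLib.Core.exists_centralizing_in_coset
        (A := Subgroup.zpowers (k : G)) (N := S₀) (Subgroup.zpowers_le.mpr hkS₀) hcopk
        (Or.inr (by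
          have := (hS.to_le hS₀S.le).isNilpotent
          infer_instance)) (k := q) fun a ha => (hkM ha).2
      refine ⟨s, hs, mul_mem hq (hQ₀.le hs), Subgroup.mem_centralizer_singleton_iff.mpr ?_⟩
      exact (Subgroup.mem_centralizer_iff.mp hc _ (Subgroup.mem_zpowers _)).symm
    have hAC : C₁ = K ⊓ Subgroup.centralizer (A : Set G) := by
      refine le_antisymm (inf_le_inf_left K (Subgroup.centralizer_le inf_le_left)) fun g hg =>
        ⟨(Subgroup.mem_inf.mp hg).1, Subgroup.mem_centralizer_iff.mpr fun q hq => ?_⟩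
      obtain ⟨s, hs, hqs⟩ := hsup q hq
      have h1 : Commute (q * s) g :=
        Subgroup.mem_centralizer_iff.mp (Subgroup.mem_inf.mp hg).2 _ hqs
      have h2 : Commute s g := (Subgroup.mem_centralizer_iff.mp
        (Subgroup.mem_inf.mp hs).2 g (Subgroup.mem_inf.mp hg).1).symm
      have h3 := h1.mul_left h2.inv_left
      rwa [mul_inv_cancel_right] at h3
    have hkA : (k : G) ∈ Subgroup.centralizer (A : Set G) := Subgroup.mem_centralizer_iff.mpr
      fun a ha => Subgroup.mem_centralizer_singleton_iff.mp ha.2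
    have hzA : (z : G) ∈ Subgroup.normalizer (A : Set G) := hnorm _ _ fun a ha => by
      refine ⟨(Subgroup.mem_normalizer_iff.mp (hQL (hDL z.2)) a).mp ha.1,
        Subgroup.mem_centralizer_singleton_iff.mpr ?_⟩
      have hc : ⁅(z : G)⁻¹, (k : G)⁆ ∈ C := hDC _ (inv_mem z.2) _ k.2
      have h1 : Commute a ⁅(z : G)⁻¹, (k : G)⁆ :=
        Subgroup.mem_centralizer_iff.mp (hCS hc) a (hQS ha.1)
      have h2 : Commute a (k : G) := Subgroup.mem_centralizer_singleton_iff.mp ha.2
      have h3 : Commute a ((z : G)⁻¹ * k * z) := by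
        have e : (z : G)⁻¹ * k * z = ⁅(z : G)⁻¹, (k : G)⁆ * k := by
          rw [commutatorElement_def]; group
        rw [e]
        exact h1.mul_right h2
      have h4 := congrArg (fun t => (z : G) * t * (z : G)⁻¹) h3.eq
      simp only [mul_assoc] at h4 ⊢
      simpa [mul_assoc] using h4
    have hkp : ¬ p ∣ orderOf (k : G) := fun h =>
      hHp (h.trans (Subgroup.orderOf_coe (⟨(k : G), hDH k.2⟩ : H) ▸ orderOf_dvd_natCard _))
    exact exists_common_omega (hS.to_le (inf_le_left.trans hQS))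
      (inf_le_left.trans (hQS.trans hSK)) hKp hAC hC₁K σ σ₁ θ θ₁ hσ hσ₁
      (inf_le_left.trans (hQS.trans hθS)) hcorr₁ (hLθ (hDL k.2)) (hLθ (hDL z.2)) hkA hzA hkp
      (hCC₁ (hDC _ k.2 _ z.2))
  -- assembly
  have hmul : ∀ a b z : G, Agree σ σ₁ a z → Agree σ σ₁ b z → Agree σ σ₁ (a * b) z :=
    fun a b z ⟨c, h1, h2⟩ ⟨c', h1', h2'⟩ => ⟨c * c', h1.mul_left h1', h2.mul_left h2'⟩
  have hswap : ∀ a b : G, Agree σ σ₁ a b → Agree σ σ₁ b a :=
    fun a b ⟨c, h1, h2⟩ => ⟨c⁻¹, h1.swap, h2.swap⟩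
  have hintw : ∀ z : D, (∃ A, ((z : G), A) ∈ intwGroup σ) ∧ ∃ A, ((z : G), A) ∈ intwGroup σ₁ :=
    fun z => ⟨exists_intw σ (hLK (hDL z.2)) fun a b h => by rw [hσ]; exact (hLθ (hDL z.2)).2 a b h,
      exists_intw σ₁ (hLC₁ (hDL z.2)) fun a b h => by rw [hσ₁]; exact (hLθ₁ (hDL z.2)).2 a b h⟩
  have hself : ∀ z : D, Agree σ σ₁ (z : G) (z : G) := fun z => by
    obtain ⟨⟨A, hA⟩, ⟨B, hB⟩⟩ := hintw z
    exact ⟨1, isOmega_self hA, isOmega_self hB⟩
  have hpowl : ∀ (a z : D), Agree σ σ₁ (a : G) (z : G) → ∀ i : ℕ, Agree σ σ₁ ((a ^ i : D) : G) (z : G) := by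
    intro a z h i
    induction i with
    | zero => exact hstepk _ (by rw [pow_zero, map_one]) z
    | succ i ih => rw [pow_succ, Subgroup.coe_mul]; exact hmul _ _ _ ih h
  have hdec : ∀ a : D, ∃ (i : ℕ) (k : D), act k = 1 ∧ (a : G) = ((g ^ i : D) : G) * (k : G) := by
    intro a
    obtain ⟨i, hi⟩ := Submonoid.mem_powers_iff _ _ |>.mp (hg ⟨act a, a, rfl⟩)
    refine ⟨i, (g ^ i)⁻¹ * a, ?_, ?_⟩
    · have := congrArg Subtype.val hi
      simp only [SubmonoidClass.coe_pow] at this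
      rw [map_mul, map_inv, map_pow, this, inv_mul_cancel]
    · rw [← Subgroup.coe_mul, mul_inv_cancel_left]
  obtain ⟨i, k₁, hk₁, hxe⟩ := hdec ⟨x, hxD⟩
  obtain ⟨j, k₂, hk₂, hye⟩ := hdec ⟨y, hyD⟩
  change x = _ at hxe
  change y = _ at hye
  have hgy : Agree σ σ₁ (g : G) y := by
    refine hswap _ _ ?_
    rw [hye]
    exact hmul _ _ _ (hpowl g g (hself g) j) (hstepk k₂ hk₂ g)
  have hfinal : Agree σ σ₁ (((g ^ i : D) : G) * (k₁ : G)) y :=
    hmul _ _ _ (hpowl g ⟨y, hyD⟩ hgy i) (hstepk k₁ hk₁ ⟨y, hyD⟩)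
  rwa [← hxe] at hfinal

end CfsgLib.Char.RelMcKay
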