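import Cfsg.Agent.Lib.Char.RelMcKay.GlaubermanBasic
import Cfsg.Agent.Lib.Char.Gallagher
import Cfsg.Agent.Lib.CharDegree.CyclicExtend
import Cfsg.Agent.Lib.CharDegree.Twist

/-!
# A correspondent has the same commutator scalar against a centralizing element
-/

set_option autoImplicit false
set_option linter.all false
set_option maxHeartbeats 800000

namespace CfsgLib.Char.RelMcKay

open CfsgLib.CharAction CfsgLib.Clifford CfsgLib.CharExt CfsgLib.Gallagher CfsgLib.CharDegree
open scoped ComplexConjugate Classical commutatorElement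
open Module

universe u v w

section Linear

variable {U : Type u} [Group U] [Fintype U] {N : Subgroup U} [N.Normal]
  {V : Type v} [AddCommGroup V] [Module ℂ V] [FiniteDimensional ℂ V]
  (ρ : Representation ℂ U V) (σ : Representation ℂ N V) [σ.IsIrreducible]
  (hρ : ∀ n : N, ρ n = σ n)

include hρ in
theorem isIrr_restrict : Cfsg.IsIrrCharacter N fun n : N => ρ.character n := by
  have h := isIrrCharacter_rep σ
  convert h using 1
  funext n
  show LinearMap.trace ℂ V (ρ n) = LinearMap.trace ℂ V (σ n)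
  rw [hρ]

include hρ in
/-- Over an extension with abelian quotient, characters are linear twists. -/
theorem exists_linear_twist [Fintype N] (hab : ∀ a b : U ⧸ N, a * b = b * a) (ψ : Cfsg.IrrCharacter U)
    (hψ : ∀ n : N, (ψ : U → ℂ) n = ρ.character n ∨
      Cfsg.classInner (fun n : N => (ψ : U → ℂ) n) (fun n : N => ρ.character n) ≠ 0) :
    ∃ l : U →* ℂˣ, (∀ n : N, l n = 1) ∧ ∀ u, (ψ : U → ℂ) u = (l u : ℂ) * ρ.character u := by
  have := Fintype.ofFinite (U ⧸ N)
  have hres := isIrr_restrict ρ σ hρ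
  obtain ⟨β, hβ⟩ := exists_eq_twistBy (isCharacter_rep ρ) hres ψ (by
    by_cases h : ∀ n : N, (ψ : U → ℂ) n = ρ.character n
    · rw [show (fun n : N => (ψ : U → ℂ) n) = fun n : N => ρ.character n from funext h,
        classInner_irr_self ⟨_, hres⟩]
      exact one_ne_zero
    · push Not at h
      obtain ⟨n, hn⟩ := h
      exact (hψ n).resolve_left hn)
  obtain ⟨l, hl⟩ := exists_hom_of_degree_one β (charDegree_of_comm hab β)
  refine ⟨l.comp (QuotientGroup.mk' N), fun n => ?_, fun u => ?_⟩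
  · rw [MonoidHom.comp_apply, show QuotientGroup.mk' N (n : U) = 1 from
      (QuotientGroup.eq_one_iff _).mpr n.2, map_one]
  · rw [hβ, twistBy_apply, hl]; rfl

include hρ in
/-- The twisting linear character is unique. -/
theorem linear_twist_unique {l l' : U →* ℂˣ} (hl : ∀ n : N, l n = 1) (hl' : ∀ n : N, l' n = 1)
    (h : ∀ u, (l u : ℂ) * ρ.character u = (l' u : ℂ) * ρ.character u) : l = l' := by
  have := Fintype.ofFinite N
  have := Fintype.ofFinite (U ⧸ N)
  have hk : ∀ {m : U →* ℂˣ}, (∀ n : N, m n = 1) → N ≤ m.ker := fun hm n hn => hm ⟨n, hn⟩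
  have e := twistBy_injective (isCharacter_rep ρ) (isIrr_restrict ρ σ hρ)
    (a₁ := twist (trivChar (U ⧸ N)) (QuotientGroup.lift N l (hk hl)))
    (a₂ := twist (trivChar (U ⧸ N)) (QuotientGroup.lift N l' (hk hl'))) (funext fun u => by
      show twistBy ρ.character _ u = twistBy ρ.character _ u
      rw [twistBy_apply, twistBy_apply, twist_apply, twist_apply]
      simp only [trivChar_apply, one_mul]
      exact h u)
  refine MonoidHom.ext fun u => Units.ext ?_
  have e2 := congrArg (fun q : Cfsg.IrrCharacter (U ⧸ N) => (q : U ⧸ N → ℂ) (QuotientGroup.mk' N u)) e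
  simp only [twist_apply, trivChar_apply, one_mul] at e2
  exact e2

end Linear

variable {G : Type u} [Group G] [Finite G] {p : ℕ} [Fact p.Prime]

/-- The subgroup generated by a normalized `p'`-subgroup and a `p'`-element is a `p'`-group. -/
theorem not_dvd_card_sup_zpowers {K : Subgroup G} {k : G}
    (hk : k ∈ Subgroup.normalizer (K : Set G)) (hKp : ¬ p ∣ Nat.card K)
    (hkp : ¬ p ∣ orderOf k) : ¬ p ∣ Nat.card (K ⊔ Subgroup.zpowers k : Subgroup G) := by
  intro h
  obtain ⟨u, hu⟩ := exists_prime_orderOf_dvd_card' p h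
  have hpow : ∀ n : ℕ, ((u : G) ^ n = 1 → p ∣ n) := fun n hn => by
    rw [← hu]; exact orderOf_dvd_of_pow_eq_one (Subtype.ext (by rw [SubmonoidClass.coe_pow]; exact hn))
  let L := Subgroup.normalizer (K : Set G)
  have hUL : K ⊔ Subgroup.zpowers k ≤ L := sup_le Subgroup.le_normalizer (Subgroup.zpowers_le.mpr hk)
  let K' : Subgroup L := K.subgroupOf L
  have hK' : K'.Normal := Subgroup.normal_in_normalizer
  let q : L →* L ⧸ K' := QuotientGroup.mk' K'
  have hle : (K ⊔ Subgroup.zpowers k).subgroupOf L ≤ (Subgroup.zpowers (q ⟨k, hk⟩)).comap q := by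
    rw [Subgroup.subgroupOf_sup Subgroup.le_normalizer (Subgroup.zpowers_le.mpr hk)]
    refine sup_le (fun a ha => ?_) fun a ha => ?_
    · refine Subgroup.mem_comap.mpr ?_
      rw [show q a = 1 from (QuotientGroup.eq_one_iff a).mpr ha]; exact one_mem _
    · obtain ⟨i, hi⟩ := Subgroup.mem_zpowers_iff.mp (Subgroup.mem_subgroupOf.mp ha)
      refine Subgroup.mem_comap.mpr ⟨i, ?_⟩
      show q ⟨k, hk⟩ ^ i = q a
      rw [← map_zpow]
      exact congrArg q (Subtype.ext (by simpa using hi))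
  obtain ⟨i, hi⟩ := hle (show (⟨(u : G), hUL u.2⟩ : L) ∈ _ from u.2)
  have h1 : q ⟨(u : G), hUL u.2⟩ ^ orderOf k = 1 := by
    rw [← show q ⟨k, hk⟩ ^ i = q ⟨(u : G), hUL u.2⟩ from hi, ← zpow_natCast, ← zpow_mul, mul_comm,
      zpow_mul, zpow_natCast, ← map_pow,
      show (⟨k, hk⟩ : L) ^ orderOf k = 1 from Subtype.ext (by simp [pow_orderOf_eq_one]), map_one,
      one_zpow]
  rw [← map_pow] at h1
  have h2 : (u : G) ^ orderOf k ∈ K := by
    have := Subgroup.mem_subgroupOf.mp ((QuotientGroup.eq_one_iff _).mp h1)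
    simpa using this
  have h3 : (u : G) ^ (orderOf k * Nat.card K) = 1 := by
    rw [pow_mul]
    exact congrArg Subtype.val (pow_card_eq_one' (x := (⟨_, h2⟩ : K)))
  rcases (Fact.out : p.Prime).dvd_mul.mp (hpow _ h3) with h4 | h4
  exacts [hkp h4, hKp h4]

/-- The step of the comparison. -/
theorem exists_common_omega {A K C : Subgroup G} [Fintype C] (hA : IsPGroup p A)
    (hAK : A ≤ Subgroup.normalizer (K : Set G)) (hKp : ¬ p ∣ Nat.card K)
    (hC : C = K ⊓ Subgroup.centralizer (A : Set G)) (hCK : C ≤ K)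
    {V : Type v} [AddCommGroup V] [Module ℂ V] [FiniteDimensional ℂ V]
    (σ : Representation ℂ K V) [σ.IsIrreducible]
    {V₁ : Type w} [AddCommGroup V₁] [Module ℂ V₁] [FiniteDimensional ℂ V₁]
    (σ₁ : Representation ℂ C V₁) [σ₁.IsIrreducible]
    (θ : Cfsg.IrrCharacter K) (φ : Cfsg.IrrCharacter C)
    (hθσ : σ.character = (θ : K → ℂ)) (hφσ : σ₁.character = (φ : C → ℂ))
    (hθA : A ≤ fixer (θ : K → ℂ)) (hcorr : GCorr p hCK θ φ)
    {k y : G} (hk : k ∈ fixer (θ : K → ℂ)) (hy : y ∈ fixer (θ : K → ℂ))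
    (hkA : k ∈ Subgroup.centralizer (A : Set G)) (hyA : y ∈ Subgroup.normalizer (A : Set G))
    (hkp : ¬ p ∣ orderOf k) (hky : ⁅k, y⁆ ∈ C) :
    ∃ c, IsOmega σ k y c ∧ IsOmega σ₁ k y c := by
  have hkK := hk.1
  let U : Subgroup G := K ⊔ Subgroup.zpowers k
  let U₁ : Subgroup G := U ⊓ Subgroup.centralizer (A : Set G)
  have hKU : K ≤ U := le_sup_left
  have hkU : k ∈ U := Subgroup.mem_sup_right (Subgroup.mem_zpowers k)
  have hUfix : U ≤ fixer (θ : K → ℂ) :=
    sup_le (fun g hg => mem_fixer_of_mem (IsIrr.isClassFunction θ.2) hg) (Subgroup.zpowers_le.mpr hk)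
  have hUK : U ≤ Subgroup.normalizer (K : Set G) := hUfix.trans (fixer_le_normalizer _)
  have hUp : ¬ p ∣ Nat.card U := not_dvd_card_sup_zpowers hkK hKp hkp
  have hKn : (K.subgroupOf U).Normal := Subgroup.normal_subgroupOf_iff_le_normalizer hKU |>.mpr hUK
  have hzk : ∀ a ∈ A, a * k * a⁻¹ = k := fun a ha => by
    rw [Subgroup.mem_centralizer_iff.mp hkA a ha, mul_inv_cancel_right]
  have hAU : A ≤ Subgroup.normalizer (U : Set G) := fun a ha => by
    rw [Subgroup.mem_normalizer_iff_map_conj_eq, Subgroup.map_sup, MonoidHom.map_zpowers,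
      Subgroup.mem_normalizer_iff_map_conj_eq.mp (hAK ha)]
    congr 2
    exact hzk a ha
  have hCcent : C ≤ Subgroup.centralizer (A : Set G) := fun c hc => (Subgroup.mem_inf.mp (hC.le hc)).2
  have hyU : y ∈ Subgroup.normalizer (U : Set G) := by
    have hyk : y * k * y⁻¹ = ⁅k, y⁆⁻¹ * k := by simp [commutatorElement_def, mul_assoc]
    have hle : U.map (↑(MulAut.conj y) : G →* G) ≤ U := by
      rw [Subgroup.map_sup, MonoidHom.map_zpowers,
        Subgroup.mem_normalizer_iff_map_conj_eq.mp hy.1]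
      refine sup_le hKU (Subgroup.zpowers_le.mpr ?_)
      show y * k * y⁻¹ ∈ U
      rw [hyk]
      exact mul_mem (inv_mem (hKU (hCK hky))) hkU
    rw [Subgroup.mem_normalizer_iff_map_conj_eq]
    exact Subgroup.eq_of_le_of_card_ge hle (le_of_eq
      (Nat.card_congr (Subgroup.equivMapOfInjective U _ (MulAut.conj y).injective).toEquiv))
  -- the quotient is cyclic
  let KU : Subgroup U := K.subgroupOf U
  have hgen : ∀ u : U, ∃ i : ℤ, QuotientGroup.mk' KU u = QuotientGroup.mk' KU ⟨k, hkU⟩ ^ i := by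
    intro u
    obtain ⟨a, ha, b, hb, e⟩ := Subgroup.mem_sup_of_normal_left.mp
      (show u ∈ KU ⊔ (Subgroup.zpowers k).subgroupOf U by
        rw [← Subgroup.subgroupOf_sup hKU (Subgroup.zpowers_le.mpr hkU)]
        exact u.2)
    obtain ⟨i, hi⟩ := Subgroup.mem_zpowers_iff.mp (Subgroup.mem_subgroupOf.mp hb)
    refine ⟨i, ?_⟩
    rw [← e, map_mul, show QuotientGroup.mk' KU a = 1 from (QuotientGroup.eq_one_iff a).mpr ha,
      one_mul, ← map_zpow]
    exact congrArg _ (Subtype.ext (by simpa using hi.symm))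
  have hcyc : IsCyclic (U ⧸ KU) := ⟨QuotientGroup.mk' KU ⟨k, hkU⟩, fun q => by
    obtain ⟨u, rfl⟩ := QuotientGroup.mk'_surjective KU q
    obtain ⟨i, hi⟩ := hgen u
    exact ⟨i, hi.symm⟩⟩
  have habU : ∀ a b : U ⧸ KU, a * b = b * a := fun a b => by
    have := hcyc.isMulCommutative
    exact mul_comm' a b
  have := Fintype.ofFinite U
  have := Fintype.ofFinite KU
  let eK : KU ≃* K := Subgroup.subgroupOfEquivOfLe hKU
  let σU : Representation ℂ KU V := σ.comp eK.toMonoidHom
  have hσU : σU.IsIrreducible := by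
    refine isIrreducible_of_restrict σU eK.symm.toMonoidHom σ fun x => ?_
    show σ (eK (eK.symm x)) = σ x
    rw [MulEquiv.apply_symm_apply]
  obtain ⟨ρ, hρ⟩ := exists_extension_of_cyclic σU (fun g n => by
    show LinearMap.trace ℂ V (σ (eK (cn g n))) = LinearMap.trace ℂ V (σ (eK n))
    have := (hUfix g.2).2 (eK n) (eK (cn g n)) rfl
    rw [← hθσ] at this
    exact this) hcyc
  have hres : ∀ κ : K, ρ.character ⟨κ, hKU κ.2⟩ = (θ : K → ℂ) κ := fun κ => by
    rw [← hθσ]
    show LinearMap.trace ℂ V (ρ (eK.symm κ : KU)) = LinearMap.trace ℂ V (σ κ)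
    rw [hρ]
    show LinearMap.trace ℂ V (σ (eK (eK.symm κ))) = _
    rw [MulEquiv.apply_symm_apply]
  have hρirr : ρ.IsIrreducible := isIrreducible_of_restrict ρ KU.subtype σU hρ
  let χ : Cfsg.IrrCharacter U := ⟨_, isIrrCharacter_rep ρ⟩
  -- twists by elements normalizing everything
  have twist_by : ∀ g, g ∈ fixer (θ : K → ℂ) → ∀ hgU : g ∈ Subgroup.normalizer (U : Set G),
      ∃ l : U →* ℂˣ, (∀ n : KU, l n = 1) ∧
        ∀ u, ρ.character (cAut U hgU u) = (l u : ℂ) * ρ.character u := by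
    intro g hg hgU
    refine exists_linear_twist ρ σU hρ habU
      ⟨_, IsIrr.comp_surjective (cAut U hgU).toMonoidHom (cAut U hgU).surjective χ.2⟩
      fun n => Or.inl ?_
    show ρ.character (cAut U hgU (n : U)) = ρ.character (n : U)
    have hn' : g * ((n : U) : G) * g⁻¹ ∈ K :=
      (Subgroup.mem_normalizer_iff.mp hg.1 _).mp n.2
    rw [show cAut U hgU (n : U) = ⟨_, hKU hn'⟩ from Subtype.ext rfl, hres ⟨_, hn'⟩,
      hg.2 ⟨_, n.2⟩ ⟨_, hn'⟩ rfl, ← hres]
    rfl
  -- `ρ` is fixed by `A`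
  have hχA : A ≤ fixer (χ : U → ℂ) := fun a ha => by
    obtain ⟨l, hl1, hl⟩ := twist_by a (hθA ha) (hAU ha)
    have hconst : ∀ u, l (cAut U (hAU ha) u) = l u := by
      intro u
      obtain ⟨i, hi⟩ := hgen u
      obtain ⟨j, hj⟩ := hgen (cAut U (hAU ha) u)
      have hkk : cAut U (hAU ha) ⟨k, hkU⟩ = ⟨k, hkU⟩ := Subtype.ext (hzk a ha)
      have hfac : ∀ (w : U) (m : ℤ), QuotientGroup.mk' KU w = QuotientGroup.mk' KU ⟨k, hkU⟩ ^ m →
          l w = l ⟨k, hkU⟩ ^ m := fun w m hm => by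
        rw [← map_zpow] at hm
        have h0 : w⁻¹ * ⟨k, hkU⟩ ^ m ∈ KU := QuotientGroup.eq.mp hm
        have h1 := hl1 ⟨_, h0⟩
        rw [map_mul, map_inv, inv_mul_eq_one] at h1
        rw [h1, map_zpow]
      obtain ⟨n, hn⟩ : ∃ n : KU, u = ⟨k, hkU⟩ ^ i * (n : U) := by
        rw [← map_zpow] at hi
        exact ⟨⟨_, QuotientGroup.eq.mp hi.symm⟩, (mul_inv_cancel_left _ _).symm⟩
      have hnK : cAut U (hAU ha) (n : U) ∈ KU := by
        show a * ((n : U) : G) * a⁻¹ ∈ K
        exact (Subgroup.mem_normalizer_iff.mp (hAK ha) _).mp n.2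
      rw [hn, map_mul, map_zpow, hkk, map_mul, map_mul, hl1 ⟨_, hnK⟩, hl1 n]
    have hiter : ∀ (m : ℕ) (u : U), ρ.character (((cAut U (hAU ha)) ^ m : MulAut U) u) =
        ((l u) ^ m : ℂˣ) * ρ.character u := by
      intro m
      induction m with
      | zero => intro u; simp
      | succ m ih =>
        intro u
        rw [pow_succ, MulAut.mul_apply, ih, hl, hconst, pow_succ, Units.val_mul]
        ring
    have hperiod : ((cAut U (hAU ha)) ^ orderOf a : MulAut U) = 1 := by
      refine MulEquiv.ext fun u => Subtype.ext ?_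
      have key : ∀ m : ℕ, ((((cAut U (hAU ha)) ^ m : MulAut U) u : U) : G) = a ^ m * u * (a ^ m)⁻¹ := by
        intro m
        induction m generalizing u with
        | zero => simp
        | succ m ih =>
          rw [pow_succ', MulAut.mul_apply]
          show a * _ * a⁻¹ = _
          rw [ih, pow_succ']
          group
      rw [key, pow_orderOf_eq_one]
      simp
    have hlpow : l ^ orderOf a = 1 := by
      refine linear_twist_unique ρ σU hρ (fun n => by rw [MonoidHom.pow_apply, hl1, one_pow])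
        (fun n => rfl) fun u => ?_
      have := hiter (orderOf a) u
      rw [hperiod, MulAut.one_apply] at this
      rw [MonoidHom.pow_apply, ← this, MonoidHom.one_apply, Units.val_one, one_mul]
    have hl_one : l = 1 := by
      have hcop : (orderOf a).Coprime (Nat.card U) := by
        obtain ⟨m, hm⟩ := hA ⟨a, ha⟩
        have hord : orderOf a ∣ p ^ m := orderOf_dvd_of_pow_eq_one (congrArg Subtype.val hm)
        exact Nat.Coprime.coprime_dvd_left hord
          (Nat.Coprime.pow_left _ ((Fact.out : p.Prime).coprime_iff_not_dvd.mpr hUp))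
      have h1 : orderOf l = 1 := Nat.dvd_one.mp (hcop.gcd_eq_one ▸ Nat.dvd_gcd (orderOf_dvd_of_pow_eq_one hlpow)
        (orderOf_dvd_of_pow_eq_one (hom_pow_card l)))
      rw [orderOf_eq_one_iff] at h1
      exact h1
    refine ⟨hAU ha, fun u u' e => ?_⟩
    rw [show u' = cAut U (hAU ha) u from Subtype.ext e]
    show ρ.character _ = ρ.character u
    rw [hl, hl_one, MonoidHom.one_apply, Units.val_one, one_mul]
  -- the correspondent above
  have hU₁U : U₁ ≤ U := inf_le_left
  have hCU₁ : C ≤ U₁ := le_inf (hCK.trans hKU) hCcent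
  have := Fintype.ofFinite U₁
  obtain ⟨β, hβ, hβo⟩ := gcorr_exists hA hAU hUp (C := U₁) rfl hU₁U χ hχA
  have hkU₁ : k ∈ U₁ := ⟨hkU, hkA⟩
  have hU₁C : U₁ ≤ Subgroup.normalizer (C : Set G) := fun u hu => by
    rw [Subgroup.mem_normalizer_iff, hC]
    intro g
    simp only [Subgroup.mem_inf]
    have h1 := Subgroup.mem_normalizer_iff.mp (hUK hu.1) g
    have h2 := Subgroup.mem_normalizer_iff.mp
      (Subgroup.le_normalizer (H := Subgroup.centralizer (A : Set G)) hu.2) g
    exact and_congr h1 h2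
  have hU₁φ : U₁ ≤ fixer (φ : C → ℂ) := fun u hu =>
    gcorr_fixer hA hAK hKp hC hCK θ hθA hcorr (hUfix hu.1) (hU₁C hu)
  let C₁ : Subgroup U₁ := C.subgroupOf U₁
  have hC₁n : C₁.Normal := Subgroup.normal_subgroupOf_iff_le_normalizer hCU₁ |>.mpr hU₁C
  -- its restriction
  have hf : Function.Injective
      ((QuotientGroup.map C₁ KU (Subgroup.inclusion hU₁U) (fun c hc => hCK hc)) :
        U₁ ⧸ C₁ →* U ⧸ KU) := by
    rw [injective_iff_map_eq_one]
    intro q hq
    induction q using QuotientGroup.induction_on with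
    | H u =>
      refine (QuotientGroup.eq_one_iff u).mpr (hC.ge ⟨?_, u.2.2⟩)
      exact Subgroup.mem_subgroupOf.mp
        ((QuotientGroup.eq_one_iff (Subgroup.inclusion hU₁U u)).mp hq)
  have habU₁ : ∀ a b : U₁ ⧸ C₁, a * b = b * a := fun a b => hf (by rw [map_mul, map_mul, habU])
  have hcyc₁ : IsCyclic (U₁ ⧸ C₁) := isCyclic_of_injective _ hf
  have := Fintype.ofFinite C₁
  let eC : C₁ ≃* C := Subgroup.subgroupOfEquivOfLe hCU₁
  let σC : Representation ℂ C₁ V₁ := σ₁.comp eC.toMonoidHom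
  have hσC : σC.IsIrreducible := by
    refine isIrreducible_of_restrict σC eC.symm.toMonoidHom σ₁ fun x => ?_
    show σ₁ (eC (eC.symm x)) = σ₁ x
    rw [MulEquiv.apply_symm_apply]
  obtain ⟨ρ₀, hρ₀⟩ := exists_extension_of_cyclic σC (fun g n => by
    show LinearMap.trace ℂ V₁ (σ₁ (eC (cn g n))) = LinearMap.trace ℂ V₁ (σ₁ (eC n))
    have := (hU₁φ g.2).2 (eC n) (eC (cn g n)) rfl
    rw [← hφσ] at this
    exact this) hcyc₁
  have hover : Cfsg.classInner (fun n : C₁ => (β : U₁ → ℂ) n) (fun n : C₁ => ρ₀.character n) ≠ 0 := by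
    have h1 := mult_trans hU₁U hCU₁ χ hβo φ
    have h2 : mult (Subgroup.inclusion (hCU₁.trans hU₁U)) χ φ = mult (Subgroup.inclusion hCK) θ φ := by
      apply Nat.cast_injective (R := ℂ)
      rw [← classInner_eq_mult, ← classInner_eq_mult]
      congr 1
      exact funext fun c => hres (Subgroup.inclusion hCK c)
    rw [h2] at h1
    have h3 : mult (Subgroup.inclusion hCU₁) β φ ≠ 0 := fun h0 => by
      rw [h0, Nat.cast_zero, mul_zero, sub_zero] at h1
      exact hcorr (Int.natCast_dvd_natCast.mp h1)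
    rw [← classInner_comp_equiv eC.symm]
    have h4 : Cfsg.classInner (fun c => (β : U₁ → ℂ) (Subgroup.inclusion hCU₁ c)) (φ : C → ℂ) ≠ 0 := by
      rw [classInner_eq_mult, Nat.cast_ne_zero]; exact h3
    have e1 : (fun c : C => ρ₀.character ((eC.symm c : C₁) : U₁)) = (φ : C → ℂ) := funext fun c => by
      rw [← hφσ]
      show LinearMap.trace ℂ V₁ (ρ₀ (eC.symm c : C₁)) = LinearMap.trace ℂ V₁ (σ₁ c)
      rw [hρ₀]
      show LinearMap.trace ℂ V₁ (σ₁ (eC (eC.symm c))) = _
      rw [MulEquiv.apply_symm_apply]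
    show Cfsg.classInner (fun c : C => (β : U₁ → ℂ) ((eC.symm c : C₁) : U₁))
      (fun c : C => ρ₀.character ((eC.symm c : C₁) : U₁)) ≠ 0
    rw [e1]
    exact h4
  obtain ⟨m, hm1, hm⟩ := exists_linear_twist ρ₀ σC hρ₀ habU₁ β fun n => Or.inr hover
  let ρ₁ := twistRep ρ₀ m
  have hρ₁ : ∀ c : C, ρ₁ ⟨c, hCU₁ c.2⟩ = σ₁ c := fun c => by
    have hm' : m ((eC.symm c : C₁) : U₁) = 1 := hm1 _
    show (m ((eC.symm c : C₁) : U₁) : ℂ) • ρ₀ ((eC.symm c : C₁) : U₁) = σ₁ c
    rw [hm', Units.val_one, one_smul, hρ₀]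
    show σ₁ (eC (eC.symm c)) = _
    rw [MulEquiv.apply_symm_apply]
  have hρ₁c : ρ₁.character = (β : U₁ → ℂ) := by
    rw [show ρ₁.character = _ from character_twistRep ρ₀ m]
    exact funext fun u => (hm u).symm
  -- the twist by `y`
  obtain ⟨l, hl1, hl⟩ := twist_by y hy hyU
  have hyU₁ : y ∈ Subgroup.normalizer (U₁ : Set G) := by
    rw [Subgroup.mem_normalizer_iff]
    intro g
    simp only [U₁, Subgroup.mem_inf]
    refine and_congr (Subgroup.mem_normalizer_iff.mp hyU g) ?_
    have hy' : y ∈ Subgroup.normalizer ((Subgroup.centralizer (A : Set G)) : Set G) := by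
      rw [Subgroup.mem_normalizer_iff]
      have hmap := Subgroup.mem_normalizer_iff.mp hyA
      intro h
      simp only [Subgroup.mem_centralizer_iff]
      constructor
      · intro hh a ha
        have ha' : y⁻¹ * a * y ∈ A := by
          have := (Subgroup.mem_normalizer_iff.mp (inv_mem hyA) a).mp ha
          simpa using this
        have := hh _ ha'
        calc a * (y * h * y⁻¹) = y * ((y⁻¹ * a * y) * h) * y⁻¹ := by group
          _ = _ := by rw [this]; group
      · intro hh a ha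
        have ha' : y * a * y⁻¹ ∈ A := (hmap a).mp ha
        have := hh _ ha'
        calc a * h = y⁻¹ * ((y * a * y⁻¹) * (y * h * y⁻¹)) * y := by group
          _ = _ := by rw [this]; group
    exact Subgroup.mem_normalizer_iff.mp hy' g
  let l₁ : U₁ →* ℂˣ := l.comp (Subgroup.inclusion hU₁U)
  let χ₂ : Cfsg.IrrCharacter U := twist χ l
  have hlA : ∀ a (ha : a ∈ A) (u : U), l (cAut U (hAU ha) u) = l u := by
    intro a ha u
    obtain ⟨i, hi⟩ := hgen u
    obtain ⟨n, hn⟩ : ∃ n : KU, u = ⟨k, hkU⟩ ^ i * (n : U) := by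
      rw [← map_zpow] at hi
      exact ⟨⟨_, QuotientGroup.eq.mp hi.symm⟩, (mul_inv_cancel_left _ _).symm⟩
    have hkk : cAut U (hAU ha) ⟨k, hkU⟩ = ⟨k, hkU⟩ := Subtype.ext (hzk a ha)
    have hnK : cAut U (hAU ha) (n : U) ∈ KU := by
      show a * ((n : U) : G) * a⁻¹ ∈ K
      exact (Subgroup.mem_normalizer_iff.mp (hAK ha) _).mp n.2
    rw [hn, map_mul, map_zpow, hkk, map_mul, map_mul, hl1 ⟨_, hnK⟩, hl1 n]
  have hχ₂A : A ≤ fixer (χ₂ : U → ℂ) := fun a ha => ⟨hAU ha, fun u u' e => by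
    rw [show u' = cAut U (hAU ha) u from Subtype.ext e, twist_apply, twist_apply, hlA a ha,
      show (χ : U → ℂ) (cAut U (hAU ha) u) = (χ : U → ℂ) u from (hχA ha).2 u _ rfl]⟩
  let βy : Cfsg.IrrCharacter U₁ :=
    ⟨_, IsIrr.comp_surjective (cAut U₁ hyU₁).toMonoidHom (cAut U₁ hyU₁).surjective β.2⟩
  have hc1 : GCorr p hU₁U χ₂ (twist β l₁) := by
    have e : (mult (Subgroup.inclusion hU₁U) χ₂ (twist β l₁) : ℂ) =
        mult (Subgroup.inclusion hU₁U) χ β := by
      rw [← classInner_eq_mult, ← classInner_eq_mult]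
      simp only [Cfsg.classInner]
      congr 1
      refine Finset.sum_congr rfl fun u _ => ?_
      rw [twist_apply, twist_apply, map_mul]
      have h1 : ((l₁ u : ℂ)) * conj (l₁ u : ℂ) = 1 := by
        rw [Complex.mul_conj', norm_hom_units]; norm_num
      show (χ : U → ℂ) _ * (l₁ u : ℂ) * _ = _
      linear_combination ((χ : U → ℂ) (Subgroup.inclusion hU₁U u) * conj ((β : U₁ → ℂ) u)) * h1
    unfold GCorr
    rwa [Nat.cast_injective e]
  have hc2 : GCorr p hU₁U χ₂ βy := by
    have e : (mult (Subgroup.inclusion hU₁U) χ₂ βy : ℂ) =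
        mult (Subgroup.inclusion hU₁U) χ β := by
      rw [← classInner_eq_mult, ← classInner_eq_mult]
      conv_rhs => rw [← classInner_comp_equiv (cAut U₁ hyU₁)
        (fun c => (χ : U → ℂ) (Subgroup.inclusion hU₁U c))]
      congr 1
      funext c
      rw [twist_apply]
      show ρ.character (Subgroup.inclusion hU₁U c) * _ =
        ρ.character (cAut U hyU (Subgroup.inclusion hU₁U c))
      rw [hl, mul_comm]
    unfold GCorr
    rwa [Nat.cast_injective e]
  have heq := gcorr_unique hA hAU hUp rfl hU₁U χ₂ hχ₂A hc1 hc2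
  refine ⟨l ⟨k, hkU⟩, ?_, ?_⟩
  · exact isOmega_of_extension σ hKU ρ (fun κ => (hρ (eK.symm κ)).trans
      (congrArg σ (eK.apply_symm_apply κ))) l (fun κ => hl1 (eK.symm κ)) hkU hkK hyU hy.1
      (fun u u' e => by rw [show u' = cAut U hyU u from Subtype.ext e]; exact hl u) (hCK hky)
  · refine isOmega_of_extension σ₁ hCU₁ ρ₁ hρ₁ l₁
      (fun c => hl1 (eK.symm (Subgroup.inclusion hCK c))) hkU₁ (hU₁C hkU₁) hyU₁ ?_ ?_ hky
    · rw [Subgroup.mem_normalizer_iff, hC]
      intro g
      simp only [Subgroup.mem_inf]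
      have h1 := Subgroup.mem_normalizer_iff.mp hyU₁ g
      have h2 := Subgroup.mem_normalizer_iff.mp hy.1 g
      constructor
      · rintro ⟨hg, hgA⟩
        refine ⟨h2.mp hg, (h1.mp ⟨hKU hg, hgA⟩).2⟩
      · rintro ⟨hg, hgA⟩
        exact ⟨h2.mpr hg, (h1.mpr ⟨hKU hg, hgA⟩).2⟩
    · intro u u' e
      rw [show u' = cAut U₁ hyU₁ u from Subtype.ext e, hρ₁c]
      have := congrArg (fun q : Cfsg.IrrCharacter U₁ => (q : U₁ → ℂ) u) heq
      simp only [twist_apply] at this
      show (β : U₁ → ℂ) (cAut U₁ hyU₁ u) = _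
      rw [mul_comm, this]
      rfl

end CfsgLib.Char.RelMcKay
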