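import Cfsg.Agent.Lib.Char.RelMcKay.Basic
import Cfsg.Agent.Lib.Char.Extension
import Mathlib.GroupTheory.Transfer

/-!
# Extending linear characters of `p`-power order
-/

set_option autoImplicit false
set_option linter.all false
set_option maxHeartbeats 400000

namespace CfsgLib.Char.RelMcKay

open scoped Classical

universe u

variable {G : Type u} [Group G] [Finite G] {p : ℕ} [Fact p.Prime]

/-- An invariant linear character of `p`-power order extending to `P` of `p'`-index extends. -/
theorem exists_extension_linear {L : Subgroup G} [hLn : L.Normal] (P : Subgroup G) (hLP : L ≤ P)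
    (hidx : ¬ p ∣ P.index) (l : L →* ℂˣ) (k : ℕ) (hk : l ^ p ^ k = 1)
    (hinv : ∀ (g : G) (n n' : L), (n' : G) = g * n * g⁻¹ → l n' = l n) (ψ : P →* ℂˣ)
    (hψ : ∀ n : L, ψ ⟨n, hLP n.2⟩ = l n) :
    ∃ Λ : G →* ℂˣ, ∀ n : L, Λ n = l n := by
  have : P.FiniteIndex := ⟨Subgroup.index_ne_zero_of_finite⟩
  have hV : ∀ n : L, MonoidHom.transfer ψ (n : G) = l n ^ P.index := by
    intro n
    let Z := Subgroup.zpowers (n : G)
    have hfix : ∀ q : G ⧸ P, (n : G) • q = q := by
      intro q
      induction q using QuotientGroup.induction_on with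
      | H g =>
        show QuotientGroup.mk ((n : G) * g) = QuotientGroup.mk g
        rw [QuotientGroup.eq]
        have h := hLP (hLn.conj_mem _ (inv_mem n.2) g⁻¹)
        simpa [mul_assoc] using h
    have hZ : ∀ (z : Z) (q : G ⧸ P), z • q = q := by
      intro z q
      have hle : Z ≤ MulAction.stabilizer G q := Subgroup.zpowers_le.mpr (hfix q)
      exact hle z.2
    have : Fintype (G ⧸ P) := Fintype.ofFinite _
    let e : G ⧸ P ≃ Quotient (MulAction.orbitRel Z (G ⧸ P)) :=
      Equiv.ofBijective (Quotient.mk _) ⟨fun a b h => by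
        obtain ⟨z, hz⟩ := MulAction.orbitRel_apply.mp (Quotient.exact h)
        have hz' : z • b = a := hz
        rw [hZ] at hz'
        exact hz'.symm, Quotient.mk_surjective⟩
    have : Fintype (Quotient (MulAction.orbitRel Z (G ⧸ P))) := Fintype.ofEquiv _ e
    rw [MonoidHom.transfer_eq_prod_quotient_orbitRel_zpowers_quot]
    have hper : ∀ q : G ⧸ P, Function.minimalPeriod ((n : G) • ·) q = 1 := fun q =>
      Function.minimalPeriod_eq_one_iff_isFixedPt.mpr (hfix q)
    have hterm : ∀ q : Quotient (MulAction.orbitRel Z (G ⧸ P)),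
        ψ ⟨q.out.out⁻¹ * (n : G) ^ Function.minimalPeriod ((n : G) • ·) q.out * q.out.out,
          QuotientGroup.out_conj_pow_minimalPeriod_mem P (n : G) q.out⟩ = l n := fun q => by
      have hn' : q.out.out⁻¹ * (n : G) * q.out.out ∈ L := by
        simpa using hLn.conj_mem _ n.2 q.out.out⁻¹
      have e1 := hψ ⟨_, hn'⟩
      refine Eq.trans ?_ (e1.trans (hinv q.out.out⁻¹ n ⟨_, hn'⟩ (by simp)))
      congr 1
      refine Subtype.ext ?_
      show q.out.out⁻¹ * (n : G) ^ Function.minimalPeriod ((n : G) • ·) q.out * q.out.out = _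
      rw [hper, pow_one]
    rw [Finset.prod_congr rfl fun q _ => hterm q, Finset.prod_const, Finset.card_univ,
      ← Nat.card_eq_fintype_card, ← Nat.card_congr e]
    rfl
  have hcop : (P.index).Coprime (p ^ k) :=
    Nat.Coprime.pow_right _ ((Fact.out : p.Prime).coprime_iff_not_dvd.mpr hidx).symm
  obtain ⟨u, v, huv⟩ := Nat.isCoprime_iff_coprime.mpr hcop
  refine ⟨(MonoidHom.transfer ψ) ^ u, fun n => ?_⟩
  show (MonoidHom.transfer ψ (n : G)) ^ u = l n
  have h1 : l n ^ ((p ^ k : ℕ) : ℤ) = 1 := by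
    rw [zpow_natCast, ← MonoidHom.pow_apply, hk]; rfl
  have h2 : l n = l n ^ (u * (P.index : ℤ) + v * ((p ^ k : ℕ) : ℤ)) := by rw [huv, zpow_one]
  conv_rhs => rw [h2, zpow_add, mul_comm u, zpow_mul, zpow_natCast, mul_comm v, zpow_mul, h1,
    one_zpow, mul_one]
  rw [hV]

end CfsgLib.Char.RelMcKay
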