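import Cfsg.Agent.Lib.Char.TwistGroup
import Cfsg.Agent.Lib.Char.Extension
import Cfsg.Agent.Lib.Char.Complete
import Mathlib.GroupTheory.Commutator.Basic

/-!
# The commutator scalar of two commuting symmetries of an irreducible representation
-/

set_option autoImplicit false
set_option linter.all false
set_option maxHeartbeats 400000

namespace CfsgLib.Char.RelMcKay

open CfsgLib.CharExt
open scoped ComplexConjugate Classical commutatorElement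

universe u v

variable {G : Type u} [Group G] {N : Subgroup G}
variable {V : Type v} [AddCommGroup V] [Module ℂ V]
variable (σ : Representation ℂ N V)

/-- The pairs of an element of the normalizer and an intertwiner of `σ` with its translate. -/
def intwGroup : Subgroup (G × (Module.End ℂ V)ˣ) where
  carrier := {x | x.1 ∈ Subgroup.normalizer (N : Set G) ∧ ∀ n n' : N,
    (n' : G) = x.1 * n * x.1⁻¹ → (x.2 : Module.End ℂ V) * σ n = σ n' * (x.2 : Module.End ℂ V)}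
  one_mem' := ⟨one_mem _, fun n n' h => by
    have h' : n' = n := Subtype.ext (by simpa using h)
    simp [h']⟩
  mul_mem' := by
    rintro ⟨g, A⟩ ⟨h, B⟩ ⟨hg, hA⟩ ⟨hh, hB⟩
    refine ⟨mul_mem hg hh, fun n n'' e => ?_⟩
    obtain ⟨n', hn'⟩ : ∃ n' : N, (n' : G) = h * n * h⁻¹ :=
      ⟨⟨_, (Subgroup.mem_normalizer_iff.mp hh n).mp n.2⟩, rfl⟩
    have e' : (n'' : G) = g * n' * g⁻¹ := by rw [e, hn']; simp [mul_assoc]
    show (A : Module.End ℂ V) * B * σ n = σ n'' * (A * B)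
    rw [mul_assoc, hB n n' hn', ← mul_assoc, hA n' n'' e', mul_assoc]
  inv_mem' := by
    rintro ⟨g, A⟩ ⟨hg, hA⟩
    refine ⟨inv_mem hg, fun n n' e => ?_⟩
    have e' : (n : G) = g * n' * g⁻¹ := by
      rw [show (n' : G) = g⁻¹ * n * g⁻¹⁻¹ from e]; simp [mul_assoc]
    have h1 := hA n' n e'
    show (↑A⁻¹ : Module.End ℂ V) * σ n = σ n' * ↑A⁻¹
    calc (↑A⁻¹ : Module.End ℂ V) * σ n = ↑A⁻¹ * (σ n * (A : Module.End ℂ V)) * ↑A⁻¹ := by
          simp [mul_assoc]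
      _ = ↑A⁻¹ * ((A : Module.End ℂ V) * σ n') * ↑A⁻¹ := by rw [h1]
      _ = σ n' * ↑A⁻¹ := by rw [← mul_assoc, Units.inv_mul, one_mul]

theorem mem_intwGroup_of_mem (n : N) : ((n : G), σ.toHomUnits n) ∈ intwGroup σ :=
  ⟨Subgroup.le_normalizer n.2, fun m m' e => by
    have hm : m' = n * m * n⁻¹ := Subtype.ext e
    show σ n * σ m = σ m' * σ n
    rw [← map_mul, ← map_mul, hm, inv_mul_cancel_right]⟩

/-- `c` is the commutator scalar of `x` and `y` on `σ`. -/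
def IsOmega (x y : G) (c : ℂˣ) : Prop :=
  ∃ A B : (Module.End ℂ V)ˣ, (x, A) ∈ intwGroup σ ∧ (y, B) ∈ intwGroup σ ∧
    ∃ h : ⁅x, y⁆ ∈ N, A * B * A⁻¹ * B⁻¹ = scalarUnit c * σ.toHomUnits ⟨⁅x, y⁆, h⟩

/-- The scalar as a function. -/
noncomputable def om (x y : G) : ℂ :=
  if h : ∃ c, IsOmega σ x y c then (h.choose : ℂ) else 0

variable [Finite N] [FiniteDimensional ℂ V] [σ.IsIrreducible]

theorem exists_scalar {A : (Module.End ℂ V)ˣ} (h : ((1 : G), A) ∈ intwGroup σ) :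
    ∃ c : ℂˣ, A = scalarUnit c := by
  have := Fintype.ofFinite N
  have := nontrivial_of_irreducible σ
  obtain ⟨c, hc⟩ := exists_eq_smul_of_commute σ (A : Module.End ℂ V) fun n =>
    h.2 n n (by simp)
  have hc0 : c ≠ 0 := fun h0 => A.ne_zero (by rw [hc, h0, zero_smul])
  exact ⟨Units.mk0 c hc0, Units.ext (by rw [scalarUnit_val, hc]; rfl)⟩

theorem exists_scalar_mul {x : G} {A A' : (Module.End ℂ V)ˣ} (h : (x, A) ∈ intwGroup σ)
    (h' : (x, A') ∈ intwGroup σ) : ∃ c : ℂˣ, A' = scalarUnit c * A := by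
  have h1 := mul_mem h' (inv_mem h)
  simp only [Prod.inv_mk, Prod.mk_mul_mk, mul_inv_cancel] at h1
  obtain ⟨c, hc⟩ := exists_scalar σ h1
  exact ⟨c, mul_inv_eq_iff_eq_mul.mp hc⟩

variable {σ}

theorem IsOmega.eq_comm_of {x y : G} {c : ℂˣ} (h : IsOmega σ x y c) {A B : (Module.End ℂ V)ˣ}
    (hA : (x, A) ∈ intwGroup σ) (hB : (y, B) ∈ intwGroup σ) :
    ∃ h : ⁅x, y⁆ ∈ N, A * B * A⁻¹ * B⁻¹ = scalarUnit c * σ.toHomUnits ⟨⁅x, y⁆, h⟩ := by
  obtain ⟨A₀, B₀, hA₀, hB₀, hk, e⟩ := h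
  obtain ⟨a, rfl⟩ := exists_scalar_mul σ hA₀ hA
  obtain ⟨b, rfl⟩ := exists_scalar_mul σ hB₀ hB
  refine ⟨hk, ?_⟩
  rw [← e]
  have ca : ∀ X : (Module.End ℂ V)ˣ, scalarUnit a * X = X * scalarUnit a := fun X => (commute_scalarUnit a X).eq
  have cb : ∀ X : (Module.End ℂ V)ˣ, scalarUnit b * X = X * scalarUnit b := fun X => (commute_scalarUnit b X).eq
  calc scalarUnit a * A₀ * (scalarUnit b * B₀) * (scalarUnit a * A₀)⁻¹ * (scalarUnit b * B₀)⁻¹
      = scalarUnit a * (A₀ * scalarUnit b) * (B₀ * A₀⁻¹) * (scalarUnit a)⁻¹ * B₀⁻¹ *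
          (scalarUnit b)⁻¹ := by group
    _ = scalarUnit b * (scalarUnit a * (A₀ * B₀ * A₀⁻¹) * (scalarUnit a)⁻¹ * B₀⁻¹) *
          (scalarUnit b)⁻¹ := by rw [← cb A₀, ← mul_assoc (scalarUnit a) (scalarUnit b), ← cb (scalarUnit a)]; group
    _ = A₀ * B₀ * A₀⁻¹ * B₀⁻¹ := by
      rw [ca (A₀ * B₀ * A₀⁻¹), mul_inv_cancel_right, cb, mul_inv_cancel_right]

theorem IsOmega.unique {x y : G} {c c' : ℂˣ} (h : IsOmega σ x y c) (h' : IsOmega σ x y c') :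
    c = c' := by
  have := Fintype.ofFinite N
  have := nontrivial_of_irreducible σ
  obtain ⟨A, B, hA, hB, hk, e⟩ := h
  obtain ⟨hk', e'⟩ := h'.eq_comm_of hA hB
  rw [e] at e'
  exact scalarUnit_injective (mul_right_cancel e')

theorem IsOmega.om_eq {x y : G} {c : ℂˣ} (h : IsOmega σ x y c) : om σ x y = c := by
  have he : ∃ c, IsOmega σ x y c := ⟨c, h⟩
  rw [om, dif_pos he, he.choose_spec.unique h]

theorem IsOmega.mul_left {x₁ x₂ y : G} {c₁ c₂ : ℂˣ} (h₁ : IsOmega σ x₁ y c₁)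
    (h₂ : IsOmega σ x₂ y c₂) : IsOmega σ (x₁ * x₂) y (c₁ * c₂) := by
  obtain ⟨A₁, B, hA₁, hB, hk₁, e₁⟩ := h₁
  obtain ⟨A₂, B', hA₂, hB', hk₂', e₂'⟩ := h₂
  obtain ⟨hk₂, e₂⟩ := IsOmega.eq_comm_of ⟨A₂, B', hA₂, hB', hk₂', e₂'⟩ hA₂ hB
  have hm : x₁ * ⁅x₂, y⁆ * x₁⁻¹ ∈ N := (Subgroup.mem_normalizer_iff.mp hA₁.1 _).mp hk₂
  have hid : x₁ * ⁅x₂, y⁆ * x₁⁻¹ * ⁅x₁, y⁆ = ⁅x₁ * x₂, y⁆ := by
    simp only [commutatorElement_def]; group
  refine ⟨A₁ * A₂, B, mul_mem hA₁ hA₂, hB, hid ▸ mul_mem hm hk₁, ?_⟩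
  have hk : (⟨⁅x₁ * x₂, y⁆, hid ▸ mul_mem hm hk₁⟩ : N) =
      (⟨_, hm⟩ : N) * ⟨⁅x₁, y⁆, hk₁⟩ := Subtype.ext hid.symm
  have hconj : A₁ * σ.toHomUnits ⟨⁅x₂, y⁆, hk₂⟩ * A₁⁻¹ = σ.toHomUnits ⟨_, hm⟩ :=
    mul_inv_eq_iff_eq_mul.mpr (Units.ext (hA₁.2 ⟨⁅x₂, y⁆, hk₂⟩ ⟨_, hm⟩ rfl))
  rw [hk, map_mul, map_mul]
  calc A₁ * A₂ * B * (A₁ * A₂)⁻¹ * B⁻¹
      = (A₁ * (A₂ * B * A₂⁻¹ * B⁻¹) * A₁⁻¹) * (A₁ * B * A₁⁻¹ * B⁻¹) := by group
    _ = scalarUnit c₂ * (A₁ * σ.toHomUnits ⟨⁅x₂, y⁆, hk₂⟩ * A₁⁻¹) *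
          (scalarUnit c₁ * σ.toHomUnits ⟨⁅x₁, y⁆, hk₁⟩) := by
      rw [e₁, e₂, ← mul_assoc A₁, ← (commute_scalarUnit c₂ A₁).eq]; group
    _ = _ := by
      rw [hconj, mul_assoc (scalarUnit c₂), ← mul_assoc (σ.toHomUnits ⟨_, hm⟩),
        ← (commute_scalarUnit c₁ (σ.toHomUnits ⟨_, hm⟩)).eq,
        (commute_scalarUnit c₁ (scalarUnit c₂)).eq]
      group

theorem IsOmega.swap {x y : G} {c : ℂˣ} (h : IsOmega σ x y c) : IsOmega σ y x c⁻¹ := by
  obtain ⟨A, B, hA, hB, hk, e⟩ := h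
  have hk' : ⁅y, x⁆ ∈ N := by rw [← commutatorElement_inv]; exact inv_mem hk
  refine ⟨B, A, hB, hA, hk', ?_⟩
  have e' : B * A * B⁻¹ * A⁻¹ = (A * B * A⁻¹ * B⁻¹)⁻¹ := by group
  rw [e', e, mul_inv_rev, ← map_inv, ← map_inv,
    (commute_scalarUnit c⁻¹ _).eq]
  congr 2
  exact Subtype.ext (commutatorElement_inv x y)

theorem isOmega_self {x : G} {A : (Module.End ℂ V)ˣ} (hA : (x, A) ∈ intwGroup σ) :
    IsOmega σ x x 1 := by
  have hk : ⁅x, x⁆ ∈ N := by rw [commutatorElement_self]; exact one_mem N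
  refine ⟨A, A, hA, hA, hk, ?_⟩
  rw [show (⟨⁅x, x⁆, hk⟩ : N) = 1 from Subtype.ext (commutatorElement_self x), map_one, map_one,
    one_mul]
  group

variable (σ)

/-- Invariance gives an intertwiner. -/
theorem exists_intw {x : G} (hx : x ∈ Subgroup.normalizer (N : Set G))
    (hinv : ∀ n n' : N, (n' : G) = x * n * x⁻¹ → σ.character n' = σ.character n) :
    ∃ A, (x, A) ∈ intwGroup σ := by
  have := Fintype.ofFinite N
  let e : N →* N :=
    { toFun := fun n => ⟨x * n * x⁻¹, (Subgroup.mem_normalizer_iff.mp hx n).mp n.2⟩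
      map_one' := Subtype.ext (by simp)
      map_mul' := fun a b => Subtype.ext (by simp) }
  let σg : Representation ℂ N V := σ.comp e
  obtain ⟨φ⟩ := nonempty_equiv_of_character_eq σ σg (funext fun n => (hinv n (e n) rfl).symm)
  refine ⟨{ val := φ.toLinearEquiv.toLinearMap
            inv := φ.toLinearEquiv.symm.toLinearMap
            val_inv := LinearMap.ext fun v => φ.toLinearEquiv.apply_symm_apply v
            inv_val := LinearMap.ext fun v => φ.toLinearEquiv.symm_apply_apply v }, hx,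
    fun n n' h => ?_⟩
  rw [show n' = e n from Subtype.ext h]
  exact LinearMap.ext fun v => φ.toIntertwiningMap.isIntertwining _ _ n v

theorem exists_isOmega_of_intw {x y : G} {A B : (Module.End ℂ V)ˣ} (hA : (x, A) ∈ intwGroup σ)
    (hB : (y, B) ∈ intwGroup σ) (hk : ⁅x, y⁆ ∈ N) : ∃ c, IsOmega σ x y c := by
  have h1 : (⁅x, y⁆, A * B * A⁻¹ * B⁻¹) ∈ intwGroup σ := by
    have := mul_mem (mul_mem (mul_mem hA hB) (inv_mem hA)) (inv_mem hB)
    simpa only [Prod.inv_mk, Prod.mk_mul_mk, commutatorElement_def] using this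
  obtain ⟨c, hc⟩ := exists_scalar_mul σ (mem_intwGroup_of_mem σ ⟨_, hk⟩) h1
  exact ⟨c, A, B, hA, hB, hk, hc⟩

omit [Finite N] [FiniteDimensional ℂ V] [σ.IsIrreducible]

/-- Functoriality along an injective homomorphism. -/
theorem IsOmega.map {G' : Type*} [Group G'] {N' : Subgroup G'} {σ' : Representation ℂ N' V}
    (f : G' →* G) (hf : Function.Injective f)
    (hN : ∀ n : N, ∃ n' : N', f n' = n ∧ σ' n' = σ n) {x y : G'} {c : ℂˣ}
    (h : IsOmega σ' x y c) (hxy : ⁅f x, f y⁆ ∈ N)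
    (hx : f x ∈ Subgroup.normalizer (N : Set G)) (hy : f y ∈ Subgroup.normalizer (N : Set G)) :
    IsOmega σ (f x) (f y) c := by
  obtain ⟨A, B, hA, hB, hk, e⟩ := h
  have key : ∀ (g : G') (C : (Module.End ℂ V)ˣ), (g, C) ∈ intwGroup σ' →
      f g ∈ Subgroup.normalizer (N : Set G) → (f g, C) ∈ intwGroup σ := fun g C hC hg => by
    refine ⟨hg, fun n n₂ e2 => ?_⟩
    obtain ⟨m, hm, hσm⟩ := hN n
    obtain ⟨m₂, hm₂, hσm₂⟩ := hN n₂
    rw [← hσm, ← hσm₂]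
    refine hC.2 m m₂ (hf ?_)
    rw [hm₂, e2, map_mul, map_mul, map_inv, hm]
  refine ⟨A, B, key x A hA hx, key y B hB hy, hxy, ?_⟩
  obtain ⟨m, hm, hσm⟩ := hN ⟨_, hxy⟩
  have hm' : m = ⟨⁅x, y⁆, hk⟩ := Subtype.ext (hf (hm.trans (map_commutatorElement f x y).symm))
  rw [e]
  congr 1
  exact Units.ext (by rw [← hm']; exact hσm)

/-- The scalar is read off from the action on extensions. -/
theorem isOmega_of_extension [Finite G] [FiniteDimensional ℂ V] {U : Subgroup G} (hNU : N ≤ U)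
    (ρ : Representation ℂ U V) (hρ : ∀ n : N, ρ ⟨n, hNU n.2⟩ = σ n) (l : U →* ℂˣ)
    (hl : ∀ n : N, l ⟨n, hNU n.2⟩ = 1) {k y : G} (hk : k ∈ U)
    (hkN : k ∈ Subgroup.normalizer (N : Set G)) (hyU : y ∈ Subgroup.normalizer (U : Set G))
    (hyN : y ∈ Subgroup.normalizer (N : Set G))
    (hchar : ∀ u u' : U, (u' : G) = y * u * y⁻¹ →
      ρ.character u' = (l u : ℂ) * ρ.character u)
    (hky : ⁅k, y⁆ ∈ N) : IsOmega σ k y (l ⟨k, hk⟩) := by
  have := Fintype.ofFinite U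
  let e : U →* U :=
    { toFun := fun u => ⟨y * u * y⁻¹, (Subgroup.mem_normalizer_iff.mp hyU u).mp u.2⟩
      map_one' := Subtype.ext (by simp)
      map_mul' := fun a b => Subtype.ext (by simp) }
  let τ : Representation ℂ U V := ρ.comp e
  obtain ⟨φ⟩ := nonempty_equiv_of_character_eq (twistRep ρ l) τ (funext fun u => by
    rw [character_twistRep]
    exact (hchar u (e u) rfl).symm)
  let B : (Module.End ℂ V)ˣ :=
    { val := φ.toLinearEquiv.toLinearMap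
      inv := φ.toLinearEquiv.symm.toLinearMap
      val_inv := LinearMap.ext fun v => φ.toLinearEquiv.apply_symm_apply v
      inv_val := LinearMap.ext fun v => φ.toLinearEquiv.symm_apply_apply v }
  have hB : ∀ u, (B : Module.End ℂ V) * ((l u : ℂ) • ρ u) = ρ (e u) * (B : Module.End ℂ V) :=
    fun u => LinearMap.ext fun v => φ.toIntertwiningMap.isIntertwining _ _ u v
  have hBu : ∀ u, B * (scalarUnit (l u) * ρ.toHomUnits u) = ρ.toHomUnits (e u) * B := fun u =>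
    Units.ext (by
      show (B : Module.End ℂ V) * (_ * ρ u) = ρ (e u) * (B : Module.End ℂ V)
      rw [scalarUnit_val, smul_mul_assoc, one_mul]; exact hB u)
  have hσU : ∀ n : N, ρ.toHomUnits ⟨n, hNU n.2⟩ = σ.toHomUnits n := fun n => Units.ext (hρ n)
  refine ⟨ρ.toHomUnits ⟨k, hk⟩, B, ⟨hkN, fun n n' h => ?_⟩, ⟨hyN, fun n n' h => ?_⟩, hky, ?_⟩
  · show ρ ⟨k, hk⟩ * σ n = σ n' * ρ ⟨k, hk⟩
    rw [← hρ n, ← hρ n', ← map_mul, ← map_mul]
    congr 1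
    refine Subtype.ext ?_
    show k * n = n' * k
    rw [show (n' : G) = k * n * k⁻¹ from h]; simp [mul_assoc]
  · have h1 := hB ⟨n, hNU n.2⟩
    rw [hl n, Units.val_one, one_smul, hρ n,
      show e ⟨n, hNU n.2⟩ = ⟨n', hNU n'.2⟩ from Subtype.ext h.symm, hρ n'] at h1
    exact h1
  · set u : U := ⟨k, hk⟩ with hu
    have h1 := hBu u⁻¹
    have h2 : B * (ρ.toHomUnits u)⁻¹ * B⁻¹ = scalarUnit (l u) * ρ.toHomUnits (e u⁻¹) := by
      rw [map_inv, map_inv, map_inv, ← mul_assoc, ← (commute_scalarUnit (l u) B).inv_left.eq] at h1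
      rw [mul_inv_eq_iff_eq_mul, mul_assoc, ← h1]
      group
    have h3 : (⟨⁅k, y⁆, hNU hky⟩ : U) = u * e u⁻¹ := Subtype.ext (by
      show ⁅k, y⁆ = k * (y * k⁻¹ * y⁻¹)
      simp [commutatorElement_def, mul_assoc])
    rw [← hσU ⟨_, hky⟩, h3, map_mul, ← mul_assoc, (commute_scalarUnit (l u) _).eq]
    calc ρ.toHomUnits u * B * (ρ.toHomUnits u)⁻¹ * B⁻¹
        = ρ.toHomUnits u * (B * (ρ.toHomUnits u)⁻¹ * B⁻¹) := by group
      _ = _ := by rw [h2]; group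

end CfsgLib.Char.RelMcKay
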