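import Cfsg.Agent.Lib.Char.RelMcKay.CentralCount
import Cfsg.Agent.Lib.Char.RelMcKay.Omega
import Cfsg.Agent.Lib.Char.Gallagher

/-!
# Reduction of an invariant character to a linear character of a central subgroup
-/

set_option autoImplicit false
set_option linter.all false
set_option maxHeartbeats 800000

namespace CfsgLib.Char.RelMcKay

open CfsgLib.CharExt CfsgLib.CharDegree CfsgLib.Gallagher CfsgLib.Clifford CfsgLib.CharIntegral
open scoped ComplexConjugate Classical commutatorElement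
open Module

universe u v

section Descent

variable {W U Û N : Type*} [Group W] [Group U] [Group Û] [Group N] [Finite W] [Finite U] [Finite Û]
  [Fintype N] {V : Type v} [AddCommGroup V] [Module ℂ V] [FiniteDimensional ℂ V]

/-- Gallagher's correspondence through two quotients of one group. -/
theorem card_over_descent (π : W →* U) (μ : W →* Û) (em : N →* W) (ρ : Representation ℂ W V)
    (σ : Representation ℂ N V) [σ.IsIrreducible] (hπ : Function.Surjective π)
    (hμ : Function.Surjective μ) (hj : Function.Injective fun n => π (em n))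
    (hE : em.range = μ.ker) (hρ : ∀ n, ρ (em n) = σ n) (τ : π.ker →* ℂˣ)
    (hτ : ∀ z : π.ker, ρ z = (τ z : ℂ) • 1) (hc : π.ker ≤ Subgroup.center W) (P : ℕ → Prop) :
    Nat.card {χ : Cfsg.IrrCharacter U // P (Cfsg.charDegree (χ : U → ℂ)) ∧
        IsOver (π.comp em) σ.character (χ : U → ℂ)} =
      Nat.card {β : Cfsg.IrrCharacter Û // P (finrank ℂ V * Cfsg.charDegree (β : Û → ℂ)) ∧
        ∀ (z : π.ker) (a : Û), (β : Û → ℂ) (a * μ z) = ((τ z)⁻¹ : ℂˣ) * (β : Û → ℂ) a} := by
  have := Fintype.ofFinite W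
  have := Fintype.ofFinite U
  have := Fintype.ofFinite Û
  have hE' : (em.range : Subgroup W).Normal := hE ▸ inferInstance
  have hemi : Function.Injective em := fun a b h => hj (congrArg π h)
  let eN : N ≃* em.range := MonoidHom.ofInjective hemi
  have := Fintype.ofFinite em.range
  have hres : Cfsg.IsIrrCharacter em.range fun e : em.range => ρ.character e := by
    have h1 := IsIrr.comp_surjective eN.symm.toMonoidHom eN.symm.surjective (isIrrCharacter_rep σ)
    convert h1 using 1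
    funext e
    obtain ⟨n, rfl⟩ := eN.surjective e
    show LinearMap.trace ℂ V (ρ (em n)) = LinearMap.trace ℂ V (σ (eN.symm (eN n)))
    rw [hρ, MulEquiv.symm_apply_apply]
  have htr : ∀ (w : W) (z : π.ker), ρ.character (w * z) = (τ z : ℂ) * ρ.character w := fun w z => by
    show LinearMap.trace ℂ V (ρ (w * z)) = _
    rw [map_mul, hτ, mul_smul_comm, mul_one, map_smul, smul_eq_mul]
    rfl
  -- the map
  have hex : ∀ β : {β : Cfsg.IrrCharacter Û // P (finrank ℂ V * Cfsg.charDegree (β : Û → ℂ)) ∧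
      ∀ (z : π.ker) (a : Û), (β : Û → ℂ) (a * μ z) = ((τ z)⁻¹ : ℂˣ) * (β : Û → ℂ) a},
      ∃ χ : Cfsg.IrrCharacter U,
        ∀ w, (χ : U → ℂ) (π w) = ρ.character w * (β.1 : Û → ℂ) (μ w) := by
    intro β
    obtain ⟨γ, hγ⟩ : ∃ γ : Cfsg.IrrCharacter (W ⧸ em.range), ∀ w : W,
        (γ : W ⧸ em.range → ℂ) (QuotientGroup.mk' em.range w) = (β.1 : Û → ℂ) (μ w) :=
      CharAction.exists_irr_of_comp (QuotientGroup.mk' em.range) (QuotientGroup.mk'_surjective _)
        (IsIrr.comp_surjective μ hμ β.1.2) fun x z hz => by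
          rw [map_mul, show μ z = 1 from hE.le ((QuotientGroup.eq_one_iff z).mp hz), mul_one]
    refine CharAction.exists_irr_of_comp π hπ
      (ψ := fun w => ρ.character w * (β.1 : Û → ℂ) (μ w)) ?_ fun x z hz => ?_
    · convert isIrr_twistBy (isCharacter_rep ρ) hres γ using 1
      funext w
      rw [twistBy_apply, hγ, mul_comm]
    · rw [htr x ⟨z, hz⟩, map_mul, β.2.2 ⟨z, hz⟩ (μ x)]
      calc (τ ⟨z, hz⟩ : ℂ) * ρ.character x * (((τ ⟨z, hz⟩)⁻¹ : ℂˣ) * (β.1 : Û → ℂ) (μ x))
          = ((τ ⟨z, hz⟩ : ℂ) * ((τ ⟨z, hz⟩)⁻¹ : ℂˣ)) * (ρ.character x * (β.1 : Û → ℂ) (μ x)) := by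
            ring
        _ = _ := by rw [← Units.val_mul, mul_inv_cancel, Units.val_one, one_mul]
  choose Φ hΦ using hex
  have hd : ∀ β, Cfsg.charDegree (Φ β : U → ℂ) = finrank ℂ V * Cfsg.charDegree (β.1 : Û → ℂ) :=
    fun β => charDegree_eq_of_apply_one (by
      rw [← map_one π, hΦ, Representation.char_one, map_one, Nat.cast_mul, cast_irrDegree])
  have hov : ∀ β, IsOver (π.comp em) σ.character (Φ β : U → ℂ) := fun β => by
    rw [isOver_iff, show (fun n => (Φ β : U → ℂ) ((π.comp em) n)) =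
        (β.1 : Û → ℂ) 1 • σ.character from funext fun n => by
      rw [MonoidHom.comp_apply, hΦ, show μ (em n) = 1 from hE.le ⟨n, rfl⟩, Pi.smul_apply,
        smul_eq_mul, mul_comm]
      congr 1
      show LinearMap.trace ℂ V (ρ (em n)) = LinearMap.trace ℂ V (σ n)
      rw [hρ], classInner_smul_left]
    exact mul_ne_zero (IsIrr.apply_one_ne_zero β.1.2)
      (by rw [show Cfsg.classInner σ.character σ.character = 1 from
        classInner_irr_self ⟨_, isIrrCharacter_rep σ⟩]; exact one_ne_zero)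
  refine (Nat.card_eq_of_bijective (fun β => (⟨Φ β, by rw [hd]; exact β.2.1, hov β⟩ :
    {χ : Cfsg.IrrCharacter U // P (Cfsg.charDegree (χ : U → ℂ)) ∧
        IsOver (π.comp em) σ.character (χ : U → ℂ)})) ⟨fun β β' h => ?_, fun χ => ?_⟩).symm
  · obtain ⟨γ, hγ⟩ : ∃ γ : Cfsg.IrrCharacter (W ⧸ em.range), ∀ w : W,
        (γ : W ⧸ em.range → ℂ) (QuotientGroup.mk' em.range w) = (β.1 : Û → ℂ) (μ w) :=
      CharAction.exists_irr_of_comp (QuotientGroup.mk' em.range) (QuotientGroup.mk'_surjective _)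
        (IsIrr.comp_surjective μ hμ β.1.2) fun x z hz => by
          rw [map_mul, show μ z = 1 from hE.le ((QuotientGroup.eq_one_iff z).mp hz), mul_one]
    obtain ⟨γ', hγ'⟩ : ∃ γ : Cfsg.IrrCharacter (W ⧸ em.range), ∀ w : W,
        (γ : W ⧸ em.range → ℂ) (QuotientGroup.mk' em.range w) = (β'.1 : Û → ℂ) (μ w) :=
      CharAction.exists_irr_of_comp (QuotientGroup.mk' em.range) (QuotientGroup.mk'_surjective _)
        (IsIrr.comp_surjective μ hμ β'.1.2) fun x z hz => by
          rw [map_mul, show μ z = 1 from hE.le ((QuotientGroup.eq_one_iff z).mp hz), mul_one]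
    have e : γ = γ' := twistBy_injective (isCharacter_rep ρ) hres (funext fun w => by
      show twistBy ρ.character (γ : W ⧸ em.range → ℂ) w = twistBy ρ.character (γ' : W ⧸ em.range → ℂ) w
      rw [twistBy_apply, twistBy_apply, hγ, hγ', mul_comm, mul_comm ((β'.1 : Û → ℂ) _), ← hΦ, ← hΦ,
        show Φ β = Φ β' from congrArg Subtype.val h])
    refine Subtype.ext (irr_ext fun a => ?_)
    obtain ⟨w, rfl⟩ := hμ a
    rw [← hγ, ← hγ', e]
  · let ψ : Cfsg.IrrCharacter W := ⟨_, IsIrr.comp_surjective π hπ χ.1.2⟩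
    obtain ⟨γ, hγ⟩ := exists_eq_twistBy (isCharacter_rep ρ) hres ψ (by
      rw [← classInner_comp_equiv eN]
      have h1 := (isOver_iff _ _ _).mp χ.2.2
      have e1 : (fun n : N => ρ.character ((eN n : em.range) : W)) = σ.character := funext fun n => by
        show LinearMap.trace ℂ V (ρ (em n)) = LinearMap.trace ℂ V (σ n)
        rw [hρ]
      show Cfsg.classInner (fun n : N => (χ.1 : U → ℂ) (π (em n)))
        (fun n : N => ρ.character ((eN n : em.range) : W)) ≠ 0
      rw [e1]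
      exact h1)
    obtain ⟨β, hβ⟩ := CharAction.exists_irr_of_comp μ hμ
      (IsIrr.comp_surjective (QuotientGroup.mk' em.range) (QuotientGroup.mk'_surjective _) γ.2)
      fun x z hz => by
        rw [map_mul, show QuotientGroup.mk' em.range z = 1 from
          (QuotientGroup.eq_one_iff z).mpr (hE.ge hz), mul_one]
    have hβχ : ∀ w, (χ.1 : U → ℂ) (π w) = ρ.character w * (β : Û → ℂ) (μ w) := fun w => by
      rw [hβ, mul_comm]
      exact congrFun hγ w
    have hβd : Cfsg.charDegree (χ.1 : U → ℂ) = finrank ℂ V * Cfsg.charDegree (β : Û → ℂ) :=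
      charDegree_eq_of_apply_one (by
        rw [← map_one π, hβχ, Representation.char_one, map_one, Nat.cast_mul, cast_irrDegree])
    have hscal : ∀ (z : π.ker) (a : Û), (β : Û → ℂ) (a * μ z) = ((τ z)⁻¹ : ℂˣ) * (β : Û → ℂ) a := by
      intro z
      have hzc : μ z ∈ Subgroup.center Û := Subgroup.mem_center_iff.mpr fun a => by
        obtain ⟨w, rfl⟩ := hμ a
        rw [← map_mul, ← map_mul, Subgroup.mem_center_iff.mp (hc z.2) w]
      obtain ⟨c, hcs⟩ := exists_scalar_central β hzc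
      have h1 := hβχ z
      have hπz : π z = 1 := z.2
      have ez := htr 1 z
      rw [one_mul, Representation.char_one] at ez
      have hb := hcs 1
      rw [one_mul] at hb
      rw [hπz, ez, hb, ← map_one π, hβχ, Representation.char_one, map_one] at h1
      have hne : (finrank ℂ V : ℂ) * (β : Û → ℂ) 1 ≠ 0 :=
        mul_ne_zero (finrank_cast_ne_zero σ) (IsIrr.apply_one_ne_zero β.2)
      have hcτ : (τ z : ℂ) * c = 1 := mul_left_cancel₀ hne (by linear_combination -h1)
      have hcv : c = ((τ z)⁻¹ : ℂˣ) := by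
        rw [Units.val_inv_eq_inv_val]; exact eq_inv_of_mul_eq_one_right hcτ
      intro a
      rw [hcs, hcv]
    refine ⟨⟨β, hβd ▸ χ.2.1, hscal⟩, Subtype.ext (irr_ext fun x => ?_)⟩
    obtain ⟨w, rfl⟩ := hπ x
    show (Φ _ : U → ℂ) (π w) = _
    rw [hΦ, hβχ]

end Descent

variable {G : Type u} [Group G] [Finite G] {N : Subgroup G} [hN : N.Normal] [Fintype N]
  {V : Type v} [AddCommGroup V] [Module ℂ V] [FiniteDimensional ℂ V]

/-- The counting bijection of a triple, from its data. -/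
theorem count_of_data {P : Type*} {Γ : Type*} [Group P] [Group Γ] [Finite P] [Finite Γ]
    (π : P →* G) (hπ : Function.Surjective π) (μ : P →* Γ) (hμ : Function.Surjective μ)
    (f : Γ →* G ⧸ N) (hfμ : ∀ A, f (μ A) = QuotientGroup.mk' N (π A))
    (em : N →* P) (hem : ∀ n, π (em n) = n) (hE : em.range = μ.ker)
    (ρ₀ : Representation ℂ P V) (σ : Representation ℂ N V) [σ.IsIrreducible]
    (hρ : ∀ n, ρ₀ (em n) = σ n) (τ : π.ker →* ℂˣ) (hρτ : ∀ z : π.ker, ρ₀ z = (τ z : ℂ) • 1)
    (hZc : π.ker ≤ Subgroup.center P) (hcentral : f.ker ≤ Subgroup.center Γ) (l : f.ker →* ℂˣ)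
    (hl : ∀ (z : π.ker) (h : μ z ∈ f.ker), l ⟨μ z, h⟩ = (τ z)⁻¹)
    (U : Subgroup G) (hNU : N ≤ U) (Û : Subgroup Γ)
    (hÛ : Û = (U.map (QuotientGroup.mk' N)).comap f) (hle : f.ker ≤ Û) (P' : ℕ → Prop) :
    Nat.card {χ : Cfsg.IrrCharacter U // P' (Cfsg.charDegree (χ : U → ℂ)) ∧
        IsOver (Subgroup.inclusion hNU) σ.character (χ : U → ℂ)} =
      Nat.card {β : Cfsg.IrrCharacter Û // P' (finrank ℂ V * Cfsg.charDegree (β : Û → ℂ)) ∧
        IsOver (Subgroup.inclusion hle) (fun z => (l z : ℂ)) (β : Û → ℂ)} := by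
  have hlift : ∀ (a : Γ) (x : G), f a = QuotientGroup.mk' N x → ∃ A : P, μ A = a ∧ π A = x := by
    intro a x h
    obtain ⟨A, rfl⟩ := hμ a
    rw [hfμ] at h
    have hn : (π A)⁻¹ * x ∈ N := QuotientGroup.eq.mp h
    refine ⟨A * em ⟨_, hn⟩, ?_, ?_⟩
    · rw [map_mul, show μ (em ⟨_, hn⟩) = 1 from hE.le ⟨_, rfl⟩, mul_one]
    · rw [map_mul, hem, mul_inv_cancel_left]
  let W : Subgroup P := U.comap π
  let πU : W →* U := (π.comp W.subtype).codRestrict U fun w => w.2
  let μU : W →* Û :=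
    (μ.comp W.subtype).codRestrict _ fun w => by
      rw [hÛ]
      refine Subgroup.mem_comap.mpr ?_
      show f (μ w) ∈ U.map (QuotientGroup.mk' N)
      rw [hfμ]
      exact Subgroup.mem_map_of_mem _ w.2
  let emU : N →* W := em.codRestrict W fun n => show π (em n) ∈ U by rw [hem]; exact hNU n.2
  have hμU : Function.Surjective μU := by
    rintro ⟨a, ha⟩
    obtain ⟨x, hxU, hx⟩ := Subgroup.mem_map.mp (hÛ.le ha)
    obtain ⟨A, hA, hAx⟩ := hlift a x hx.symm
    exact ⟨⟨A, show π A ∈ U by rw [hAx]; exact hxU⟩, Subtype.ext hA⟩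
  let incl : πU.ker →* π.ker :=
    (W.subtype.comp πU.ker.subtype).codRestrict π.ker fun z =>
      show π ((z : W) : P) = 1 from congrArg Subtype.val (z.2 : πU (z : W) = 1)
  have hincl : ∀ z : π.ker, ∃ z' : πU.ker, incl z' = z := fun z =>
    ⟨⟨⟨z, show π z ∈ U by rw [show π z = 1 from z.2]; exact one_mem U⟩,
      Subtype.ext (z.2 : π z = 1)⟩, Subtype.ext rfl⟩
  have hcomp : πU.comp emU = Subgroup.inclusion hNU := MonoidHom.ext fun n => Subtype.ext (hem n)
  have key := card_over_descent πU μU emU (ρ₀.comp W.subtype) σ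
    (fun u => by
      obtain ⟨A, hA⟩ := hπ u
      exact ⟨⟨A, show π A ∈ U by rw [hA]; exact u.2⟩, Subtype.ext hA⟩)
    hμU (fun n n' h => by
      have h' := congrArg (fun q : U => (q : G)) h
      change π (em n) = π (em n') at h'
      rw [hem, hem] at h'
      exact Subtype.ext h')
    (by
      refine le_antisymm ?_ fun w hw => ?_
      · rintro _ ⟨n, rfl⟩
        exact Subtype.ext (hE.le ⟨n, rfl⟩)
      · obtain ⟨n, hn⟩ := hE.ge (congrArg Subtype.val hw : μ (w : P) = 1)
        exact ⟨n, Subtype.ext hn⟩)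
    hρ (τ.comp incl) (fun z => hρτ (incl z))
    (fun z hz => Subgroup.mem_center_iff.mpr fun w => Subtype.ext
      (Subgroup.mem_center_iff.mp (hZc (congrArg Subtype.val (hz : πU z = 1) : π (z : P) = 1)) w)) P'
  rw [hcomp] at key
  rw [key]
  have := Fintype.ofFinite Û
  have := Fintype.ofFinite f.ker
  let ZU : Subgroup Û := f.ker.subgroupOf Û
  have := Fintype.ofFinite ZU
  let eZU : ZU ≃* f.ker := Subgroup.subgroupOfEquivOfLe hle
  refine Nat.card_congr (Equiv.subtypeEquivRight fun β => and_congr_right fun _ => ?_)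
  have hiff : IsOver (Subgroup.inclusion hle) (fun z => (l z : ℂ)) (β : Û → ℂ) ↔
      IsOver ZU.subtype (fun z => (l.comp eZU.toMonoidHom z : ℂ)) (β : Û → ℂ) := by
    unfold IsOver
    rw [← finsum_comp_equiv eZU.toEquiv]
    rfl
  rw [hiff, isOver_central_iff (fun z hz => Subgroup.mem_center_iff.mpr fun w => Subtype.ext
    (Subgroup.mem_center_iff.mp (hcentral hz) w)) _ β]
  constructor
  · intro h z a
    obtain ⟨A, hA, hA'⟩ := hlift ((z : Û) : Γ) 1 (by rw [map_one]; exact z.2)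
    obtain ⟨w', hw'⟩ := hincl ⟨A, hA'⟩
    have hzA : ((w' : W) : P) = A := congrArg Subtype.val hw'
    have hz : (z : Û) = μU w' := Subtype.ext (by
      show ((z : Û) : Γ) = μ ((w' : W) : P)
      rw [hzA, hA])
    have hmem : μ ((incl w' : π.ker) : P) ∈ f.ker := by
      show f (μ _) = 1
      rw [hfμ, show π ((incl w' : π.ker) : P) = 1 from (incl w').2, map_one]
    have hl' : l (eZU z) = (τ (incl w'))⁻¹ := by
      rw [← hl (incl w') hmem]
      exact congrArg l (Subtype.ext (congrArg Subtype.val hz :))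
    rw [hz, h w' a]
    show ((τ (incl w'))⁻¹ : ℂˣ).val * _ = (l (eZU z) : ℂ) * _
    rw [hl']
  · intro h z a
    have hmem : μ ((incl z : π.ker) : P) ∈ f.ker := by
      show f (μ _) = 1
      rw [hfμ, show π ((incl z : π.ker) : P) = 1 from (incl z).2, map_one]
    have h1 := h ⟨μU z, hmem⟩ a
    rw [h1]
    show (l ⟨μ (incl z : π.ker), hmem⟩ : ℂ) * _ = ((τ (incl z))⁻¹ : ℂˣ).val * _
    rw [hl]

/-- A central character triple for `σ`. -/
structure Triple (σ : Representation ℂ N V) (e : ℕ) where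
  /-- the covering group -/
  Γ : Type (max u v)
  [grp : Group Γ]
  [fin : Finite Γ]
  /-- the map to the quotient -/
  f : Γ →* G ⧸ N
  surj : Function.Surjective f
  central : f.ker ≤ Subgroup.center Γ
  exponent : ∀ z : Γ, f z = 1 → z ^ e = 1
  /-- the linear character -/
  l : f.ker →* ℂˣ
  omega : ∀ (x y : G) (a b : Γ), f a = QuotientGroup.mk' N x → f b = QuotientGroup.mk' N y →
    ∀ h : ⁅a, b⁆ ∈ f.ker, IsOmega σ x y (l ⟨_, h⟩)⁻¹
  count : ∀ (U : Subgroup G) (hNU : N ≤ U) (Û : Subgroup Γ)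
    (hÛ : Û = (U.map (QuotientGroup.mk' N)).comap f) (hle : f.ker ≤ Û) (P : ℕ → Prop),
    Nat.card {χ : Cfsg.IrrCharacter U // P (Cfsg.charDegree (χ : U → ℂ)) ∧
        IsOver (Subgroup.inclusion hNU) σ.character (χ : U → ℂ)} =
      Nat.card {β : Cfsg.IrrCharacter Û // P (finrank ℂ V * Cfsg.charDegree (β : Û → ℂ)) ∧
        IsOver (Subgroup.inclusion hle) (fun z => (l z : ℂ)) (β : Û → ℂ)}

attribute [instance] Triple.grp Triple.fin

/-- Existence of central triples, with a bound on the exponent of the central subgroup. -/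
theorem exists_triple (σ : Representation ℂ N V) [σ.IsIrreducible]
    (hinv : ∀ g n, σ.character (cn g n) = σ.character n) (m : ℕ) (hm : m ≠ 0) (Λ : G →* ℂˣ)
    (hΛ : ∀ n : N, Λ n = detHom σ n ^ m) :
    Nonempty (Triple σ (finrank ℂ V * m)) := by
  have := Fintype.ofFinite G
  have hVn := nontrivial_of_irreducible σ
  have hd : 0 < finrank ℂ V := finrank_pos_of_irreducible σ
  have hdm : 0 < finrank ℂ V * m := Nat.mul_pos hd (Nat.pos_of_ne_zero hm)
  have : NeZero (finrank ℂ V * m) := ⟨hdm.ne'⟩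
  let χ₀ : twistGroup σ →* ℂˣ := detTwist σ ^ m * (Λ.comp (proj σ))⁻¹
  let P : Subgroup (twistGroup σ) := χ₀.ker
  let π : P →* G := (proj σ).comp P.subtype
  have hπ : Function.Surjective π := fun g => by
    obtain ⟨x₀, hx₀⟩ := exists_mem_of_invariant σ (hinv g)
    obtain ⟨c, hc⟩ := IsAlgClosed.exists_pow_nat_eq ((((χ₀ x₀)⁻¹ : ℂˣ)) : ℂ) hdm
    have hc0 : c ≠ 0 := fun h => by
      rw [h, zero_pow hdm.ne'] at hc; exact ((χ₀ x₀)⁻¹).ne_zero hc.symm
    refine ⟨⟨scal σ (Units.mk0 c hc0) * x₀, ?_⟩, ?_⟩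
    · show χ₀ (scal σ (Units.mk0 c hc0) * x₀) = 1
      rw [map_mul, show χ₀ (scal σ (Units.mk0 c hc0)) = (χ₀ x₀)⁻¹ from ?_, inv_mul_cancel]
      show (detTwist σ (scal σ _)) ^ m * (Λ (proj σ (scal σ _)))⁻¹ = _
      rw [detTwist_scal, proj_scal, map_one, inv_one, mul_one, ← pow_mul]
      exact Units.ext (by rw [Units.val_pow_eq_pow_val, Units.val_mk0, hc])
    · show proj σ (scal σ (Units.mk0 c hc0) * x₀) = g
      rw [map_mul, proj_scal, one_mul, hx₀]
  have hker : ∀ z : π.ker, ∃ c : ℂˣ, ((z : P) : twistGroup σ) = scal σ c := fun z =>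
    exists_scal_of_proj σ z.2
  choose τ₀ hτ₀ using hker
  have hscal_inj : Function.Injective (scal σ) := fun a b h =>
    scalarUnit_injective (V := V) (by rw [← op_scal σ a, ← op_scal σ b, h])
  let τ : π.ker →* ℂˣ := MonoidHom.mk' τ₀ fun a b => hscal_inj (by
    rw [map_mul, ← hτ₀, ← hτ₀, ← hτ₀]; rfl)
  have hτpow : ∀ z, τ z ^ (finrank ℂ V * m) = 1 := fun z => by
    have h : χ₀ ((z : P) : twistGroup σ) = 1 := (z : P).2
    rw [hτ₀] at h
    change (detTwist σ (scal σ _)) ^ m * (Λ (proj σ (scal σ _)))⁻¹ = 1 at h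
    rwa [detTwist_scal, proj_scal, map_one, inv_one, mul_one, ← pow_mul] at h
  have hτinj : Function.Injective τ := fun a b h => Subtype.ext (Subtype.ext (by
    rw [hτ₀ a, hτ₀ b]; exact congrArg (scal σ) h))
  have : Finite π.ker := Finite.of_injective
    (fun z => (⟨τ z, hτpow z⟩ : rootsOfUnity (finrank ℂ V * m) ℂ))
    fun a b h => hτinj (congrArg Subtype.val h)
  have : Finite P := by
    have h1 : Finite (P ⧸ π.ker) :=
      Finite.of_injective _ (QuotientGroup.kerLift_injective π)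
    exact Nat.finite_of_card_ne_zero (by
      rw [Subgroup.card_eq_card_quotient_mul_card_subgroup π.ker]
      exact mul_ne_zero Nat.card_pos.ne' Nat.card_pos.ne')
  have hemb : ∀ n : N, emb σ n ∈ P := fun n => by
    show (detTwist σ (emb σ n)) ^ m * (Λ (proj σ (emb σ n)))⁻¹ = 1
    rw [proj_emb, hΛ, show detTwist σ (emb σ n) = detHom σ n from rfl, mul_inv_cancel]
  let em : N →* P := (emb σ).codRestrict P hemb
  let E : Subgroup P := em.range
  have hEn : E.Normal := ⟨by
    rintro _ ⟨n, rfl⟩ x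
    exact ⟨cn (proj σ (x : twistGroup σ)) n, Subtype.ext (conj_emb σ (x : twistGroup σ) n).symm⟩⟩
  let μ : P →* P ⧸ E := QuotientGroup.mk' E
  have hEπ : E ≤ ((QuotientGroup.mk' N).comp π).ker := by
    rintro _ ⟨n, rfl⟩
    exact (QuotientGroup.eq_one_iff _).mpr n.2
  let f : P ⧸ E →* G ⧸ N := QuotientGroup.lift E ((QuotientGroup.mk' N).comp π) hEπ
  have hfμ : ∀ A, f (μ A) = QuotientGroup.mk' N (π A) := fun A => rfl
  have hlift : ∀ (a : P ⧸ E) (x : G), f a = QuotientGroup.mk' N x → ∃ A : P, μ A = a ∧ π A = x := by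
    intro a x h
    obtain ⟨A, rfl⟩ := QuotientGroup.mk'_surjective E a
    rw [hfμ] at h
    have hn : (π A)⁻¹ * x ∈ N := QuotientGroup.eq.mp h
    refine ⟨A * em ⟨_, hn⟩, ?_, ?_⟩
    · rw [map_mul, show μ (em ⟨_, hn⟩) = 1 from (QuotientGroup.eq_one_iff _).mpr ⟨_, rfl⟩, mul_one]
    · rw [map_mul, show π (em ⟨_, hn⟩) = (π A)⁻¹ * x from rfl, mul_inv_cancel_left]
  have hkerf : ∀ a, a ∈ f.ker ↔ ∃ z : π.ker, μ z = a := fun a => by
    constructor
    · intro h
      obtain ⟨A, hA, hA'⟩ := hlift a 1 (by rw [map_one]; exact h)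
      exact ⟨⟨A, hA'⟩, hA⟩
    · rintro ⟨z, rfl⟩
      show f (μ z) = 1
      rw [hfμ, show π z = 1 from z.2, map_one]
  let μz : π.ker →* f.ker := (μ.comp π.ker.subtype).codRestrict f.ker fun z => (hkerf _).mpr ⟨z, rfl⟩
  have hμz : Function.Bijective μz := by
    refine ⟨(injective_iff_map_eq_one μz).mpr fun z hz => ?_, fun a => ?_⟩
    · obtain ⟨n, hn⟩ := (QuotientGroup.eq_one_iff (z : P)).mp (congrArg Subtype.val hz)
      have h1 : π (em n) = 1 := by rw [hn]; exact z.2
      have h2 : n = 1 := Subtype.ext h1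
      exact Subtype.ext (by rw [← hn, h2, map_one]; rfl)
    · obtain ⟨z, hz⟩ := (hkerf a).mp a.2
      exact ⟨z, Subtype.ext hz⟩
  let eZ : π.ker ≃* f.ker := MulEquiv.ofBijective μz hμz
  let l : f.ker →* ℂˣ := (τ.comp eZ.symm.toMonoidHom)⁻¹
  have hl : ∀ z : π.ker, l (μz z) = (τ z)⁻¹ := fun z => by
    show (τ (eZ.symm (eZ z)))⁻¹ = _
    rw [MulEquiv.symm_apply_apply]
  have hZc : π.ker ≤ Subgroup.center P := fun z hz => by
    rw [Subgroup.mem_center_iff]
    intro x
    refine Subtype.ext ?_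
    show (x : twistGroup σ) * (z : twistGroup σ) = z * x
    rw [hτ₀ ⟨z, hz⟩]
    exact (scal_commute σ _ _).eq.symm
  have hcentral : f.ker ≤ Subgroup.center (P ⧸ E) := fun a ha => by
    obtain ⟨z, rfl⟩ := (hkerf a).mp ha
    rw [Subgroup.mem_center_iff]
    intro q
    induction q using QuotientGroup.induction_on with
    | H x => exact congrArg μ (Subgroup.mem_center_iff.1 (hZc z.2) x)
  let ρ₀ : Representation ℂ P V := (Units.coeHom _).comp ((op σ).comp P.subtype)
  have hρτ : ∀ z : π.ker, ρ₀ z = (τ z : ℂ) • 1 := fun z => by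
    show (op σ ((z : P) : twistGroup σ) : Module.End ℂ V) = _
    rw [hτ₀, op_scal, scalarUnit_val]
    rfl
  have hexp : ∀ a : P ⧸ E, f a = 1 → a ^ (finrank ℂ V * m) = 1 := by
    intro a ha
    obtain ⟨z, rfl⟩ := (hkerf a).mp ha
    have : z ^ (finrank ℂ V * m) = 1 := hτinj (by rw [map_pow, map_one, hτpow])
    rw [← map_pow, show ((z : P) ^ (finrank ℂ V * m)) = 1 from congrArg Subtype.val this, map_one]
  have hsurj : Function.Surjective f := by
    intro q
    obtain ⟨x, rfl⟩ := QuotientGroup.mk'_surjective N q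
    obtain ⟨A, rfl⟩ := hπ x
    exact ⟨μ A, rfl⟩
  have homega : ∀ (x y : G) (a b : P ⧸ E), f a = QuotientGroup.mk' N x →
      f b = QuotientGroup.mk' N y → ∀ h : ⁅a, b⁆ ∈ f.ker, IsOmega σ x y (l ⟨_, h⟩)⁻¹ := by
    intro x y a b ha hb h
    obtain ⟨A, rfl, hAx⟩ := hlift a x ha
    obtain ⟨B, rfl, hBy⟩ := hlift b y hb
    obtain ⟨z, hz⟩ := (hkerf _).mp h
    have hne : (z : P)⁻¹ * ⁅A, B⁆ ∈ E := by
      rw [← QuotientGroup.eq]; exact hz.trans (map_commutatorElement μ A B).symm
    obtain ⟨n, hn⟩ := hne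
    have hk : (n : G) = ⁅x, y⁆ := by
      have := congrArg π hn
      rw [map_mul, map_inv, map_commutatorElement, hAx, hBy, show π z = 1 from z.2, inv_one,
        one_mul] at this
      exact this
    have hlz : l ⟨⁅μ A, μ B⁆, h⟩ = (τ z)⁻¹ := by
      rw [← hl]; congr 1; exact Subtype.ext hz.symm
    rw [hlz, inv_inv]
    have mem : ∀ (C : P) (g : G), π C = g → (g, op σ (C : twistGroup σ)) ∈ intwGroup σ := by
      rintro C g rfl
      refine ⟨by rw [Subgroup.normalizer_eq_top]; trivial, fun n n' e => ?_⟩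
      have h2 := (C : twistGroup σ).2 n
      rw [show cn (C : twistGroup σ).1.1 n = n' from Subtype.ext e.symm] at h2
      exact h2
    refine ⟨op σ (A : twistGroup σ), op σ (B : twistGroup σ), mem A x hAx, mem B y hBy,
      hk ▸ n.2, ?_⟩
    have e2 : ⁅A, B⁆ = (z : P) * em n := by rw [hn, mul_inv_cancel_left]
    have e3 := congrArg (fun C : P => op σ (C : twistGroup σ)) e2
    simp only [commutatorElement_def, Subgroup.coe_mul, Subgroup.coe_inv, map_mul, map_inv] at e3
    rw [e3, hτ₀, op_scal]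
    congr 1
    refine Units.ext ?_
    show (op σ (emb σ n) : Module.End ℂ V) = σ _
    rw [op_emb]
    exact congrArg σ (Subtype.ext hk)
  refine ⟨{ Γ := P ⧸ E, f := f, surj := hsurj, central := hcentral, exponent := hexp, l := l,
            omega := homega, count := ?_ }⟩
  exact count_of_data π hπ μ (QuotientGroup.mk'_surjective E) f hfμ em (fun n => rfl)
    (QuotientGroup.ker_mk' E).symm ρ₀ σ (fun n => op_emb σ n) τ hρτ hZc hcentral l
    (fun z h => hl z)

end CfsgLib.Char.RelMcKay
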