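import Cfsg.Agent.Lib.Char.RelMcKay.Central
import Cfsg.Agent.Lib.Char.RelMcKay.Triple
import Cfsg.Agent.Lib.Char.RelMcKay.Lambda

/-!
# The relative count of characters of degree prime to `p` in `p`-solvable groups
-/

set_option autoImplicit false
set_option linter.all false
set_option maxHeartbeats 1000000

namespace CfsgLib.Char.RelMcKay

open CfsgLib.CharAction CfsgLib.Clifford CfsgLib.CharDegree CfsgLib.CharExt
open scoped ComplexConjugate Classical Pointwise
open Module

universe u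

variable {p : ℕ} [Fact p.Prime] {G : Type u} [Group G] [Fintype G]

/-- A character of `p'`-degree on an overgroup of a Sylow join gives an extension to it. -/
theorem exists_extension_of_count {L : Subgroup G} [hLn : L.Normal] [Fintype L] (S : Sylow p G)
    (P : Subgroup G) (hP : P = L ⊔ (S : Subgroup G)) (hLP : L ≤ P) (X : Subgroup G) (hPX : P ≤ X)
    (ν : Cfsg.IrrCharacter L) (hinv : ∀ g, conjFn hLn (ν : L → ℂ) g = (ν : L → ℂ))
    (χ : Cfsg.IrrCharacter X) (hχd : ¬ p ∣ Cfsg.charDegree (χ : X → ℂ))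
    (hχ : IsOver (Subgroup.inclusion (hLP.trans hPX)) (ν : L → ℂ) (χ : X → ℂ)) :
    ∃ η : Cfsg.IrrCharacter P, ∀ n : L, (η : P → ℂ) (Subgroup.inclusion hLP n) = (ν : L → ℂ) n := by
  have hp : p.Prime := Fact.out
  have := Fintype.ofFinite X
  have := Fintype.ofFinite P
  let LX : Subgroup X := L.subgroupOf X
  let PX : Subgroup X := P.subgroupOf X
  have hLXn : LX.Normal := hLn.subgroupOf X
  have := Fintype.ofFinite LX
  have := Fintype.ofFinite PX
  let eL : LX ≃* L := Subgroup.subgroupOfEquivOfLe (hLP.trans hPX)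
  let eP : PX ≃* P := Subgroup.subgroupOfEquivOfLe hPX
  let νX : Cfsg.IrrCharacter LX := ⟨_, IsIrr.comp_surjective eL.toMonoidHom eL.surjective ν.2⟩
  have hinvX : ∀ x : X, conjFn hLXn (νX : LX → ℂ) x = (νX : LX → ℂ) := fun x => funext fun n =>
    (congrArg (ν : L → ℂ) (Subtype.ext rfl)).trans (congrFun (hinv (x : G)) (eL n))
  have hc : Cfsg.classInner (fun n : LX => (χ : X → ℂ) n) (νX : LX → ℂ) ≠ 0 := by
    show Cfsg.classInner
      (fun n : LX => (fun a : L => (χ : X → ℂ) (Subgroup.inclusion (hLP.trans hPX) a)) (eL n))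
      (fun n : LX => (ν : L → ℂ) (eL n)) ≠ 0
    rw [classInner_comp_equiv eL
      (fun a : L => (χ : X → ℂ) (Subgroup.inclusion (hLP.trans hPX) a))]
    exact (isOver_iff _ _ _).mp hχ
  obtain ⟨η', hη'd, hη'⟩ := PPrimeKernel.exists_constituent_not_dvd
    (IsChar.restrict PX (IsIrr.isCharacter χ.2)) (n := Cfsg.charDegree (χ : X → ℂ))
    (cast_irrDegree χ).symm hχd
  have hle : LX ≤ PX := fun x hx => hLP hx
  have hover : Cfsg.classInner (resTo hle (η' : PX → ℂ)) (νX : LX → ℂ) ≠ 0 :=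
    OddSection.over_of_constituent hLXn hle χ.2 νX.2 hinvX hc η'.2 hη'
  let η : Cfsg.IrrCharacter P := ⟨_, IsIrr.comp_surjective eP.symm.toMonoidHom eP.symm.surjective η'.2⟩
  have hηd : ¬ p ∣ Cfsg.charDegree (η : P → ℂ) := by
    show ¬ p ∣ Cfsg.charDegree (fun x : P => (η' : PX → ℂ) (eP.symm x))
    unfold Cfsg.charDegree
    simp only [map_one]
    exact hη'd
  -- inside `P`
  let LP : Subgroup P := L.subgroupOf P
  have hLPn : LP.Normal := hLn.subgroupOf P
  have := Fintype.ofFinite LP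
  let eLP : LP ≃* L := Subgroup.subgroupOfEquivOfLe hLP
  let νP : Cfsg.IrrCharacter LP := ⟨_, IsIrr.comp_surjective eLP.toMonoidHom eLP.surjective ν.2⟩
  have hηo : Cfsg.classInner (resTo hLP (η : P → ℂ)) (ν : L → ℂ) ≠ 0 := by
    rw [← classInner_comp_equiv eL (resTo hLP (η : P → ℂ))]
    show Cfsg.classInner (fun n : LX => resTo hLP (η : P → ℂ) (eL n)) (νX : LX → ℂ) ≠ 0
    rw [show (fun n : LX => resTo hLP (η : P → ℂ) (eL n)) = resTo hle (η' : PX → ℂ) from
      funext fun n => congrArg (η' : PX → ℂ) (Subtype.ext rfl)]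
    exact hover
  have hηo' : Cfsg.classInner (fun n : LP => (η : P → ℂ) n) (νP : LP → ℂ) ≠ 0 := by
    show Cfsg.classInner (fun n : LP => resTo hLP (η : P → ℂ) (eLP n))
      (fun n : LP => (ν : L → ℂ) (eLP n)) ≠ 0
    rw [classInner_comp_equiv eLP (resTo hLP (η : P → ℂ))]
    exact hηo
  have hdν : Cfsg.charDegree (νP : LP → ℂ) = Cfsg.charDegree (ν : L → ℂ) := by
    show Cfsg.charDegree (fun n : LP => (ν : L → ℂ) (eLP n)) = _
    unfold Cfsg.charDegree
    simp only [map_one]
  obtain ⟨hdvd, hquo⟩ := ThreeDegrees.degree_dvd_of_over LP η νP hηo'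
  rw [hdν] at hdvd hquo
  have hpow : ∃ k, LP.index = p ^ k := by
    have hPn : IsPGroup p (P ⧸ LP) :=
      S.isPGroup'.of_surjective ((QuotientGroup.mk' LP).comp
        (Subgroup.inclusion (show (S : Subgroup G) ≤ P from hP ▸ le_sup_right))) fun t => by
        obtain ⟨x, rfl⟩ := QuotientGroup.mk'_surjective _ t
        obtain ⟨a, ha, b, hb, e⟩ := Subgroup.mem_sup_of_normal_left.mp (hP.le x.2)
        refine ⟨⟨b, hb⟩, QuotientGroup.eq.mpr ?_⟩
        show ((⟨b, _⟩ : P)⁻¹ * x : P) ∈ L.subgroupOf P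
        rw [Subgroup.mem_subgroupOf]
        show b⁻¹ * (x : G) ∈ L
        rw [← e]
        have := hLn.conj_mem a ha b⁻¹
        simpa [mul_assoc] using this
    exact IsPGroup.iff_card.mp hPn
  have hdeq : Cfsg.charDegree (η : P → ℂ) = Cfsg.charDegree (ν : L → ℂ) := by
    obtain ⟨c, hc'⟩ := hdvd
    obtain ⟨k, hk⟩ := hpow
    have hν0 : 0 < Cfsg.charDegree (ν : L → ℂ) := Nat.pos_of_ne_zero fun h0 =>
      hηd (by rw [hc', h0, zero_mul]; exact dvd_zero p)
    rw [hc', Nat.mul_div_cancel_left _ hν0, hk] at hquo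
    obtain ⟨i, -, rfl⟩ := (Nat.dvd_prime_pow hp).mp hquo
    rcases i with _ | i
    · rw [hc', pow_zero, mul_one]
    · exact absurd (hc' ▸ (dvd_pow_self p (Nat.succ_ne_zero i)).mul_left _) hηd
  refine ⟨η, fun n => ?_⟩
  have h := eq_irr_of_degree_le (isCharacter_resTo hLP (IsIrr.isCharacter η.2)) ν hηo
    (c := Cfsg.charDegree (η : P → ℂ)) (c' := Cfsg.charDegree (ν : L → ℂ))
    (by
      rw [show resTo hLP (η : P → ℂ) 1 = (η : P → ℂ) 1 from rfl]
      exact (cast_irrDegree η).symm)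
    (cast_irrDegree ν).symm hdeq.le
  exact congrFun h n

/-- A `p`-subgroup lifting the image of a Sylow subgroup in a quotient. -/
theorem exists_sylow_lift {Γ Q : Type u} [Group Γ] [Finite Γ] [Group Q] [Finite Q] (f : Γ →* Q)
    (hf : Function.Surjective f) (R₀ : Sylow p Q) :
    ∃ R : Sylow p Γ, (R : Subgroup Γ).map f = (R₀ : Subgroup Q) := by
  obtain ⟨R⟩ : Nonempty (Sylow p Γ) := inferInstance
  obtain ⟨g, hg⟩ := MulAction.exists_smul_eq Q (R.mapSurjective hf) R₀
  obtain ⟨a, rfl⟩ := hf g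
  refine ⟨a • R, ?_⟩
  rw [← hg, Sylow.coe_subgroup_smul, Sylow.coe_subgroup_smul, Sylow.coe_mapSurjective]
  ext x
  rw [Subgroup.mem_pointwise_smul_iff_inv_smul_mem, Subgroup.mem_map, Subgroup.mem_map]
  constructor
  · rintro ⟨y, hy, rfl⟩
    rw [Subgroup.mem_pointwise_smul_iff_inv_smul_mem] at hy
    exact ⟨_, hy, by simp [MulAut.smul_def]⟩
  · rintro ⟨y, hy, e⟩
    refine ⟨MulAut.conj a y, ?_, ?_⟩
    · rw [Subgroup.mem_pointwise_smul_iff_inv_smul_mem]
      simpa [MulAut.smul_def, mul_assoc] using hy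
    · simp [MulAut.smul_def] at e ⊢
      rw [e]
      group

/-- The counts agree, assuming this for smaller index. -/
theorem main_step {n : ℕ} (IH : MainBelow.{u} p n) (hG : Cfsg.IsPSolvable p G) (L : Subgroup G)
    [hLn : L.Normal] [Fintype L] (hidx : L.index ≤ n) (S : Sylow p G) (ν : Cfsg.IrrCharacter L)
    (hinv : ∀ g, conjFn hLn (ν : L → ℂ) g = (ν : L → ℂ))
    (hLN : L ≤ Subgroup.normalizer ((L ⊔ (S : Subgroup G) : Subgroup G) : Set G)) :
    cnt p L.subtype (ν : L → ℂ) = cnt p (Subgroup.inclusion hLN) (ν : L → ℂ) := by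
  have hp : p.Prime := Fact.out
  set P : Subgroup G := L ⊔ (S : Subgroup G) with hP
  set N : Subgroup G := Subgroup.normalizer (P : Set G) with hN
  have := Fintype.ofFinite N
  by_cases hνd : p ∣ Cfsg.charDegree (ν : L → ℂ)
  · rw [cnt_eq_zero, cnt_eq_zero]
    · exact fun χ hχ => hνd.trans (deg_dvd_of_isOver hLN ν χ hχ)
    · exact fun χ hχ => hνd.trans
        (ThreeDegrees.degree_dvd_of_over L χ ν ((isOver_subtype _ _).mp hχ)).1
  have hLP : L ≤ P := le_sup_left
  have hPN : P ≤ N := Subgroup.le_normalizer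
  have etop : cnt p L.subtype (ν : L → ℂ) =
      cnt p (Subgroup.inclusion (le_top : L ≤ ⊤)) (ν : L → ℂ) :=
    cnt_congr p Subgroup.topEquiv.symm (MulEquiv.refl L) _ _ (fun n => rfl) _ _ fun n => rfl
  by_cases hex : ∃ η : Cfsg.IrrCharacter P,
      ∀ n : L, (η : P → ℂ) (Subgroup.inclusion hLP n) = (ν : L → ℂ) n
  swap
  · have hzero : ∀ (X : Subgroup G) (hPX : P ≤ X),
        cnt p (Subgroup.inclusion (hLP.trans hPX)) (ν : L → ℂ) = 0 := fun X hPX =>
      cnt_eq_zero _ _ fun χ hχ => by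
        by_contra hd
        exact hex (exists_extension_of_count S P hP hLP X hPX ν hinv χ hd hχ)
    rw [etop, hzero ⊤ le_top, hzero N hPN]
  obtain ⟨η, hη⟩ := hex
  obtain ⟨d, σ, hσirr, hσ⟩ := ν.2
  obtain ⟨d', ρ, hρirr, hρ⟩ := η.2
  have := hσirr
  have hσinv : ∀ g n, σ.character (cn g n) = σ.character n := fun g n => by
    rw [hσ]
    exact congrFun (hinv g) n
  have hfd : finrank ℂ (Fin d → ℂ) = Cfsg.charDegree (ν : L → ℂ) :=
    (charDegree_eq_of_apply_one (by rw [← hσ, Representation.char_one])).symm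
  -- the determinant
  obtain ⟨k, m, hpm, hLcard⟩ := Nat.exists_eq_pow_mul_and_not_dvd
    (Nat.card_pos (α := L)).ne' p hp.one_lt.ne'
  let lam : L →* ℂˣ := detHom σ ^ m
  have hlk : lam ^ p ^ k = 1 := by
    refine MonoidHom.ext fun x => ?_
    show (detHom σ x ^ m) ^ p ^ k = 1
    rw [← pow_mul, mul_comm, ← hLcard, ← map_pow, pow_card_eq_one', map_one]
  have hdetρ : ∀ n : L, detHom ρ (Subgroup.inclusion hLP n) = detHom σ n := by
    intro n
    have e : detHom (ρ.comp (Subgroup.inclusion hLP) : Representation ℂ L (Fin d' → ℂ)) = detHom σ :=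
      detHom_eq_of_character_eq _ σ (funext fun x => by
        rw [congrFun hσ x, ← hη x, ← congrFun hρ (Subgroup.inclusion hLP x)]
        rfl)
    rw [← e]
    exact Units.ext rfl
  have hdinv : ∀ (g : G) (n n' : L), (n' : G) = g * n * g⁻¹ → lam n' = lam n := by
    intro g n n' e
    let c : L →* L := MonoidHom.mk' (cn g) fun a b => Subtype.ext
      (show g * ((a : G) * b) * g⁻¹ = (g * a * g⁻¹) * (g * b * g⁻¹) by group)
    have e1 : detHom (σ.comp c : Representation ℂ L (Fin d → ℂ)) = detHom σ :=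
      detHom_eq_of_character_eq _ σ (funext fun x => hσinv g x)
    show detHom σ n' ^ m = detHom σ n ^ m
    rw [show n' = cn g n from Subtype.ext e]
    congr 1
    conv_rhs => rw [← e1]
    exact Units.ext rfl
  obtain ⟨Λ, hΛ⟩ := exists_extension_linear (p := p) P hLP
    (fun h => S.not_dvd_index (h.trans (Subgroup.index_dvd_of_le le_sup_right))) lam k hlk hdinv
    (detHom ρ ^ m) (fun n => by
      show detHom ρ (Subgroup.inclusion hLP n) ^ m = detHom σ n ^ m
      rw [hdetρ])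
  have hm0 : m ≠ 0 := fun h => hpm (h ▸ dvd_zero p)
  obtain ⟨T⟩ := exists_triple σ hσinv m hm0 Λ (fun n => by rw [hΛ]; rfl)
  -- the central group
  let Z : Subgroup T.Γ := T.f.ker
  have hZc : Z ≤ Subgroup.center T.Γ := T.central
  have hdm : ¬ p ∣ finrank ℂ (Fin d → ℂ) * m := hp.not_dvd_mul (hfd ▸ hνd) hpm
  have hZp : ¬ p ∣ Nat.card Z := fun h => by
    obtain ⟨z, hz⟩ := exists_prime_orderOf_dvd_card' p h
    refine hdm (hz ▸ orderOf_dvd_of_pow_eq_one (Subtype.ext ?_))
    exact T.exponent _ z.2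
  have := Fintype.ofFinite T.Γ
  have := Fintype.ofFinite Z
  have hΓ : Cfsg.IsPSolvable p T.Γ :=
    PLocal.isPSolvable_extension Z
      (PLocal.isPSolvable_of_card (Or.inr (Nat.Coprime.symm (hp.coprime_iff_not_dvd.mpr hZp))))
      (PLocal.isPSolvable_congr (QuotientGroup.quotientKerEquivOfSurjective T.f T.surj).symm
        (PLocal.isPSolvable_quotient hG L))
  have hZidx : Z.index ≤ n := by
    rw [Subgroup.index_eq_card,
      Nat.card_congr (QuotientGroup.quotientKerEquivOfSurjective T.f T.surj).toEquiv,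
      ← Subgroup.index_eq_card]
    exact hidx
  let q : G →* G ⧸ L := QuotientGroup.mk' L
  have hq : Function.Surjective q := QuotientGroup.mk'_surjective L
  obtain ⟨R, hR⟩ := exists_sylow_lift T.f T.surj (S.mapSurjective hq)
  rw [Sylow.coe_mapSurjective] at hR
  have hmapN : N.map q = Subgroup.normalizer (((S : Subgroup G).map q : Subgroup (G ⧸ L)) : Set (G ⧸ L)) := by
    have h1 : ((S : Subgroup G).map q).comap q = P := by
      rw [Subgroup.comap_map_eq, QuotientGroup.ker_mk', hP, sup_comm]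
    rw [hN, ← h1, ← Subgroup.comap_normalizer_eq_of_surjective _ hq,
      Subgroup.map_comap_eq_self_of_surjective hq]
  have hÛ : (N.map q).comap T.f = Subgroup.normalizer ((R : Subgroup T.Γ) : Set T.Γ) := by
    rw [hmapN, ← hR, Subgroup.comap_normalizer_eq_of_surjective _ T.surj, Subgroup.comap_map_eq,
      sup_comm]
    exact normalizer_central_sup hZc hZp R
  have hlt : ∀ (U : Subgroup G) (hLU : L ≤ U) (Û : Subgroup T.Γ)
      (hÛ : Û = (U.map q).comap T.f) (hle : Z ≤ Û),
      cnt p (Subgroup.inclusion hLU) (ν : L → ℂ) =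
        cnt p (Subgroup.inclusion hle) (fun z : Z => (T.l z : ℂ)) := by
    intro U hLU Û hÛ hle
    have h := T.count U hLU Û hÛ hle (fun x => ¬ p ∣ x)
    rw [hσ] at h
    refine h.trans (Nat.card_congr (Equiv.subtypeEquivRight fun β => and_congr_left fun _ => ?_))
    exact ⟨fun h' hd => h' (hd.mul_left _), fun h' => hp.not_dvd_mul (hfd ▸ hνd) h'⟩
  have hZR : Z ≤ Subgroup.normalizer ((R : Subgroup T.Γ) : Set T.Γ) := fun z hz =>
    Subgroup.centralizer_le_normalizer _
      (Subgroup.mem_centralizer_iff.mpr fun s _ => Subgroup.mem_center_iff.mp (hZc hz) s)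
  rw [etop, hlt ⊤ le_top ⊤ (by rw [Subgroup.map_top_of_surjective q hq, Subgroup.comap_top]) le_top,
    hlt N hLN _ hÛ.symm hZR]
  have etopΓ : cnt p Z.subtype (fun z : Z => (T.l z : ℂ)) =
      cnt p (Subgroup.inclusion (le_top : Z ≤ ⊤)) (fun z : Z => (T.l z : ℂ)) :=
    cnt_congr p Subgroup.topEquiv.symm (MulEquiv.refl Z) _ _ (fun n => rfl) _ _ fun n => rfl
  rw [← etopΓ]
  exact central_count IH hΓ Z hZidx hZc hZp R hZR ⟨_, isIrrCharacter_linear T.l⟩

omit [Fintype G] [Group G] in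
/-- The counts agree for invariant characters. -/
theorem mainBelow (n : ℕ) : MainBelow.{u} p n := by
  induction n with
  | zero => intro G _ _ _ L _ h; exact absurd h (Nat.not_lt_zero _)
  | succ n ih =>
    intro G _ _ hG L hLn h S ν hν hLN
    have := Fintype.ofFinite L
    exact main_step ih hG L (Nat.lt_succ_iff.mp h) S ν hν hLN

/-- Relative McKay equality over a character invariant under a Sylow subgroup. -/
theorem relative_count (hG : Cfsg.IsPSolvable p G) (L : Subgroup G) [hLn : L.Normal] [Fintype L]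
    (S : Sylow p G) (ν : Cfsg.IrrCharacter L)
    (hν : ∀ s ∈ (S : Subgroup G), conjFn hLn (ν : L → ℂ) s = (ν : L → ℂ)) (N : Subgroup G)
    (hN : N = Subgroup.normalizer ((L ⊔ (S : Subgroup G) : Subgroup G) : Set G)) (hLN : L ≤ N) :
    cnt p L.subtype (ν : L → ℂ) = cnt p (Subgroup.inclusion hLN) (ν : L → ℂ) := by
  have hp : p.Prime := Fact.out
  set T : Subgroup G := inertia hLn (ν : L → ℂ) with hT
  have hST : (S : Subgroup G) ≤ T := fun s hs => hν s hs
  have hLT : L ≤ T := le_inertia hLn (IsIrr.isClassFunction ν.2)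
  have hSN : (S : Subgroup G) ≤ N := hN ▸ le_sup_right.trans Subgroup.le_normalizer
  rw [cnt_inertia hLn ν.2 (T := T) (fun g => Iff.rfl)
    (fun h => S.not_dvd_index (h.trans (Subgroup.index_dvd_of_le hST))) hLT]
  have hLW : L ≤ N ⊓ T := le_inf hLN hLT
  rw [cnt_inertia_step (mainBelow (L.index + 1)) hG (Nat.lt_succ_self _) S ν hν hLT (N ⊓ T)
    (by rw [hN]) hLW]
  -- the correspondence inside `N`
  have := Fintype.ofFinite N
  let LN : Subgroup N := L.subgroupOf N
  let TN : Subgroup N := T.subgroupOf N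
  have hLNn : LN.Normal := hLn.subgroupOf N
  have := Fintype.ofFinite LN
  let eL : LN ≃* L := Subgroup.subgroupOfEquivOfLe hLN
  let νN : Cfsg.IrrCharacter LN := ⟨_, IsIrr.comp_surjective eL.toMonoidHom eL.surjective ν.2⟩
  have hTN : ∀ x : N, x ∈ TN ↔ conjFn hLNn (νN : LN → ℂ) x = (νN : LN → ℂ) := fun x => by
    constructor
    · exact fun h => funext fun k => (congrArg (ν : L → ℂ) (Subtype.ext rfl)).trans
        (congrFun (mem_inertia.mp h) (eL k))
    · intro h
      refine mem_inertia.mpr (funext fun k => ?_)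
      obtain ⟨k', rfl⟩ := eL.surjective k
      exact (congrArg (ν : L → ℂ) (Subtype.ext rfl)).trans (congrFun h k')
  have hidx : ¬ p ∣ TN.index := fun h => (S.subtype hSN).not_dvd_index
    (h.trans (Subgroup.index_dvd_of_le fun x hx => hST hx))
  have hle : LN ≤ TN := fun x hx => hLT hx
  have h := cnt_inertia hLNn νN.2 hTN hidx hle
  have e1 : cnt p LN.subtype (νN : LN → ℂ) = cnt p (Subgroup.inclusion hLN) (ν : L → ℂ) :=
    cnt_congr p (MulEquiv.refl N) eL _ _ (fun k => rfl) _ _ fun k => rfl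
  let eT : TN ≃* (N ⊓ T : Subgroup G) :=
    { toFun := fun w => ⟨((w : N) : G), (w : N).2, w.2⟩
      invFun := fun g => ⟨⟨g, g.2.1⟩, g.2.2⟩
      left_inv := fun w => rfl
      right_inv := fun g => rfl
      map_mul' := fun a b => rfl }
  have e2 : cnt p (Subgroup.inclusion hle) (νN : LN → ℂ) =
      cnt p (Subgroup.inclusion hLW) (ν : L → ℂ) :=
    cnt_congr p eT eL _ _ (fun k => rfl) _ _ fun k => rfl
  rw [← e2, ← h, e1]

end CfsgLib.Char.RelMcKay
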