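import Cfsg.Agent.Lib.Char.RelMcKay.GlaubermanBasic
import Cfsg.Agent.Lib.Char.RelMcKay.Basic
import Mathlib.GroupTheory.Sylow

/-!
# Characters of degree prime to `p` by invariant constituents
-/

set_option autoImplicit false
set_option linter.all false
set_option maxHeartbeats 1000000

namespace CfsgLib.Char.RelMcKay

open CfsgLib.CharAction CfsgLib.Clifford CfsgLib.CharDegree
open scoped ComplexConjugate Classical

universe u

variable {p : ℕ} [Fact p.Prime]

section

variable {G : Type u} [Group G] [Fintype G]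

/-- Degrees divide along an inclusion of a normal subgroup. -/
theorem deg_dvd_of_isOver {N X : Subgroup G} [hN : N.Normal] [Fintype N] (h : N ≤ X)
    (θ : Cfsg.IrrCharacter N) (χ : Cfsg.IrrCharacter X)
    (ho : IsOver (Subgroup.inclusion h) (θ : N → ℂ) (χ : X → ℂ)) :
    Cfsg.charDegree (θ : N → ℂ) ∣ Cfsg.charDegree (χ : X → ℂ) := by
  have := Fintype.ofFinite X
  let NX : Subgroup X := N.subgroupOf X
  have : NX.Normal := inferInstanceAs (N.subgroupOf X).Normal
  have := Fintype.ofFinite NX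
  let e : NX ≃* N := Subgroup.subgroupOfEquivOfLe h
  let θX : Cfsg.IrrCharacter NX := ⟨_, IsIrr.comp_surjective e.toMonoidHom e.surjective θ.2⟩
  have h1 : Cfsg.classInner (fun n : NX => (χ : X → ℂ) n) (θX : NX → ℂ) ≠ 0 := by
    show Cfsg.classInner (fun n : NX => (fun a : N => (χ : X → ℂ) (Subgroup.inclusion h a)) (e n))
      (fun n : NX => (θ : N → ℂ) (e n)) ≠ 0
    rw [classInner_comp_equiv e (fun a : N => (χ : X → ℂ) (Subgroup.inclusion h a))]
    exact (isOver_iff _ _ _).mp ho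
  have h2 := (ThreeDegrees.degree_dvd_of_over NX χ θX h1).1
  have h3 : Cfsg.charDegree (θX : NX → ℂ) = Cfsg.charDegree (θ : N → ℂ) := by
    show Cfsg.charDegree (fun n : NX => (θ : N → ℂ) (e n)) = _
    unfold Cfsg.charDegree
    simp only [map_one]
  rwa [h3] at h2

/-- Constituents considered on `K`. -/
def IsGoodBelow (p : ℕ) {K Z : Subgroup G} [Fintype Z] (hK : K.Normal) (S : Subgroup G)
    (hZK : Z ≤ K) (l : Cfsg.IrrCharacter Z) (θ : Cfsg.IrrCharacter K) : Prop :=
  (∀ s ∈ S, conjFn hK (θ : K → ℂ) s = (θ : K → ℂ)) ∧ ¬ p ∣ Cfsg.charDegree (θ : K → ℂ) ∧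
    Cfsg.classInner (resTo hZK (θ : K → ℂ)) (l : Z → ℂ) ≠ 0

/-- Counting through the invariant constituents. -/
theorem side_sum {K Z : Subgroup G} [hKn : K.Normal] [hZn : Z.Normal] [Fintype K] [Fintype Z]
    [Fintype (Cfsg.IrrCharacter K)] (hZK : Z ≤ K) (l : Cfsg.IrrCharacter Z)
    (hl : ∀ g, conjFn hZn (l : Z → ℂ) g = (l : Z → ℂ)) (S : Sylow p G) :
    Nat.card (Subgroup.normalizer ((S : Subgroup G) : Set G)) * cnt p Z.subtype (l : Z → ℂ) =
      ∑ θ : {θ // IsGoodBelow p hKn (S : Subgroup G) hZK l θ},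
        Nat.card (stab hKn (Subgroup.normalizer ((S : Subgroup G) : Set G)) (θ.1 : K → ℂ)) *
          cnt p (Subgroup.inclusion (le_inertia hKn (IsIrr.isClassFunction θ.1.2)))
            (θ.1 : K → ℂ) := by
  have hp : p.Prime := Fact.out
  let X : Cfsg.IrrCharacter G → Prop := fun χ =>
    ¬ p ∣ Cfsg.charDegree (χ : G → ℂ) ∧ IsOver Z.subtype (l : Z → ℂ) (χ : G → ℂ)
  have hex : ∀ χ, X χ → ∃ θ, IsGoodBelow p hKn (S : Subgroup G) hZK l θ ∧
      IsOver K.subtype (θ : K → ℂ) (χ : G → ℂ) := by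
    rintro χ ⟨hχd, hχ⟩
    obtain ⟨θ, hθd, hθ⟩ := PPrimeKernel.exists_constituent_not_dvd
      (IsChar.restrict K (IsIrr.isCharacter χ.2)) (n := Cfsg.charDegree (χ : G → ℂ))
      (cast_irrDegree χ).symm hχd
    have hidx : ¬ p ∣ (inertia hKn (θ : K → ℂ)).index := fun h => by
      have h1 := degree_eq (hN := hKn) θ.2 χ.2 hθ
      obtain ⟨e, he⟩ := IsChar.classInner_eq_natCast (IsChar.restrict K (IsIrr.isCharacter χ.2))
        (IsIrr.isCharacter θ.2)
      rw [he, ← cast_irrDegree χ, ← cast_irrDegree θ, ← Nat.cast_mul, ← Nat.cast_mul,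
        Nat.cast_inj] at h1
      exact hχd (h1 ▸ (h.mul_left e).mul_right _)
    set T := inertia hKn (θ : K → ℂ) with hT
    obtain ⟨R⟩ : Nonempty (Sylow p T) := inferInstance
    have hRG : ¬ p ∣ ((R : Subgroup T).map T.subtype).index := by
      rw [Subgroup.index_map_subtype]
      exact hp.not_dvd_mul R.not_dvd_index hidx
    let R' : Sylow p G := (R.isPGroup'.map T.subtype).toSylow hRG
    obtain ⟨g, hg⟩ := MulAction.exists_smul_eq G R' S
    have hg' : ∀ s ∈ (S : Subgroup G), g⁻¹ * s * g ∈ T := by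
      intro s hs
      rw [← hg, Sylow.coe_subgroup_smul, Subgroup.mem_pointwise_smul_iff_inv_smul_mem] at hs
      have h2 : g⁻¹ * s * g ∈ (R : Subgroup T).map T.subtype := by
        have h3 : (MulAut.conj g)⁻¹ • s = g⁻¹ * s * g := by simp [MulAut.smul_def]
        rw [← h3]
        exact hs
      exact Subgroup.map_subtype_le _ h2
    refine ⟨⟨_, isIrrCharacter_conjFn hKn θ.2 g⁻¹⟩, ⟨fun s hs => ?_, ?_, ?_⟩, ?_⟩
    · show conjFn hKn (conjFn hKn (θ : K → ℂ) g⁻¹) s = _
      rw [← conjFn_mul, show g⁻¹ * s = (g⁻¹ * s * g) * g⁻¹ by group, conjFn_mul,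
        show conjFn hKn (θ : K → ℂ) (g⁻¹ * s * g) = (θ : K → ℂ) from hg' s hs]
    · show ¬ p ∣ Cfsg.charDegree (conjFn hKn (θ : K → ℂ) g⁻¹)
      rwa [show Cfsg.charDegree (conjFn hKn (θ : K → ℂ) g⁻¹) = Cfsg.charDegree (θ : K → ℂ) by
        unfold Cfsg.charDegree
        rw [show conjFn hKn (θ : K → ℂ) g⁻¹ 1 = (θ : K → ℂ) 1 from
          congrArg (θ : K → ℂ) (Subtype.ext (by simp))]]
    · refine OddSection.over_of_constituent hZn hZK χ.2 l.2 hl ((isOver_subtype _ _).mp hχ)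
        (isIrrCharacter_conjFn hKn θ.2 g⁻¹) ?_
      conv_lhs => rw [show (fun t : K => (χ : G → ℂ) t) = fun t : K =>
        (fun t : K => (χ : G → ℂ) t) ((@MulAut.conjNormal G _ K hKn g⁻¹) t) from funext fun k =>
          ((IsIrr.isClassFunction χ.2) (k : G) g⁻¹).symm]
      show Cfsg.classInner _ (fun k => (θ : K → ℂ) ((@MulAut.conjNormal G _ K hKn g⁻¹) k)) ≠ 0
      rw [classInner_comp_equiv (@MulAut.conjNormal G _ K hKn g⁻¹) (fun t : K => (χ : G → ℂ) t)]
      exact hθ
    · rw [isOver_subtype]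
      show Cfsg.classInner _ (fun k => (θ : K → ℂ) ((@MulAut.conjNormal G _ K hKn g⁻¹) k)) ≠ 0
      conv_lhs => rw [show (fun t : K => (χ : G → ℂ) t) = fun t : K =>
        (fun t : K => (χ : G → ℂ) t) ((@MulAut.conjNormal G _ K hKn g⁻¹) t) from funext fun k =>
          ((IsIrr.isClassFunction χ.2) (k : G) g⁻¹).symm]
      rw [classInner_comp_equiv (@MulAut.conjNormal G _ K hKn g⁻¹) (fun t : K => (χ : G → ℂ) t)]
      exact hθ
  have hconj : ∀ χ θ θ', X χ → IsGoodBelow p hKn (S : Subgroup G) hZK l θ →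
      IsGoodBelow p hKn (S : Subgroup G) hZK l θ' → IsOver K.subtype (θ : K → ℂ) (χ : G → ℂ) →
      IsOver K.subtype (θ' : K → ℂ) (χ : G → ℂ) →
      ∃ n ∈ Subgroup.normalizer ((S : Subgroup G) : Set G),
        conjFn hKn (θ : K → ℂ) n = (θ' : K → ℂ) := by
    intro χ θ θ' _ hθ hθ' h1 h2
    obtain ⟨g, hg⟩ := OddSection.exists_conj_of_constituent hKn χ.2 θ.2 θ'.2
      ((isOver_subtype _ _).mp h1) ((isOver_subtype _ _).mp h2)
    set T := inertia hKn (θ' : K → ℂ) with hT
    have hST : (S : Subgroup G) ≤ T := fun s hs => hθ'.1 s hs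
    let S₂ : Sylow p G := g⁻¹ • S
    have hS₂T : (S₂ : Subgroup G) ≤ T := by
      intro s hs
      rw [Sylow.coe_subgroup_smul, Subgroup.mem_pointwise_smul_iff_inv_smul_mem] at hs
      have h3 : (MulAut.conj g⁻¹)⁻¹ • s = g * s * g⁻¹ := by simp [MulAut.smul_def]
      have hs' : g * s * g⁻¹ ∈ (S : Subgroup G) := by
        rw [← h3]
        exact hs
      show conjFn hKn (θ' : K → ℂ) s = (θ' : K → ℂ)
      rw [hg, ← conjFn_mul, show g * s = (g * s * g⁻¹) * g by group, conjFn_mul, hθ.1 _ hs']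
    obtain ⟨t, ht⟩ := MulAction.exists_smul_eq T (S₂.subtype hS₂T) (S.subtype hST)
    -- `t` moves `g⁻¹ S g` onto `S`
    have hn : g * (t : G)⁻¹ ∈ Subgroup.normalizer ((S : Subgroup G) : Set G) := by
      have h4 : ((t : G) * g⁻¹) • S = S := by
        rw [mul_smul]
        refine Sylow.ext ?_
        have h5 := congrArg (fun R : Sylow p T => (R : Subgroup T).map T.subtype) ht
        simp only [Sylow.coe_subgroup_smul, Sylow.coe_subtype, Subgroup.subgroupOf_map_subtype,
          inf_of_le_left hST] at h5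
        rw [← h5, Sylow.coe_subgroup_smul]
        ext x
        constructor
        · intro hx
          rw [Subgroup.mem_pointwise_smul_iff_inv_smul_mem] at hx
          have hxT : x ∈ T := by
            have h6 : (t : G)⁻¹ * x * (t : G) ∈ T := by
              have h7 : (MulAut.conj (t : G))⁻¹ • x = (t : G)⁻¹ * x * (t : G) := by
                simp [MulAut.smul_def]
              rw [← h7]; exact hS₂T hx
            have h8 := T.mul_mem (T.mul_mem t.2 h6) (T.inv_mem t.2)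
            simpa [mul_assoc] using h8
          refine ⟨⟨x, hxT⟩, ?_, rfl⟩
          rw [SetLike.mem_coe, Subgroup.mem_pointwise_smul_iff_inv_smul_mem, Subgroup.mem_subgroupOf]
          exact hx
        · rintro ⟨y, hy, rfl⟩
          rw [SetLike.mem_coe, Subgroup.mem_pointwise_smul_iff_inv_smul_mem, Subgroup.mem_subgroupOf] at hy
          rw [Subgroup.mem_pointwise_smul_iff_inv_smul_mem]
          exact hy
      have h9 := inv_mem (Sylow.smul_eq_iff_mem_normalizer.mp h4)
      rwa [mul_inv_rev, inv_inv] at h9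
    refine ⟨_, hn, ?_⟩
    rw [conjFn_mul, ← hg]
    exact T.inv_mem t.2
  have hst : ∀ θ θ' : Cfsg.IrrCharacter K, IsGoodBelow p hKn (S : Subgroup G) hZK l θ →
      ∀ n ∈ Subgroup.normalizer ((S : Subgroup G) : Set G),
      (θ' : K → ℂ) = conjFn hKn (θ : K → ℂ) n → IsGoodBelow p hKn (S : Subgroup G) hZK l θ' := by
    rintro θ θ' ⟨h1, h2, h3⟩ n hn e
    refine ⟨fun s hs => ?_, ?_, ?_⟩
    · have hs' : n * s * n⁻¹ ∈ (S : Subgroup G) := (Subgroup.mem_normalizer_iff.mp hn s).mp hs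
      rw [e, ← conjFn_mul, show n * s = (n * s * n⁻¹) * n by group, conjFn_mul, h1 _ hs']
    · rw [e, show Cfsg.charDegree (conjFn hKn (θ : K → ℂ) n) = Cfsg.charDegree (θ : K → ℂ) by
        unfold Cfsg.charDegree
        rw [show conjFn hKn (θ : K → ℂ) n 1 = (θ : K → ℂ) 1 from
          congrArg (θ : K → ℂ) (Subtype.ext (by simp))]]
      exact h2
    · rw [e]
      have e2 : resTo hZK (conjFn hKn (θ : K → ℂ) n) =
          fun z => resTo hZK (θ : K → ℂ) ((@MulAut.conjNormal G _ Z hZn n) z) := rfl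
      have e3 : (l : Z → ℂ) = fun z => (l : Z → ℂ) ((@MulAut.conjNormal G _ Z hZn n) z) :=
        (hl n).symm
      rw [e2, e3, classInner_comp_equiv (@MulAut.conjNormal G _ Z hZn n) (resTo hZK (θ : K → ℂ))]
      exact h3
  have horb := orbit_count hKn (Subgroup.normalizer ((S : Subgroup G) : Set G)) X
    (IsGoodBelow p hKn (S : Subgroup G) hZK l) hex hconj hst
  refine horb.trans (Finset.sum_congr rfl fun θ _ => ?_)
  congr 1
  obtain ⟨θ, hθS, hθd, hθl⟩ := θ
  have hidx : ¬ p ∣ (inertia hKn (θ : K → ℂ)).index := fun h =>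
    S.not_dvd_index (h.trans (Subgroup.index_dvd_of_le fun s hs => hθS s hs))
  show _ = cnt p (Subgroup.inclusion (le_inertia hKn (IsIrr.isClassFunction θ.2))) (θ : K → ℂ)
  rw [← cnt_inertia hKn θ.2 (T := inertia hKn (θ : K → ℂ)) (fun g => Iff.rfl) hidx]
  exact Nat.card_congr (Equiv.subtypeEquivRight fun χ =>
    ⟨fun h => ⟨h.1.1, h.2⟩, fun h => ⟨⟨h.1, (isOver_subtype _ _).mpr (OddSection.below hZK
      (IsIrr.isCharacter χ.2) θ.2 (IsIrr.isCharacter l.2) ((isOver_subtype _ _).mp h.2) hθl)⟩, h.2⟩⟩)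

end

end CfsgLib.Char.RelMcKay
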