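import Cfsg.Agent.Lib.Char.RelMcKay.PairCount
import Cfsg.Agent.Lib.ClassSizes.Counting

/-!
# At most `k(G/N)` irreducible characters lie over an invariant character of `N`
-/

set_option autoImplicit false
set_option linter.all false
set_option maxHeartbeats 400000

namespace CfsgLib.Char.RelMcKay

open CfsgLib.CharExt CfsgLib.CharDegree CfsgLib.CharAction
open scoped ComplexConjugate Classical commutatorElement
open Module

universe u v

/-- The count over a central linear character is at most the class number of the quotient. -/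
theorem card_over_central_le {Γ : Type u} [Group Γ] [Fintype Γ] {Z : Subgroup Γ} [Fintype Z] [Z.Normal]
    (hZ : Z ≤ Subgroup.center Γ) (l : Z →* ℂˣ) :
    Nat.card {χ : Cfsg.IrrCharacter Γ // IsOver Z.subtype (fun z => (l z : ℂ)) (χ : Γ → ℂ)} ≤
      Nat.card (ConjClasses (Γ ⧸ Z)) := by
  classical
  have := Fintype.ofFinite (Γ ⧸ Z)
  have h := card_over_central hZ l
  set k := Nat.card {χ : Cfsg.IrrCharacter Γ // IsOver Z.subtype (fun z => (l z : ℂ)) (χ : Γ → ℂ)}
  -- the terms have norm at most one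
  have h1 : (Nat.card Γ : ℝ) * Nat.card Z * k ≤
      (∑ g : Γ, ∑ y : Γ, if ⁅y, g⁆ ∈ Z then (1 : ℝ) else 0) := by
    have h2 := congrArg norm h
    rw [norm_mul, norm_mul, Complex.norm_natCast, Complex.norm_natCast, Complex.norm_natCast] at h2
    rw [h2]
    refine (norm_sum_le _ _).trans (Finset.sum_le_sum fun g _ => (norm_sum_le _ _).trans
      (Finset.sum_le_sum fun y _ => ?_))
    by_cases hy : ⁅y, g⁆ ∈ Z
    · rw [dif_pos hy, if_pos hy, Complex.norm_conj, norm_hom_units]
    · rw [dif_neg hy, if_neg hy, norm_zero]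
  -- the pairs commuting modulo `Z`
  have hpairs : (∑ g : Γ, ∑ y : Γ, if ⁅y, g⁆ ∈ Z then (1 : ℕ) else 0) ≤
      Nat.card Z * Nat.card Z * (Nat.card (ConjClasses (Γ ⧸ Z)) * Nat.card (Γ ⧸ Z)) := by
    let π := QuotientGroup.mk' Z
    have hπ : Function.Surjective π := QuotientGroup.mk'_surjective Z
    have hk : Nat.card π.ker = Nat.card Z := by rw [QuotientGroup.ker_mk']
    let F : Γ ⧸ Z → Γ ⧸ Z → ℕ := fun a b => if a * b = b * a then 1 else 0
    have e : ∀ g y : Γ, (if ⁅y, g⁆ ∈ Z then (1 : ℕ) else 0) = F (π g) (π y) := fun g y => by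
      refine if_congr ?_ rfl rfl
      rw [← QuotientGroup.eq_one_iff, ← QuotientGroup.mk'_apply Z, map_commutatorElement,
        commutatorElement_eq_one_iff_mul_comm]
      exact eq_comm
    have hfib : ∀ (f : Γ ⧸ Z → ℕ), ∑ g : Γ, f (π g) = Nat.card Z * ∑ q, f q := by
      intro f
      rw [← Finset.sum_fiberwise Finset.univ (fun g : Γ => π g), Finset.mul_sum]
      refine Finset.sum_congr rfl fun q _ => ?_
      obtain ⟨a, rfl⟩ := hπ q
      rw [Finset.sum_congr rfl (g := fun _ => f (π a)) fun g hg => by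
        rw [(Finset.mem_filter.1 hg).2], Finset.sum_const, smul_eq_mul]
      congr 1
      rw [← hk, ← Nat.card_eq_finsetCard]
      exact Nat.card_congr
        { toFun := fun g => ⟨a⁻¹ * g, by
            rw [MonoidHom.mem_ker, map_mul, map_inv, (Finset.mem_filter.1 g.2).2, inv_mul_cancel]⟩
          invFun := fun z => ⟨a * z, Finset.mem_filter.2 ⟨Finset.mem_univ _, by
            rw [map_mul, MonoidHom.mem_ker.1 z.2, mul_one]⟩⟩
          left_inv := fun g => Subtype.ext (mul_inv_cancel_left _ _)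
          right_inv := fun z => Subtype.ext (inv_mul_cancel_left _ _) }
    simp only [e]
    rw [hfib fun a => ∑ y : Γ, F a (π y)]
    simp only [hfib]
    rw [← Finset.mul_sum, ← mul_assoc]
    refine le_of_eq (congrArg _ ?_)
    rw [← CfsgLib.ClassSizes.sum_card_centralizer (Γ ⧸ Z)]
    refine Finset.sum_congr rfl fun a _ => ?_
    simp only [F]
    rw [Finset.sum_boole, Nat.cast_id, ← Nat.card_eq_finsetCard]
    exact Nat.card_congr (Equiv.subtypeEquivRight fun b => by
      simp [Subgroup.mem_centralizer_singleton_iff, eq_comm])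
  have h3 : (Nat.card Γ * Nat.card Z * k : ℕ) ≤
      Nat.card Z * Nat.card Z * (Nat.card (ConjClasses (Γ ⧸ Z)) * Nat.card (Γ ⧸ Z)) := by
    refine le_trans ?_ hpairs
    have : ((Nat.card Γ * Nat.card Z * k : ℕ) : ℝ) ≤
        ((∑ g : Γ, ∑ y : Γ, if ⁅y, g⁆ ∈ Z then (1 : ℕ) else 0 : ℕ) : ℝ) := by
      push_cast
      exact h1
    exact_mod_cast this
  rw [Subgroup.card_eq_card_quotient_mul_card_subgroup Z] at h3
  have hpos : 0 < Nat.card Z * Nat.card Z * Nat.card (Γ ⧸ Z) :=
    (Nat.mul_pos (Nat.mul_pos (Nat.card_pos (α := Z)) (Nat.card_pos (α := Z))) (Nat.card_pos (α := Γ ⧸ Z)))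
  refine Nat.le_of_mul_le_mul_left ?_ hpos
  calc _ = Nat.card (Γ ⧸ Z) * Nat.card Z * Nat.card Z * k := by ring
    _ ≤ _ := h3
    _ = _ := by ring

/-- At most `k(G/N)` irreducible characters lie over an invariant irreducible character of `N`. -/
theorem card_over_le {G : Type u} [Group G] [Fintype G] {N : Subgroup G} [hN : N.Normal] [Fintype N]
    (θ : Cfsg.IrrCharacter N) (hinv : ∀ g n, (θ : N → ℂ) (cn g n) = (θ : N → ℂ) n) :
    Nat.card {χ : Cfsg.IrrCharacter G //
      Cfsg.classInner (fun n : N => (χ : G → ℂ) n) (θ : N → ℂ) ≠ 0} ≤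
      Nat.card (ConjClasses (G ⧸ N)) := by
  obtain ⟨d, σ, hσ, hc⟩ := θ.2
  have := hσ
  have hinvσ : ∀ g n, σ.character (cn g n) = σ.character n := fun g n => by
    rw [hc]; exact hinv g n
  obtain ⟨T⟩ := exists_triple σ hinvσ (Nat.card N) Nat.card_pos.ne' 1
    (fun n => by rw [← map_pow, pow_card_eq_one', map_one]; rfl)
  obtain ⟨Γ, f, hsurj, hcentral, -, l, homega, hcount⟩ := T
  have := Fintype.ofFinite Γ
  have := Fintype.ofFinite f.ker
  have hΓ : Nat.card {χ : Cfsg.IrrCharacter G // IsOver N.subtype σ.character (χ : G → ℂ)} =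
      Nat.card {β : Cfsg.IrrCharacter Γ //
        IsOver f.ker.subtype (fun z => (l z : ℂ)) (β : Γ → ℂ)} := by
    have htop : (⊤ : Subgroup Γ) = ((⊤ : Subgroup G).map (QuotientGroup.mk' N)).comap f := by
      rw [Subgroup.map_top_of_surjective _ (QuotientGroup.mk'_surjective N), Subgroup.comap_top]
    have h := hcount ⊤ le_top ⊤ htop le_top (fun _ => True)
    have h1 := card_over_congr (fun _ => True) (Subgroup.topEquiv (G := G)) (MulEquiv.refl N)
      (Subgroup.inclusion (le_top : N ≤ ⊤)) N.subtype (fun n => rfl) σ.character σ.character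
      (fun n => rfl)
    have h2 := card_over_congr (fun _ => True) (Subgroup.topEquiv (G := Γ)) (MulEquiv.refl f.ker)
      (Subgroup.inclusion (le_top : f.ker ≤ ⊤)) f.ker.subtype (fun n => rfl)
      (fun z => (l z : ℂ)) (fun z => (l z : ℂ)) (fun n => rfl)
    simp only [true_and] at h h1 h2
    rw [← h1, ← h2, h]
  have hset : Nat.card {χ : Cfsg.IrrCharacter G //
      Cfsg.classInner (fun n : N => (χ : G → ℂ) n) (θ : N → ℂ) ≠ 0} =
      Nat.card {χ : Cfsg.IrrCharacter G // IsOver N.subtype σ.character (χ : G → ℂ)} :=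
    Nat.card_congr (Equiv.subtypeEquivRight fun χ => by rw [isOver_subtype, hc])
  rw [hset, hΓ]
  refine (card_over_central_le hcentral l).trans (le_of_eq ?_)
  exact Nat.card_congr ((ConjClasses.map_surjective (f :=
    (QuotientGroup.quotientKerEquivOfSurjective f hsurj).toMonoidHom)
      (QuotientGroup.quotientKerEquivOfSurjective f hsurj).surjective |> fun hs =>
    Equiv.ofBijective _ ⟨fun a b hab => by
      obtain ⟨a, rfl⟩ := ConjClasses.mk_surjective a
      obtain ⟨b, rfl⟩ := ConjClasses.mk_surjective b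
      obtain ⟨c, hc'⟩ := isConj_iff.1 (ConjClasses.mk_eq_mk_iff_isConj.1 hab)
      refine ConjClasses.mk_eq_mk_iff_isConj.2 (isConj_iff.2
        ⟨(QuotientGroup.quotientKerEquivOfSurjective f hsurj).symm c, ?_⟩)
      exact (QuotientGroup.quotientKerEquivOfSurjective f hsurj).injective (by simpa using hc'), hs⟩))

end CfsgLib.Char.RelMcKay
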